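import Cfsg.Agent.Lib.TameBlock.Proj

/-!
# Defect groups with no automorphisms of odd order
-/

set_option autoImplicit false
set_option linter.unusedSectionVars false
set_option linter.style.haveILetI false

namespace Cfsg.Agent.TameBlock

open Cfsg Blocks
open Cfsg.Agent.BrauerPairs (blkG hasBlocks isBlockIdem_blkG)
open scoped Classical

universe u

variable {G : Type u} [Group G] [Fintype G] {M : Ideal AlgInt} [M.IsMaximal]
  [Fact (Nat.Prime 2)] [CharP (AlgInt ⧸ M) 2] {b : Set (IrrCharacter G)}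

/-- If the elements of odd order normalizing a subgroup of the defect group centralize it, the
block is nilpotent. -/
theorem isNilpotentBlock_of_odd_fix (hb : IsPBlock M b) {D : Subgroup G}
    (hD : IsDefectGroup 2 M b D)
    (h : ∀ x : G, Odd (orderOf x) → ∀ Q : Subgroup G, Q ≤ D → (∀ q ∈ Q, x * q * x⁻¹ ∈ Q) →
      ∀ q ∈ Q, x * q * x⁻¹ = q) : IsNilpotentBlock 2 M b := by
  obtain ⟨e', -, hmax⟩ := BrauerPairs.exists_isMax_of_isDefectGroup hb hD
  refine (BrauerPairs.isNilpotentBlock_iff hb).2 fun Q f hQf x hx hreg => ?_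
  obtain ⟨k, hk⟩ := BrauerPairs.exists_conj_ple (fun L => hasBlocks M L)
    (isBlockIdem_blkG hb) hmax hQf
  have hle : Q.map (MulAut.conj k).toMonoidHom ≤ D := BrauerPairs.PLE.le hk
  refine Subgroup.mem_centralizer_iff.2 fun q hq => ?_
  have hodd : Odd (orderOf (k * x * k⁻¹)) := by
    rw [← MulAut.conj_apply, MulEquiv.orderOf_eq]
    exact Nat.odd_iff.2 (Nat.two_dvd_ne_zero.1 hreg)
  have hnorm : ∀ w ∈ Q.map (MulAut.conj k).toMonoidHom,
      k * x * k⁻¹ * w * (k * x * k⁻¹)⁻¹ ∈ Q.map (MulAut.conj k).toMonoidHom := by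
    rintro _ ⟨w, hw, rfl⟩
    refine ⟨x * w * x⁻¹, (Subgroup.mem_normalizer_iff.1 hx.1 w).1 hw, ?_⟩
    simp only [MulEquiv.coe_toMonoidHom, MulAut.conj_apply]
    group
  have hfix := h _ hodd _ hle hnorm (MulAut.conj k q) ⟨q, hq, rfl⟩
  have hfix' : MulAut.conj k (x * q * x⁻¹) = MulAut.conj k q := by
    refine Eq.trans ?_ hfix
    simp only [MulAut.conj_apply]
    group
  exact (mul_inv_eq_iff_eq_mul.1 ((MulAut.conj k).injective hfix')).symm

/-- An element of odd order with a power prime to its order fixing `q` fixes `q`. -/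
theorem fix_of_pow_fix {x q : G} (hodd : Odd (orderOf x)) (k : ℕ)
    (h : x ^ 2 ^ k * q * (x ^ 2 ^ k)⁻¹ = q) : x * q * x⁻¹ = q := by
  obtain ⟨m, hm⟩ := exists_pow_eq_self_of_coprime (x := x)
    (n := 2 ^ k) ((Nat.coprime_two_left.2 hodd).pow_left k)
  have hc : Commute (x ^ 2 ^ k) q := mul_inv_eq_iff_eq_mul.1 h
  have := hc.pow_left m
  rw [hm] at this
  exact mul_inv_eq_iff_eq_mul.2 this.eq

/-- An element of odd order normalizing a cyclic `2`-group centralizes it. -/
theorem fix_of_le_zpowers {σ x : G} {a : ℕ} (hσ : orderOf σ = 2 ^ (a + 1)) (hodd : Odd (orderOf x))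
    {Q : Subgroup G} (hQ : Q ≤ Subgroup.zpowers σ) (hx : ∀ q ∈ Q, x * q * x⁻¹ ∈ Q) :
    ∀ q ∈ Q, x * q * x⁻¹ = q := by
  haveI : IsCyclic Q := isCyclic_of_injective (Subgroup.inclusion hQ) (Subgroup.inclusion_injective hQ)
  obtain ⟨⟨g, hg⟩, hgen⟩ := IsCyclic.exists_generator (α := Q)
  obtain ⟨j, hj⟩ : x * g * x⁻¹ ∈ Submonoid.powers g := by
    obtain ⟨i, hi⟩ := Subgroup.mem_zpowers_iff.1 (hgen ⟨_, hx g hg⟩)
    rw [← IsOfFinOrder.mem_powers_iff_mem_zpowers (isOfFinOrder_of_finite g) |>.symm]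
    exact ⟨i, congrArg Subtype.val hi⟩
  change g ^ j = _ at hj
  have hpow : ∀ n : ℕ, x ^ n * g * (x ^ n)⁻¹ = g ^ j ^ n := by
    intro n
    induction n with
    | zero => simp
    | succ n ih =>
      calc x ^ (n + 1) * g * (x ^ (n + 1))⁻¹ = x * (x ^ n * g * (x ^ n)⁻¹) * x⁻¹ := by
            rw [pow_succ']; group
        _ = (x * g * x⁻¹) ^ j ^ n := by rw [ih, conj_pow]
        _ = g ^ j ^ (n + 1) := by rw [← hj, ← pow_mul, pow_succ']
  intro q hq
  have hfixg : x * g * x⁻¹ = g := by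
    by_cases hg1 : g = 1
    · rw [hg1]; group
    obtain ⟨i, -, hgo⟩ := (Nat.dvd_prime_pow Nat.prime_two).1
      (show orderOf g ∣ 2 ^ (a + 1) by
        obtain ⟨i, hi⟩ := Subgroup.mem_zpowers_iff.1 (hQ hg)
        rw [← hσ, ← hi]
        exact orderOf_dvd_of_mem_zpowers (Subgroup.zpow_mem_zpowers σ i))
    have hjc : (2 ^ i).Coprime j := by
      rw [← hgo]
      have hord : orderOf (g ^ j) = orderOf g := by rw [hj, ← MulAut.conj_apply, MulEquiv.orderOf_eq]
      rw [orderOf_pow] at hord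
      have hd := Nat.gcd_dvd_left (orderOf g) j
      rcases eq_or_ne (Nat.gcd (orderOf g) j) 1 with h | h
      · exact h
      · exfalso
        have h0 : 0 < Nat.gcd (orderOf g) j := Nat.gcd_pos_of_pos_left _ (orderOf_pos g)
        have : orderOf g / Nat.gcd (orderOf g) j < orderOf g :=
          Nat.div_lt_self (orderOf_pos g) (by omega)
        omega
    refine fix_of_pow_fix hodd (i - 1) ?_
    rw [hpow]
    rcases i with _ | i
    · exact absurd (orderOf_eq_one_iff.1 (by simpa using hgo)) hg1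
    rw [Nat.add_sub_cancel]
    conv_rhs => rw [← pow_one g]
    rw [pow_eq_pow_iff_modEq, hgo]
    have := Nat.ModEq.pow_totient hjc.symm
    rwa [Nat.totient_prime_pow Nat.prime_two (Nat.succ_pos i), Nat.succ_sub_one,
      show (2 : ℕ) - 1 = 1 from rfl, mul_one] at this
  obtain ⟨i, hi⟩ := Subgroup.mem_zpowers_iff.1 (hgen ⟨q, hq⟩)
  rw [show q = g ^ i from (congrArg Subtype.val hi).symm, ← conj_zpow, hfixg]

/-- An element of odd order normalizing a subgroup of a group of order four and centralizing one of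
its nontrivial elements centralizes it. -/
theorem fix_of_le_four {D : Subgroup G} (hD : Nat.card D = 4) {y x : G} (hy : y ∈ D) (hy1 : y ≠ 1)
    (hodd : Odd (orderOf x)) (hxy : x * y * x⁻¹ = y) {Q : Subgroup G} (hQ : Q ≤ D)
    (hx : ∀ q ∈ Q, x * q * x⁻¹ ∈ Q) : ∀ q ∈ Q, x * q * x⁻¹ = q := by
  intro q hq
  refine fix_of_pow_fix hodd 1 ?_
  rw [pow_one]
  by_contra hne
  have hx1 : x * q * x⁻¹ ≠ q := fun h => hne (by
    calc x ^ 2 * q * (x ^ 2)⁻¹ = x * (x * q * x⁻¹) * x⁻¹ := by rw [pow_two]; group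
      _ = q := by rw [h, h])
  have hq1 : q ≠ 1 := fun h => hx1 (by rw [h]; group)
  have hqy : q ≠ y := fun h => hx1 (h ▸ hxy)
  have hinj : ∀ {a b : G}, x * a * x⁻¹ = x * b * x⁻¹ → a = b := fun h =>
    mul_left_cancel (mul_right_cancel h)
  have hx1' : ∀ a, x * a * x⁻¹ = x * (x * q * x⁻¹) * x⁻¹ → a = x * q * x⁻¹ := fun a h => hinj h
  set q₁ := x * q * x⁻¹ with hq₁
  set q₂ := x * q₁ * x⁻¹ with hq₂
  have hS : ({1, y, q, q₁, q₂} : Finset G).card ≤ 4 := by
    rw [← hD, ← Nat.card_eq_finsetCard]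
    refine Nat.card_le_card_of_injective
      (fun v => (⟨v.1, by
        have hv := v.2
        simp only [Finset.mem_insert, Finset.mem_singleton] at hv
        rcases hv with h | h | h | h | h <;> rw [h]
        exacts [one_mem D, hy, hQ hq, hQ (hx q hq), hQ (hx _ (hx q hq))]⟩ : D))
      fun a b h => Subtype.ext (congrArg (fun v : D => (v : G)) h)
  have h5 : ({1, y, q, q₁, q₂} : Finset G).card = 5 := by
    have a1 : q₁ ≠ 1 := fun h => hq1 (by
      refine hinj (a := q) (b := 1) ?_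
      rw [← hq₁, h]; group)
    have a2 : q₁ ≠ y := fun h => hqy (hinj (a := q) (b := y) (by rw [← hq₁, h, hxy]))
    have a3 : q₂ ≠ 1 := fun h => a1 (hinj (a := q₁) (b := 1) (by rw [← hq₂, h]; group))
    have a4 : q₂ ≠ y := fun h => a2 (hinj (a := q₁) (b := y) (by rw [← hq₂, h, hxy]))
    have a5 : q₂ ≠ q₁ := fun h => hx1 (hinj (a := q₁) (b := q) (by rw [← hq₂, h, hq₁]))
    have a6 : q₂ ≠ q := fun h => hne (by
      conv_rhs => rw [← h]
      rw [hq₂, hq₁, pow_two]; group)
    rw [Finset.card_insert_of_notMem, Finset.card_insert_of_notMem, Finset.card_insert_of_notMem,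
      Finset.card_insert_of_notMem, Finset.card_singleton] <;>
      simp [hy1.symm, hq1.symm, hqy.symm, a1.symm, a2.symm, a3.symm, a4.symm, a5.symm, a6.symm,
        Ne.symm hx1]
  omega

end Cfsg.Agent.TameBlock
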