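import Cfsg.Agent.Lib.TameBlock.Proj
import Cfsg.Agent.Lib.Watanabe.Rho

/-!
# Subsections at central elements
-/

set_option autoImplicit false
set_option linter.unusedSectionVars false
set_option linter.style.haveILetI false

namespace Cfsg.Agent.TameBlock

open Cfsg Blocks MonoidAlgebra
open Cfsg.Agent.BrauerPairs (blk blkG IsBlockIdem br IsMax hasBlocks isBlockIdem_blkG regDot)
open Cfsg.Agent.Blocks.NilRank
open scoped Classical ComplexConjugate

universe u

variable {G : Type u} [Group G] [Fintype G] {M : Ideal AlgInt} [M.IsMaximal] {p : ℕ}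
  [hp : Fact p.Prime] [CharP (AlgInt ⧸ M) p] {B : Set (IrrCharacter G)} {P : Subgroup G}
  {e : MonoidAlgebra (AlgInt ⧸ M) G} {u : G}

theorem eU_central (hB : IsPBlock M B) (ha : IsMax p (blkG M B) (P, e)) (hu : u ∈ P)
    (hz : Subgroup.centralizer ({u} : Set G) = ⊤) : eU p P e u = blkG M B := by
  have hBi := isBlockIdem_blkG hB
  have h := (isPairOf_eU hBi ha.1 hu).2
  rw [BrauerPairs.br_eq_self fun g hg => absurd (by
    rw [centralizer_zpowers_eq, hz]; exact Subgroup.mem_top g) hg] at h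
  exact BrauerPairs.IsBlockIdem.eq_of_mul_ne_zero (hz ▸ isBlockIdem_eU ha.1.1 hu) hBi
    (by rw [h]; exact (isBlockIdem_eU ha.1.1 hu).ne_zero)

theorem blockRank_central (hB : IsPBlock M B) (ha : IsMax p (blkG M B) (P, e)) (hu : u ∈ P)
    (hz : Subgroup.centralizer ({u} : Set G) = ⊤) :
    blockRank p (blkSet M (Subgroup.centralizer ({u} : Set G)) (eU p P e u)) = blockRank p B := by
  rw [eU_central hB ha hu hz, ← Watanabe.blk_topEquiv hz B,
    blkSet_blk (BrauerPairs.isPBlock_mapBlock _ hB), Watanabe.blockRank_mapBlock]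

theorem blockRank_one (hB : IsPBlock M B) (ha : IsMax p (blkG M B) (P, e)) :
    blockRank p (blkSet M (Subgroup.centralizer ({(1 : G)} : Set G)) (eU p P e 1)) = blockRank p B :=
  blockRank_central hB ha (one_mem P) centralizer_one_eq_top

theorem mU_central (hpM : (p : AlgInt) ∈ M) (hB : IsPBlock M B) (ha : IsMax p (blkG M B) (P, e))
    (hu : u ∈ P) (hz : Subgroup.centralizer ({u} : Set G) = ⊤) {χ : IrrCharacter G} (hχ : χ ∈ B)
    (ψ : IrrCharacter G) :
    mU p P e u χ ψ = zScal χ.1 u * conj (zScal ψ.1 u) * regDot p χ.1 ψ.1 := by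
  set C := Subgroup.centralizer ({u} : Set G) with hC
  have hcard : Nat.card C = Nat.card G :=
    Nat.card_congr ((MulEquiv.subgroupCongr hz).trans Subgroup.topEquiv).toEquiv
  rw [mU, ← blkSet_eU_central hpM hB ha.1 hu hz, sectF, finsum_eq_sum_of_fintype, regDot, classInner,
    hcard, mul_left_comm (_ * conj _)]
  congr 1
  rw [Finset.mul_sum]
  refine Fintype.sum_equiv (MulEquiv.subgroupCongr hz |>.trans Subgroup.topEquiv).toEquiv _ _
    fun s => ?_
  show _ = zScal χ.1 u * conj (zScal ψ.1 u) * (Char.regFun p χ.1 (s : G) * conj (ψ.1 (s : G)))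
  by_cases hs : IsPRegular p s
  · have hs' : ¬ p ∣ orderOf (s : G) := by rw [Subgroup.orderOf_coe]; exact hs
    have hg : IsPPart p (u * (s : G)) u :=
      isPPart_mul (Subgroup.mem_centralizer_singleton_iff.1 s.2).symm
        (exists_orderOf_mem ha.1.1.1 hu) hs'
    have h := chiL_inducingSet hpM (exists_orderOf_mem ha.1.1.1 hu) hB χ
      (g := (⟨u * (s : G), mul_mem (Subgroup.mem_centralizer_singleton_iff.2 rfl) s.2⟩ :
        Subgroup.centralizer ({u} : Set G))) hg
    rw [if_pos hχ] at h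
    rw [if_pos hs, h, Char.regFun, if_neg hs', apply_zmul hz, apply_zmul hz, map_mul]
    ring
  · have hs' : p ∣ orderOf (s : G) := by rw [Subgroup.orderOf_coe]; exact not_not.1 hs
    rw [if_neg hs, Char.regFun, if_pos hs', zero_mul, mul_zero]

theorem mU_one (hpM : (p : AlgInt) ∈ M) (hB : IsPBlock M B) (ha : IsMax p (blkG M B) (P, e))
    {χ : IrrCharacter G} (hχ : χ ∈ B) (ψ : IrrCharacter G) :
    mU p P e 1 χ ψ = regDot p χ.1 ψ.1 := by
  rw [mU_central hpM hB ha (one_mem P) centralizer_one_eq_top hχ ψ]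
  simp [zScal, div_self (irr_one_ne_zero χ), div_self (irr_one_ne_zero ψ)]

/-- A central element of order dividing two acts by a sign. -/
theorem exists_zScal_int (hz : Subgroup.centralizer ({u} : Set G) = ⊤) (h2 : u * u = 1)
    (χ : IrrCharacter G) : ∃ s : ℤ, s * s = 1 ∧ zScal χ.1 u = (s : ℂ) := by
  have h : zScal χ.1 u ^ 2 = 1 := by
    have h1 : χ.1 1 = zScal χ.1 u * χ.1 u := by rw [← apply_zmul hz χ u, h2]
    have hu' : χ.1 u = zScal χ.1 u * χ.1 1 := by rw [← apply_zmul hz χ 1, mul_one]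
    refine mul_right_cancel₀ (irr_one_ne_zero χ) ?_
    rw [pow_two, one_mul, mul_assoc, ← hu', ← h1]
  rcases sq_eq_one_iff.1 h with h | h
  exacts [⟨1, one_mul 1, by simp [h]⟩, ⟨-1, by norm_num, by simp [h]⟩]

end Cfsg.Agent.TameBlock
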