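import Cfsg.Agent.Lib.TameBlock.Param

/-!
# The Gram relations of the rotation columns

`Cols B M₀ r m`: the columns `χ ↦ ev (m χ) i` (`i` generic) are orthogonal up to `i ~ r i`, of norm
`2M₀`, and orthogonal to the degrees. Hence the integer vectors `χ ↦ Σ_a c a · m χ a`, for `c` with
`Σ c = Σ (-1)^a c = 0`, have inner products `Σ_a c a (c' a + c' (r a))` and are orthogonal to the
degrees.
-/

set_option autoImplicit false
set_option linter.unusedSectionVars false
set_option linter.style.haveILetI false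

namespace Cfsg.Agent.TameBlock

open Cfsg Blocks MonoidAlgebra
open Cfsg.Agent.BrauerPairs (blk blkG conjEl IsMax IsPair)
open Cfsg.Agent.Blocks.NilRank
open ZMod (stdAddChar)
open scoped Classical ComplexConjugate

universe u

/-- `Σ_a c a · m a`. -/
def dotc {N : ℕ} [NeZero N] (c m : ZMod N → ℤ) : ℤ := ∑ a, c a * m a

/-- `Σ c = Σ (-1)^a c = 0`. -/
def Adm {N : ℕ} [NeZero N] (c : ZMod N → ℤ) : Prop :=
  (∑ a, c a = 0) ∧ ∑ a, sgnA a * c a = 0

variable {G : Type u} [Group G] [Fintype G]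

/-- The orthogonality relations of rotation columns. -/
structure Cols (B : Set (IrrCharacter G)) (M₀ r : ℕ) [NeZero (2 * M₀)]
    (m : IrrCharacter G → ZMod (2 * M₀) → ℤ) : Prop where
  symm : ∀ χ a, m χ ((r : ZMod (2 * M₀)) * a) = m χ a
  orth : ∀ i ∈ gens M₀, ∀ j ∈ gens M₀,
    ∑ χ ∈ bFin B, conj (ev (m χ) i) * ev (m χ) j =
      if j = i ∨ j = (r : ZMod (2 * M₀)) * i then ((2 * M₀ : ℕ) : ℂ) else 0
  deg : ∀ i ∈ gens M₀, ∑ χ ∈ bFin B, χ.1 1 * ev (m χ) i = 0

theorem mem_gens {M₀ : ℕ} [NeZero (2 * M₀)] {i : ZMod (2 * M₀)} :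
    i ∈ gens M₀ ↔ i ≠ 0 ∧ i ≠ (M₀ : ZMod (2 * M₀)) := by simp [gens]

theorem ev_eq_zero_of_adm {M₀ : ℕ} [NeZero (2 * M₀)] {c : ZMod (2 * M₀) → ℤ} (hc : Adm c)
    {i : ZMod (2 * M₀)} (hi : i ∉ gens M₀) : ev c i = 0 := by
  rw [mem_gens, not_and_or, not_not, not_not] at hi
  rcases hi with rfl | rfl
  · rw [ev_zero, hc.1, Int.cast_zero]
  · rw [ev_M, hc.2, Int.cast_zero]

theorem dotc_eq_sum {M₀ : ℕ} [NeZero (2 * M₀)] {c : ZMod (2 * M₀) → ℤ} (hc : Adm c)
    (m : ZMod (2 * M₀) → ℤ) :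
    ((2 * M₀ : ℕ) : ℂ) * (dotc c m : ℂ) = ∑ i ∈ gens M₀, ev m i * conj (ev c i) := by
  rw [dotc, Finset.sum_congr rfl fun a (_ : a ∈ (Finset.univ : Finset (ZMod (2 * M₀)))) =>
    mul_comm (c a) (m a), ← parseval]
  exact (Finset.sum_subset (Finset.subset_univ _) fun i _ hi => by
    rw [ev_eq_zero_of_adm hc hi, map_zero, mul_zero]).symm

namespace Cols

variable {B : Set (IrrCharacter G)} {M₀ r : ℕ} [NeZero (2 * M₀)]
  {m : IrrCharacter G → ZMod (2 * M₀) → ℤ} (hm : Cols B M₀ r m)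
include hm

/-- The degrees are orthogonal to the admissible combinations. -/
theorem deg_dotc {c : ZMod (2 * M₀) → ℤ} (hc : Adm c) :
    ∑ χ ∈ bFin B, (Char.degree χ : ℤ) * dotc c (m χ) = 0 := by
  have h : ((2 * M₀ : ℕ) : ℂ) * ∑ χ ∈ bFin B, χ.1 1 * (dotc c (m χ) : ℂ) = 0 := by
    rw [Finset.mul_sum, Finset.sum_congr rfl fun χ _ => by
      rw [mul_left_comm, dotc_eq_sum hc, Finset.mul_sum], Finset.sum_comm]
    refine Finset.sum_eq_zero fun i hi => ?_
    rw [Finset.sum_congr rfl fun χ _ => (mul_assoc _ _ _).symm, ← Finset.sum_mul, hm.deg i hi,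
      zero_mul]
  have h' := (mul_eq_zero.1 h).resolve_left (Nat.cast_ne_zero.2 (NeZero.ne _))
  simp only [Char.apply_one_eq_degree] at h'
  exact_mod_cast h'

/-- The inner products of the admissible combinations. -/
theorem gram (hr : (r : ZMod (2 * M₀)) * r = 1)
    (hgen : ∀ i ∈ gens M₀, (r : ZMod (2 * M₀)) * i ∈ gens M₀ ∧ (r : ZMod (2 * M₀)) * i ≠ i)
    {c c' : ZMod (2 * M₀) → ℤ} (hc : Adm c) (hc' : Adm c') :
    ∑ χ ∈ bFin B, dotc c (m χ) * dotc c' (m χ) =
      ∑ a, c a * (c' a + c' ((r : ZMod (2 * M₀)) * a)) := by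
  set N : ℂ := ((2 * M₀ : ℕ) : ℂ) with hN
  have hN0 : N ≠ 0 := Nat.cast_ne_zero.2 (NeZero.ne _)
  have hsub : ∑ a, c a * (c' a + c' ((r : ZMod (2 * M₀)) * a)) =
      ∑ a, c a * c' a + ∑ a, c a * (fun a => c' ((r : ZMod (2 * M₀)) * a)) a := by
    rw [← Finset.sum_add_distrib]
    exact Finset.sum_congr rfl fun a _ => by ring
  have key : N * N * ((∑ χ ∈ bFin B, dotc c (m χ) * dotc c' (m χ) : ℤ) : ℂ) =
      N * N * ((∑ a, c a * (c' a + c' ((r : ZMod (2 * M₀)) * a)) : ℤ) : ℂ) := by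
    have hrhs : N * N * ((∑ a, c a * (c' a + c' ((r : ZMod (2 * M₀)) * a)) : ℤ) : ℂ) =
        N * ∑ i, ev c i * conj (ev c' i) +
          N * ∑ i, ev c i * conj (ev (fun a => c' ((r : ZMod (2 * M₀)) * a)) i) := by
      rw [hsub, Int.cast_add, parseval, parseval, hN]
      ring
    rw [hrhs]
    have hl : N * N * ((∑ χ ∈ bFin B, dotc c (m χ) * dotc c' (m χ) : ℤ) : ℂ) =
        ∑ i ∈ gens M₀, ∑ j ∈ gens M₀, ev c i * conj (ev c' j) *
          ∑ χ ∈ bFin B, conj (ev (m χ) i) * ev (m χ) j := by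
      have hconj : ∀ χ, N * (dotc c (m χ) : ℂ) = ∑ i ∈ gens M₀, conj (ev (m χ) i) * ev c i := by
        intro χ
        have h := congrArg conj (dotc_eq_sum hc (m χ))
        simp only [map_mul, map_natCast, map_intCast, map_sum, Complex.conj_conj] at h
        exact h
      simp only [Finset.mul_sum]
      rw [Finset.sum_congr rfl fun i (_ : i ∈ gens M₀) => Finset.sum_comm, Finset.sum_comm,
        Int.cast_sum, Finset.mul_sum]
      refine Finset.sum_congr rfl fun χ _ => ?_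
      rw [Int.cast_mul, show N * N * ((dotc c (m χ) : ℂ) * (dotc c' (m χ) : ℂ)) =
        (N * (dotc c (m χ) : ℂ)) * (N * (dotc c' (m χ) : ℂ)) by ring, hconj, hN,
        dotc_eq_sum hc', Finset.sum_mul_sum]
      exact Finset.sum_congr rfl fun i _ => Finset.sum_congr rfl fun j _ => by ring
    rw [hl]
    calc ∑ i ∈ gens M₀, ∑ j ∈ gens M₀, ev c i * conj (ev c' j) *
          ∑ χ ∈ bFin B, conj (ev (m χ) i) * ev (m χ) j
        = ∑ i ∈ gens M₀, (ev c i * conj (ev c' i) * N +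
            ev c i * conj (ev c' ((r : ZMod (2 * M₀)) * i)) * N) := by
          refine Finset.sum_congr rfl fun i hi => ?_
          rw [Finset.sum_congr rfl fun j hj => by rw [hm.orth i hi j hj, mul_ite, mul_zero],
            ← Finset.sum_filter, show (gens M₀).filter (fun j => j = i ∨ j = (r : ZMod (2 * M₀)) * i) =
              {i, (r : ZMod (2 * M₀)) * i} by
              ext j
              simp only [Finset.mem_filter, Finset.mem_insert, Finset.mem_singleton]
              exact ⟨And.right, fun h => ⟨by rcases h with rfl | rfl; exacts [hi, (hgen i hi).1], h⟩⟩,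
            Finset.sum_pair (hgen i hi).2.symm]
      _ = _ := by
          rw [Finset.sum_add_distrib, Finset.mul_sum, Finset.mul_sum]
          refine congrArg₂ (· + ·) ?_ ?_
          · refine Finset.sum_subset (Finset.subset_univ _) (fun i _ hi => by
              rw [ev_eq_zero_of_adm hc hi, zero_mul, zero_mul]) |>.trans ?_
            exact Finset.sum_congr rfl fun i _ => by ring
          · refine Finset.sum_subset (Finset.subset_univ _) (fun i _ hi => by
              rw [ev_eq_zero_of_adm hc hi, zero_mul, zero_mul]) |>.trans ?_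
            exact Finset.sum_congr rfl fun i _ => by rw [ev_mul hr]; ring
  exact_mod_cast mul_left_cancel₀ (mul_ne_zero hN0 hN0) key

end Cols

section Sect

variable {M : Ideal AlgInt} [M.IsMaximal] [Fact (Nat.Prime 2)] [CharP (AlgInt ⧸ M) 2]
  {B : Set (IrrCharacter G)} {P : Subgroup G} {e : MonoidAlgebra (AlgInt ⧸ M) G} {σ τ : G}
  {M₀ r : ℕ} [NeZero (2 * M₀)]

/-- The rotation contributions are given by `m`, after a shift `δ` of the exponents. -/
structure RotSect (P : Subgroup G) (e : MonoidAlgebra (AlgInt ⧸ M) G) (σ : G) (M₀ r : ℕ)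
    [NeZero (2 * M₀)] (δ : ZMod (2 * M₀)) (m : IrrCharacter G → ZMod (2 * M₀) → ℤ) : Prop where
  shift : δ = 0 ∨ δ = (M₀ : ZMod (2 * M₀))
  symm : ∀ χ a, m χ ((r : ZMod (2 * M₀)) * a) = m χ a
  sect : ∀ i ∈ gens M₀, ∀ χ ψ,
    ((2 * M₀ : ℕ) : ℂ) * mU 2 P e (rot σ (i + δ)) χ ψ = ev (m χ) i * conj (ev (m ψ) i)

theorem RotParam.rotSect {m : IrrCharacter G → ZMod (2 * M₀) → ℤ} {sg : IrrCharacter G → ℤ}
    (h : RotParam B P e σ M₀ r m sg) : RotSect P e σ M₀ r 0 m :=
  ⟨Or.inl rfl, h.symm, fun i hi χ ψ => by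
    rw [add_zero]
    exact h.sect i (mem_gens.1 hi).1 (mem_gens.1 hi).2 χ ψ⟩

namespace RotSect

variable {δ : ZMod (2 * M₀)} {m : IrrCharacter G → ZMod (2 * M₀) → ℤ}
  (hs : RotSect P e σ M₀ r δ m) (c : Ctx M B P e σ τ M₀ r)
include hs c

theorem shift_gen {i : ZMod (2 * M₀)} (hi : i ∈ gens M₀) : i + δ ∈ gens M₀ := by
  rw [mem_gens] at hi ⊢
  rcases hs.shift with h | h
  · rwa [h, add_zero]
  · rw [h]
    exact ⟨fun h' => hi.2 (by linear_combination h' - c.data.M_double),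
      fun h' => hi.1 (by linear_combination h')⟩

theorem shift_r (i : ZMod (2 * M₀)) :
    (r : ZMod (2 * M₀)) * (i + δ) = (r : ZMod (2 * M₀)) * i + δ := by
  rcases hs.shift with h | h <;> rw [h, mul_add]
  · rw [mul_zero]
  · rw [c.data.r_mul_M]

theorem norm {i : ZMod (2 * M₀)} (hi : i ∈ gens M₀) :
    ∑ χ ∈ bFin B, conj (ev (m χ) i) * ev (m χ) i = ((2 * M₀ : ℕ) : ℂ) := by
  obtain ⟨h0, hM⟩ := mem_gens.1 (hs.shift_gen c hi)
  calc _ = ∑ χ ∈ bFin B, ((2 * M₀ : ℕ) : ℂ) * mU 2 P e (rot σ (i + δ)) χ χ :=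
        Finset.sum_congr rfl fun χ _ => by rw [hs.sect i hi, mul_comm]
    _ = _ := by
      rw [← Finset.mul_sum, sum_mU_self c.pM c.block c.isMax (c.data.rot_mem _),
        c.blockRank_rot h0 hM, Nat.cast_one, mul_one]

theorem exists_ne_zero {i : ZMod (2 * M₀)} (hi : i ∈ gens M₀) :
    ∃ χ ∈ B, ev (m χ) i ≠ 0 := by
  obtain ⟨χ, hχ, hne⟩ := Finset.exists_ne_zero_of_sum_ne_zero
    (show ∑ χ ∈ bFin B, conj (ev (m χ) i) * ev (m χ) i ≠ 0 by
      rw [hs.norm c hi]; exact Nat.cast_ne_zero.2 (NeZero.ne _))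
  exact ⟨χ, mem_bFin.1 hχ, (mul_ne_zero_iff.1 hne).2⟩

/-- A subsection not conjugate to the rotation is orthogonal to its column. -/
theorem orth_other {i : ZMod (2 * M₀)} (hi : i ∈ gens M₀) {v : G} (hv : v ∈ P)
    (hne : ¬ Fus 2 P e v (rot σ (i + δ))) {χ : IrrCharacter G} (hχ : χ ∈ B) :
    ∑ ψ ∈ bFin B, mU 2 P e v χ ψ * ev (m ψ) i = 0 := by
  obtain ⟨φ, hφ, hne0⟩ := hs.exists_ne_zero c hi
  have h := orth c.pM c.block c.isMax hv (c.data.rot_mem _) hne hχ hφ
  have h2 : (∑ ψ ∈ bFin B, mU 2 P e v χ ψ * ev (m ψ) i) * conj (ev (m φ) i) = 0 := by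
    rw [Finset.sum_mul, ← mul_zero ((2 * M₀ : ℕ) : ℂ), ← h, Finset.mul_sum]
    refine Finset.sum_congr rfl fun ψ _ => ?_
    rw [mul_left_comm, hs.sect i hi, mul_assoc]
  exact (mul_eq_zero.1 h2).resolve_right (by simpa using hne0)

theorem cols : Cols B M₀ r m := by
  refine ⟨hs.symm, fun i hi j hj => ?_, fun i hi => ?_⟩
  · split_ifs with h
    · rcases h with rfl | rfl
      · exact hs.norm c hj
      · rw [← hs.norm c hi]
        exact Finset.sum_congr rfl fun χ _ => by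
          rw [ev_mul c.data.r_sq, show (fun a => m χ ((r : ZMod (2 * M₀)) * a)) = m χ from
            funext (hs.symm χ)]
    · rw [not_or] at h
      obtain ⟨h0, hM⟩ := mem_gens.1 (hs.shift_gen c hi)
      have hnf := c.not_fus_rot_rot h0 hM (j := j + δ) (fun h' => h.1 (add_right_cancel h'))
        (fun h' => h.2 (add_right_cancel (h'.trans (hs.shift_r c i))))
      obtain ⟨χ, hχ, hne0⟩ := hs.exists_ne_zero c hi
      have h' := hs.orth_other c hj (c.data.rot_mem _) hnf hχ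
      refine (mul_eq_zero.1 (?_ : ev (m χ) i *
        ∑ ψ ∈ bFin B, conj (ev (m ψ) i) * ev (m ψ) j = 0)).resolve_left hne0
      rw [← mul_zero ((2 * M₀ : ℕ) : ℂ), ← h', Finset.mul_sum, Finset.mul_sum]
      refine Finset.sum_congr rfl fun ψ _ => ?_
      linear_combination -(ev (m ψ) j) * hs.sect i hi χ ψ
  · obtain ⟨ψ, -, hne0⟩ := hs.exists_ne_zero c hi
    obtain ⟨h0, -⟩ := mem_gens.1 (hs.shift_gen c hi)
    set u := rot σ (i + δ) with hu
    obtain ⟨k, hk⟩ := exists_orderOf_mem c.isMax.1.1.1 (c.data.rot_mem (i + δ))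
    refine (mul_eq_zero.1 (?_ : conj (ev (m ψ) i) *
      ∑ χ ∈ bFin B, χ.1 1 * ev (m χ) i = 0)).resolve_left (by simpa using hne0)
    have hstep : ∀ χ : IrrCharacter G, conj (ev (m ψ) i) * (χ.1 1 * ev (m χ) i) =
        χ.1 1 * conj (((2 * M₀ : ℕ) : ℂ) * mU 2 P e u ψ χ) := fun χ => by
      rw [map_mul, map_natCast, hu, conj_mU c.pM c.pair (c.data.rot_mem _), hs.sect i hi]
      ring
    rw [Finset.mul_sum, Finset.sum_congr rfl fun χ _ => hstep χ]
    simp only [mU, sectF, finsum_eq_sum_of_fintype, map_mul, map_sum, map_inv₀, map_natCast,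
      Finset.mul_sum]
    rw [Finset.sum_comm]
    refine Finset.sum_eq_zero fun s _ => ?_
    by_cases hs' : IsPRegular 2 s
    swap
    · simp [hs']
    have hpp : IsPPart 2 (u * (s : G)) u :=
      isPPart_mul (Subgroup.mem_centralizer_singleton_iff.1 s.2).symm ⟨k, hk⟩
        (by rw [IsPRegular, Subgroup.orderOf_coe]; exact hs')
    have hsing : ¬ IsPRegular 2 (u * (s : G)) := fun hr => by
      have h1 := IsPPart.unique hpp ⟨u * (s : G), one_mul _, Commute.one_left _,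
        ⟨0, by rw [orderOf_one, pow_zero]⟩, hr⟩
      exact h0 (c.data.rot_eq_one h1)
    have hz := blockCoeff_eq_zero c.pM c.block hsing
    rw [blockCoeff_eq_sum] at hz
    have hz' := (mul_eq_zero.1 hz).resolve_left
      (inv_ne_zero (Nat.cast_ne_zero.2 Nat.card_pos.ne'))
    simp only [if_pos hs', map_mul, Complex.conj_conj]
    set K : ℂ := ((2 * M₀ : ℕ) : ℂ) * ((Nat.card (Subgroup.centralizer ({u} : Set G)) : ℂ)⁻¹ *
      conj (chiL ψ.1 (inclA _ (blockIdem (blkSet M (Subgroup.centralizer ({u} : Set G))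
        (eU 2 P e u))) * MonoidAlgebra.single (u * (s : G)) 1))) with hK
    have hz'' : ∑ χ ∈ bFin B, χ.1 1 * χ.1 (u * (s : G)) = 0 := by
      have h1 := congrArg conj hz'
      simp only [map_sum, map_mul, map_zero, Complex.conj_conj, Char.apply_one_eq_degree,
        map_natCast] at h1
      simpa only [bFin, Char.apply_one_eq_degree] using h1
    calc _ = ∑ χ ∈ bFin B, K * (χ.1 1 * χ.1 (u * (s : G))) :=
          Finset.sum_congr rfl fun χ _ => by rw [hK]; ring
      _ = 0 := by rw [← Finset.mul_sum, hz'', mul_zero]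

end RotSect

end Sect

end Cfsg.Agent.TameBlock
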