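import Mathlib.Analysis.Fourier.ZMod
import Mathlib.Data.ZMod.Basic
import Mathlib.Tactic

/-!
# Integral functions on `ℤ/2M₀` and their values at roots of unity
-/

set_option autoImplicit false
set_option linter.unusedSectionVars false

namespace Cfsg.Agent.TameBlock

open ZMod (stdAddChar)
open scoped ComplexConjugate

/-- The sign `(-1)^a`. -/
def sgnA {N : ℕ} (a : ZMod N) : ℤ := (-1) ^ a.val

theorem sgnA_sq {N : ℕ} (a : ZMod N) : sgnA a * sgnA a = 1 := by
  rw [sgnA, ← mul_pow]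
  simp

theorem sgnA_eq {N : ℕ} (a : ZMod N) : sgnA a = 1 ∨ sgnA a = -1 := by
  rcases Nat.even_or_odd a.val with h | h
  · exact Or.inl h.neg_one_pow
  · exact Or.inr h.neg_one_pow

variable {N : ℕ} [NeZero N]

/-- `Σ_a c a ζ^(a i)`. -/
noncomputable def ev (c : ZMod N → ℤ) (i : ZMod N) : ℂ := ∑ a, (c a : ℂ) * stdAddChar (a * i)

theorem conj_stdAddChar (a : ZMod N) : conj (stdAddChar a : ℂ) = stdAddChar (-a) := by
  rw [ZMod.stdAddChar_apply, ZMod.stdAddChar_apply, AddChar.map_neg_eq_inv,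
    Circle.coe_inv_eq_conj]

theorem stdAddChar_mul_conj (a : ZMod N) : (stdAddChar a : ℂ) * conj (stdAddChar a : ℂ) = 1 := by
  rw [conj_stdAddChar, ← AddChar.map_add_eq_mul, add_neg_cancel, AddChar.map_zero_eq_one]

theorem sum_stdAddChar_mul (t : ZMod N) :
    ∑ i : ZMod N, (stdAddChar (t * i) : ℂ) = if t = 0 then (N : ℂ) else 0 := by
  rw [Finset.sum_congr rfl fun i _ => by rw [mul_comm t i],
    AddChar.sum_mulShift t (ZMod.isPrimitive_stdAddChar N), ZMod.card]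
  split_ifs <;> simp

theorem ev_zero (c : ZMod N → ℤ) : ev c 0 = ((∑ a, c a : ℤ) : ℂ) := by
  simp [ev]

theorem conj_ev (c : ZMod N → ℤ) (i : ZMod N) : conj (ev c i) = ev c (-i) := by
  simp [ev, map_sum, conj_stdAddChar, mul_neg]

theorem parseval (c c' : ZMod N → ℤ) :
    ∑ i, ev c i * conj (ev c' i) = (N : ℂ) * ((∑ a, c a * c' a : ℤ) : ℂ) := by
  have h : ∀ i, ev c i * conj (ev c' i) =
      ∑ a, ∑ b, (c a : ℂ) * (c' b : ℂ) * stdAddChar ((a - b) * i) := by
    intro i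
    rw [conj_ev, ev, ev, Finset.sum_mul_sum]
    refine Finset.sum_congr rfl fun a _ => Finset.sum_congr rfl fun b _ => ?_
    rw [show (a - b) * i = a * i + b * -i by ring, AddChar.map_add_eq_mul]
    ring
  simp only [h]
  rw [Finset.sum_comm, Int.cast_sum, Finset.mul_sum]
  refine Finset.sum_congr rfl fun a _ => ?_
  rw [Finset.sum_comm, Finset.sum_congr rfl fun b _ => by
    rw [← Finset.mul_sum, sum_stdAddChar_mul, mul_ite, mul_zero]]
  simp only [sub_eq_zero, Finset.sum_ite_eq, Finset.mem_univ, if_true]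
  push_cast
  ring

section Two

variable {M₀ : ℕ} [NeZero (2 * M₀)]

theorem stdAddChar_M : (stdAddChar ((M₀ : ℕ) : ZMod (2 * M₀)) : ℂ) = -1 := by
  have hsq : (stdAddChar ((M₀ : ℕ) : ZMod (2 * M₀)) : ℂ) ^ 2 = 1 := by
    rw [← AddChar.map_nsmul_eq_pow, nsmul_eq_mul, Nat.cast_ofNat,
      show (2 : ZMod (2 * M₀)) * (M₀ : ZMod (2 * M₀)) = ((2 * M₀ : ℕ) : ZMod (2 * M₀)) by push_cast; rfl,
      ZMod.natCast_self, AddChar.map_zero_eq_one]
  rcases sq_eq_one_iff.1 hsq with h | h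
  · exfalso
    have h0 := ZMod.injective_stdAddChar (h.trans (AddChar.map_zero_eq_one stdAddChar).symm)
    rw [ZMod.natCast_eq_zero_iff] at h0
    have hpos := Nat.pos_of_ne_zero (NeZero.ne (2 * M₀))
    have hle := Nat.le_of_dvd (by omega) h0
    omega
  · exact h

theorem stdAddChar_mul_M (a : ZMod (2 * M₀)) :
    (stdAddChar (a * ((M₀ : ℕ) : ZMod (2 * M₀))) : ℂ) = (sgnA a : ℂ) := by
  rw [show a * ((M₀ : ℕ) : ZMod (2 * M₀)) = a.val • ((M₀ : ℕ) : ZMod (2 * M₀)) by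
    rw [nsmul_eq_mul, ZMod.natCast_zmod_val], AddChar.map_nsmul_eq_pow, stdAddChar_M, sgnA]
  push_cast
  rfl

theorem sgnA_add (a b : ZMod (2 * M₀)) : sgnA (a + b) = sgnA a * sgnA b := by
  have h : ((sgnA (a + b) : ℤ) : ℂ) = ((sgnA a * sgnA b : ℤ) : ℂ) := by
    push_cast
    rw [← stdAddChar_mul_M, ← stdAddChar_mul_M, ← stdAddChar_mul_M, add_mul, AddChar.map_add_eq_mul]
  exact_mod_cast h

theorem ev_M (c : ZMod (2 * M₀) → ℤ) :
    ev c ((M₀ : ℕ) : ZMod (2 * M₀)) = ((∑ a, sgnA a * c a : ℤ) : ℂ) := by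
  simp only [ev, stdAddChar_mul_M, Int.cast_sum, Int.cast_mul]
  exact Finset.sum_congr rfl fun a _ => mul_comm _ _

end Two

theorem ev_mul {c : ZMod N → ℤ} {s : ZMod N} (hs : s * s = 1) (i : ZMod N) :
    ev c (s * i) = ev (fun a => c (s * a)) i := by
  refine Finset.sum_bij' (fun a _ => s * a) (fun a _ => s * a) (fun a _ => Finset.mem_univ _)
    (fun a _ => Finset.mem_univ _) (fun a _ => ?_) (fun a _ => ?_) fun a _ => ?_
  · rw [← mul_assoc, hs, one_mul]
  · rw [← mul_assoc, hs, one_mul]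
  · simp only
    rw [show s * (s * a) = a by rw [← mul_assoc, hs, one_mul],
      show s * a * i = a * (s * i) by ring]

end Cfsg.Agent.TameBlock
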