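import Cfsg.Agent.Lib.TameBlock.GData

/-!
# Orthogonality, valuations and positivity in the whole group

The vectors of `GData` are orthogonal to the rotation columns; `4 M₀ m_z(χ, ψ)` is an integer whose
valuation, for `ψ` of height zero, is the height of `χ`.
-/

set_option autoImplicit false
set_option linter.unusedSectionVars false
set_option linter.style.haveILetI false

namespace Cfsg.Agent.TameBlock

open Cfsg Blocks MonoidAlgebra
open Cfsg.Agent.BrauerPairs (blk blkG conjEl IsMax IsPair regDot regDot_comm)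
open Cfsg.Agent.Blocks.NilRank
open Star (ind)
open scoped Classical ComplexConjugate

universe u

variable {G : Type u} [Group G] [Fintype G] {M : Ideal AlgInt} [M.IsMaximal] [Fact (Nat.Prime 2)]
  [CharP (AlgInt ⧸ M) 2] {B : Set (IrrCharacter G)} {P : Subgroup G}
  {e : MonoidAlgebra (AlgInt ⧸ M) G} {σ τ : G} {M₀ r : ℕ} [NeZero (2 * M₀)]
  {oH : ℕ} {δ : ZMod (2 * M₀)} {m : IrrCharacter G → ZMod (2 * M₀) → ℤ}
  {A U₀ U₁ : IrrCharacter G → ℤ} {w g₀ g₁ : ℤ}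

/-- Orthogonal to the rotation columns. -/
def ColPerp (B : Set (IrrCharacter G)) (M₀ : ℕ) [NeZero (2 * M₀)]
    (m : IrrCharacter G → ZMod (2 * M₀) → ℤ) (v : IrrCharacter G → ℤ) : Prop :=
  ∀ i ∈ gens M₀, ∑ χ ∈ bFin B, (v χ : ℂ) * ev (m χ) i = 0

theorem ColPerp.sub {v : IrrCharacter G → ℤ} (h : ColPerp B M₀ m v) {a b : ZMod (2 * M₀)}
    (hab : sgnA a = sgnA b) : ∑ χ ∈ bFin B, v χ * (m χ a - m χ b) = 0 := by
  rw [Finset.sum_congr rfl fun χ _ => by rw [← dotc_sub a b (m χ)]]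
  exact perp_dotc h (adm_sub hab)

theorem sum_eq_of_vanish {S T : Finset (IrrCharacter G)} (hT : T ⊆ S) {f : IrrCharacter G → ℤ}
    (h : ∀ x ∈ S, x ∉ T → f x = 0) : ∑ x ∈ S, f x = ∑ x ∈ T, f x :=
  (Finset.sum_subset hT h).symm

namespace GData

variable (hG : GData B P e σ M₀ r oH δ m A U₀ U₁ w g₀ g₁) (c : Ctx M B P e σ τ M₀ r)
include hG

theorem eq_zero_of_g {v : IrrCharacter G → ℤ} (h : ∑ χ ∈ bFin B, v χ * v χ = 0) {χ : IrrCharacter G}
    (hχ : χ ∈ bFin B) : v χ = 0 :=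
  mul_self_eq_zero.1 ((Finset.sum_eq_zero_iff_of_nonneg fun x _ => mul_self_nonneg (v x)).1 h χ hχ)

theorem w_ne : w ≠ 0 := by
  rcases hG.cases with h | h | h <;> omega

include c

theorem colPerp : ColPerp B M₀ m A ∧ ColPerp B M₀ m U₀ ∧ ColPerp B M₀ m U₁ := by
  have hD := c.data
  have hM : (M₀ : ℂ) ≠ 0 := Nat.cast_ne_zero.2 (by have := hD.two_le; omega)
  have hw : (w : ℂ) ≠ 0 := Int.cast_ne_zero.2 hG.w_ne
  have key : ∀ (v : IrrCharacter G → ℤ) (k : ℤ),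
      (∀ ψ, w * (∑ φ ∈ bFin B, v φ * A φ) * A ψ + M₀ * ((∑ φ ∈ bFin B, v φ * U₀ φ) * U₀ ψ +
        (∑ φ ∈ bFin B, v φ * U₁ φ) * U₁ ψ) = k * v ψ) → k ≠ 0 → ColPerp B M₀ m v := by
    intro v k hk hk0 i hi
    obtain ⟨h0, hM'⟩ := mem_gens.1 (hG.rot.shift_gen c hi)
    have h := fun φ (hφ : φ ∈ bFin B) =>
      hG.rot.orth_other c hi hD.z_mem (c.not_fus_z_rot h0 hM') (mem_bFin.1 hφ)
    have h2 : (k : ℂ) * ∑ ψ ∈ bFin B, (v ψ : ℂ) * ev (m ψ) i = 0 := by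
      calc (k : ℂ) * ∑ ψ ∈ bFin B, (v ψ : ℂ) * ev (m ψ) i
          = ∑ ψ ∈ bFin B, (∑ φ ∈ bFin B, (v φ : ℂ) *
              (((4 * M₀ : ℕ) : ℂ) * w * mU 2 P e (σ ^ M₀) φ ψ)) * ev (m ψ) i := by
            rw [Finset.mul_sum]
            refine Finset.sum_congr rfl fun ψ _ => ?_
            rw [← mul_assoc, ← Int.cast_mul, ← hk ψ]
            congr 1
            simp only [hG.formula]
            push_cast
            simp only [Finset.mul_sum, Finset.sum_mul, ← Finset.sum_add_distrib]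
            exact Finset.sum_congr rfl fun φ _ => by ring
        _ = ∑ φ ∈ bFin B, (v φ : ℂ) * ((4 * M₀ : ℕ) : ℂ) * w *
              ∑ ψ ∈ bFin B, mU 2 P e (σ ^ M₀) φ ψ * ev (m ψ) i := by
            simp only [Finset.mul_sum, Finset.sum_mul]
            rw [Finset.sum_comm]
            exact Finset.sum_congr rfl fun φ _ => Finset.sum_congr rfl fun ψ _ => by ring
        _ = 0 := Finset.sum_eq_zero fun φ hφ => by rw [h φ hφ, mul_zero]
    exact (mul_eq_zero.1 h2).resolve_left (Int.cast_ne_zero.2 hk0)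
  have hM0 : (M₀ : ℤ) ≠ 0 := by have := hD.two_le; omega
  have hA0 : ∑ φ ∈ bFin B, U₀ φ * A φ = 0 := by
    rw [← hG.AU₀]; exact Finset.sum_congr rfl fun _ _ => mul_comm _ _
  have hA1 : ∑ φ ∈ bFin B, U₁ φ * A φ = 0 := by
    rw [← hG.AU₁]; exact Finset.sum_congr rfl fun _ _ => mul_comm _ _
  have h10 : ∑ φ ∈ bFin B, U₁ φ * U₀ φ = 0 := by
    rw [← hG.U01]; exact Finset.sum_congr rfl fun _ _ => mul_comm _ _
  refine ⟨key A (w * (4 * M₀)) (fun ψ => by rw [hG.AA, hG.AU₀, hG.AU₁]; ring)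
    (mul_ne_zero hG.w_ne (by omega)), ?_, ?_⟩
  · by_cases hg : g₀ = 0
    · intro i _
      exact Finset.sum_eq_zero fun χ hχ => by
        rw [hG.eq_zero_of_g (hG.U00.trans hg) hχ, Int.cast_zero, zero_mul]
    · exact key U₀ (M₀ * g₀) (fun ψ => by rw [hA0, hG.U00, hG.U01]; ring) (mul_ne_zero hM0 hg)
  · by_cases hg : g₁ = 0
    · intro i _
      exact Finset.sum_eq_zero fun χ hχ => by
        rw [hG.eq_zero_of_g (hG.U11.trans hg) hχ, Int.cast_zero, zero_mul]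
    · exact key U₁ (M₀ * g₁) (fun ψ => by rw [hA1, hG.U11, h10]; ring) (mul_ne_zero hM0 hg)

/-- `4 M₀ m_z` is integral. -/
theorem exists_coef : ∃ f : ℤ, Even f ∧ f * w = M₀ ∧ ∀ χ ψ : IrrCharacter G,
    ((4 * M₀ : ℕ) : ℂ) * mU 2 P e (σ ^ M₀) χ ψ =
      ((A χ * A ψ + f * (U₀ χ * U₀ ψ + U₁ χ * U₁ ψ) : ℤ) : ℂ) := by
  have hD := c.data
  have key : ∀ f : ℤ, f * w = M₀ → ∀ χ ψ : IrrCharacter G,
      ((4 * M₀ : ℕ) : ℂ) * mU 2 P e (σ ^ M₀) χ ψ =
        ((A χ * A ψ + f * (U₀ χ * U₀ ψ + U₁ χ * U₁ ψ) : ℤ) : ℂ) := by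
    intro f hf χ ψ
    refine mul_left_cancel₀ (Int.cast_ne_zero.2 hG.w_ne : (w : ℂ) ≠ 0) ?_
    have h := hG.formula χ ψ
    rw [← hf] at h
    push_cast at h ⊢
    linear_combination h
  rcases hG.cases with ⟨-, hw, -⟩ | ⟨-, hw, h4, -⟩ | ⟨-, hw, -⟩
  · exact ⟨M₀, even_iff_two_dvd.2 (by exact_mod_cast hD.even_M₀), by rw [hw, mul_one],
      key _ (by rw [hw, mul_one])⟩
  · obtain ⟨a, ha⟩ := hD.two_pow
    rcases a with _ | _ | a
    · simp at ha; omega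
    · simp at ha; omega
    refine ⟨2 ^ (a + 1), ⟨2 ^ a, by ring⟩, by rw [hw, ha]; push_cast; ring,
      key _ (by rw [hw, ha]; push_cast; ring)⟩
  · exact ⟨M₀, even_iff_two_dvd.2 (by exact_mod_cast hD.even_M₀), by rw [hw, mul_one],
      key _ (by rw [hw, mul_one])⟩

/-- The valuation of `4 M₀ m_z(χ, χ₀)` is the height of `χ`. -/
theorem height_val {χ χ₀ : IrrCharacter G} (hχ : χ ∈ B) (hχ₀ : χ₀ ∈ hzFin B) {n : ℤ}
    (hn : ((4 * M₀ : ℕ) : ℂ) * mU 2 P e (σ ^ M₀) χ χ₀ = (n : ℂ)) :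
    n ≠ 0 ∧ (blockHeight 2 B χ.1 = 0 → Odd n) ∧
      ∀ (j : ℕ) (t : ℤ), Odd t → n = 2 ^ j * t → blockHeight 2 B χ.1 = j := by
  have hpM := c.pM
  obtain ⟨k, hk⟩ := exists_orderOf_mem c.isMax.1.1.1 c.data.z_mem
  obtain ⟨h0B, h00⟩ := mem_hzFin.1 hχ₀
  obtain ⟨hR, hI, -⟩ := contribution_height hpM hk
    (isInducedBlock_eU hpM c.block c.isMax.1 c.data.z_mem) c.blockDefect_z hχ h0B h00
  rw [← mU_eq_contribution, c.blockDefect_z, c.pow_blockDefect, hn] at hR hI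
  set h := blockHeight 2 B χ.1
  refine ⟨fun h0 => hI (by rw [h0, Int.cast_zero, zero_div]; exact memLocalIdeal_zero),
    fun h0 => ?_, fun j t ht hj => ?_⟩
  · rw [← Int.not_even_iff_odd, even_iff_two_dvd]
    intro h2
    refine hI ?_
    rw [h0, pow_zero, Nat.cast_one, div_one]
    exact (memLocalIdeal_intCast_iff hpM _).2 h2
  have hnt : ¬ MemLocalIdeal M (t : ℂ) := fun hh => by
    have := (memLocalIdeal_intCast_iff hpM _).1 hh
    exact Int.not_even_iff_odd.2 ht (even_iff_two_dvd.2 this)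
  rcases lt_trichotomy h j with hlt | heq | hgt
  · refine absurd ?_ hI
    have : (n : ℂ) / ((2 ^ h : ℕ) : ℂ) = ((2 * (2 ^ (j - h - 1) * t) : ℤ) : ℂ) := by
      rw [div_eq_iff (Nat.cast_ne_zero.2 (pow_ne_zero _ two_ne_zero)), hj,
        show j = (j - h - 1) + 1 + h by omega, pow_add, pow_add,
        show (j - h - 1) + 1 + h - h - 1 = j - h - 1 by omega]
      push_cast
      ring
    rw [this]
    exact (memLocalIdeal_intCast_iff hpM _).2 (dvd_mul_right _ _)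
  · exact heq
  · refine absurd ?_ hnt
    have : (t : ℂ) = (((2 : ℤ) ^ (h - j - 1) : ℤ) : ℂ) * ((n : ℂ) / ((2 ^ h : ℕ) : ℂ)) * 2 := by
      rw [hj, show h = (h - j - 1) + 1 + j by omega, pow_add, pow_add,
        show (h - j - 1) + 1 + j - j - 1 = h - j - 1 by omega]
      push_cast
      field_simp
    rw [this]
    exact MemLocalIdeal.mul_left (MemLocalRing.mul (memLocalRing_intCast _) hR)
      ((memLocalIdeal_intCast_iff hpM 2).2 dvd_rfl)

/-- Characters of height zero have odd `A`. -/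
theorem odd_of_hz {χ : IrrCharacter G} (hχ : χ ∈ hzFin B) : Odd (A χ) := by
  obtain ⟨f, hf, -, hcf⟩ := hG.exists_coef c
  obtain ⟨-, hodd, -⟩ := hG.height_val c (mem_hzFin.1 hχ).1 hχ (hcf χ χ)
  by_contra hA
  obtain ⟨k, hk⟩ := Int.not_odd_iff_even.1 hA
  obtain ⟨k', hk'⟩ := hf
  refine Int.not_odd_iff_even.2 ?_ (hodd (mem_hzFin.1 hχ).2)
  exact ⟨2 * k * k + k' * (U₀ χ * U₀ χ + U₁ χ * U₁ χ), by rw [hk, hk']; ring⟩

theorem coef_ne_zero {χ χ₀ : IrrCharacter G} (hχ : χ ∈ B) (hχ₀ : χ₀ ∈ hzFin B)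
    (hA : A χ = 0 ∨ A χ₀ = 0) : U₀ χ * U₀ χ₀ + U₁ χ * U₁ χ₀ ≠ 0 := by
  obtain ⟨f, -, -, hcf⟩ := hG.exists_coef c
  obtain ⟨hne, -⟩ := hG.height_val c hχ hχ₀ (hcf χ χ₀)
  intro h
  refine hne ?_
  rcases hA with h' | h' <;> rw [h, h'] <;> ring

end GData

namespace Ctx

variable (c : Ctx M B P e σ τ M₀ r)
include c

theorem mU_self_re {u : G} (hu : u ∈ P) (χ : IrrCharacter G) :
    (mU 2 P e u χ χ).re = ∑ ψ ∈ bFin B, Complex.normSq (mU 2 P e u χ ψ) := by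
  conv_lhs => rw [← sum_mU_mul c.pM c.block c.isMax hu χ χ]
  rw [Complex.re_sum]
  refine Finset.sum_congr rfl fun ψ _ => ?_
  rw [← conj_mU c.pM c.pair hu χ ψ, Complex.mul_conj, Complex.ofReal_re]

theorem mU_self_nonneg {u : G} (hu : u ∈ P) (χ : IrrCharacter G) :
    0 ≤ (mU 2 P e u χ χ).re := by
  rw [c.mU_self_re hu]
  exact Finset.sum_nonneg fun ψ _ => Complex.normSq_nonneg _

theorem regDot_self_pos {χ : IrrCharacter G} (hχ : χ ∈ B) : 0 < (regDot 2 χ.1 χ.1).re := by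
  obtain ⟨χ₀, h0, hh⟩ := Blocks.exists_height_zero c.pM c.block
  rw [← mU_one c.pM c.block c.isMax hχ χ, c.mU_self_re (one_mem P)]
  refine Finset.sum_pos' (fun ψ _ => Complex.normSq_nonneg _) ⟨χ₀, mem_bFin.2 h0, ?_⟩
  rw [Complex.normSq_pos, mU_one c.pM c.block c.isMax hχ χ₀, regDot_comm Fact.out]
  exact c.regDot_ne_zero hχ h0 hh

theorem one_le_blockRank : 1 ≤ blockRank 2 B := by
  by_contra h
  obtain ⟨χ₀, h0, -⟩ := Blocks.exists_height_zero c.pM c.block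
  have hs := sum_mU_self (p := 2) c.pM c.block c.isMax (one_mem P)
  rw [blockRank_one c.block c.isMax, show blockRank 2 B = 0 by omega, Nat.cast_zero] at hs
  have h1 := congrArg Complex.re hs
  rw [Complex.re_sum, Complex.zero_re] at h1
  have h2 := (Finset.sum_eq_zero_iff_of_nonneg fun χ _ => c.mU_self_nonneg (one_mem P) χ).1 h1 χ₀
    (mem_bFin.2 h0)
  rw [mU_one c.pM c.block c.isMax h0] at h2
  exact (c.regDot_self_pos h0).ne' h2

/-- The diagonal contribution at `z` is less than one. -/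
theorem mU_z_self_lt {O : Finset G} (hO : IsOuter P e σ τ M₀ O) {χ : IrrCharacter G} (hχ : χ ∈ B) :
    (mU 2 P e (σ ^ M₀) χ χ).re < 1 := by
  have h := congrArg Complex.re (c.identity_split hO hχ χ)
  rw [mU_one c.pM c.block c.isMax hχ χ] at h
  simp only [if_pos rfl, Complex.add_re, Complex.mul_re, Complex.re_sum, Complex.one_re] at h
  have h1 : 0 ≤ ∑ i ∈ gens M₀, (mU 2 P e (rot σ i) χ χ).re :=
    Finset.sum_nonneg fun i _ => c.mU_self_nonneg (c.data.rot_mem i) χ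
  have h2 : 0 ≤ ∑ y ∈ O, (mU 2 P e y χ χ).re :=
    Finset.sum_nonneg fun y hy => c.mU_self_nonneg (c.outer_mem hO hy) χ
  have := c.regDot_self_pos hχ
  norm_num at h
  linarith

end Ctx

end Cfsg.Agent.TameBlock
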