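import Cfsg.Agent.Lib.TameBlock.HData

/-!
# The subsection at an involution, seen in the whole group

`GData`: the description of `HData` carried from `C(z)` to `G`: the contributions at `z` are
`(w A A' + M₀ (U₀ U₀' + U₁ U₁')) / (4 M₀ w)` with integral vectors of known inner products.
-/

set_option autoImplicit false
set_option linter.unusedSectionVars false
set_option linter.style.haveILetI false

namespace Cfsg.Agent.TameBlock

open Cfsg Blocks MonoidAlgebra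
open Cfsg.Agent.BrauerPairs (blk blkG conjEl IsMax IsPair regDot regDot_comm)
open Cfsg.Agent.Blocks.NilRank
open scoped Classical ComplexConjugate

universe u

variable {G : Type u} [Group G] [Fintype G] {M : Ideal AlgInt} [M.IsMaximal] [Fact (Nat.Prime 2)]
  [CharP (AlgInt ⧸ M) 2]

/-- The contributions at `z = σ ^ M₀`; `oH` classes outside the rotations are left in `C(z)`. -/
structure GData (B : Set (IrrCharacter G)) (P : Subgroup G) (e : MonoidAlgebra (AlgInt ⧸ M) G)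
    (σ : G) (M₀ r : ℕ) [NeZero (2 * M₀)] (oH : ℕ) (δ : ZMod (2 * M₀))
    (m : IrrCharacter G → ZMod (2 * M₀) → ℤ) (A U₀ U₁ : IrrCharacter G → ℤ) (w g₀ g₁ : ℤ) :
    Prop where
  rot : RotSect P e σ M₀ r δ m
  formula : ∀ χ ψ : IrrCharacter G, ((4 * M₀ : ℕ) : ℂ) * w * mU 2 P e (σ ^ M₀) χ ψ =
    ((w * A χ * A ψ + M₀ * (U₀ χ * U₀ ψ + U₁ χ * U₁ ψ) : ℤ) : ℂ)
  AA : ∑ χ ∈ bFin B, A χ * A χ = 4 * M₀
  AU₀ : ∑ χ ∈ bFin B, A χ * U₀ χ = 0
  AU₁ : ∑ χ ∈ bFin B, A χ * U₁ χ = 0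
  U01 : ∑ χ ∈ bFin B, U₀ χ * U₁ χ = 0
  U00 : ∑ χ ∈ bFin B, U₀ χ * U₀ χ = g₀
  U11 : ∑ χ ∈ bFin B, U₁ χ * U₁ χ = g₁
  cong : ∀ χ, (M₀ : ℤ) ∣ A χ - ∑ a, m χ a
  parity : oH ≤ 1 → ∀ χ, Even (A χ + U₀ χ + U₁ χ)
  cases : (oH = 0 ∧ w = 1 ∧ g₀ = 4 ∧ g₁ = 4) ∨ (oH = 1 ∧ w = 2 ∧ 4 ≤ M₀ ∧ g₀ = 8 ∧ g₁ = 0) ∨
    (oH = 2 ∧ w = 1 ∧ g₀ = 0 ∧ g₁ = 0)
  rank : blockRank 2 (blkSet M (Subgroup.centralizer ({σ ^ M₀} : Set G)) (eU 2 P e (σ ^ M₀))) +
    oH = 3

theorem secScalar_eq_zScal {x : G} (η : IrrCharacter (Subgroup.centralizer ({x} : Set G))) :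
    secScalar η = zScal η.1 (secElt x) := by
  simp [secScalar, omega, chiL_single, zScal]

variable {B : Set (IrrCharacter G)} {P : Subgroup G} {e : MonoidAlgebra (AlgInt ⧸ M) G} {σ τ : G}
  {M₀ r : ℕ}

namespace TData

variable (hD : TData P σ τ M₀ r)
include hD

/-- In the semidihedral case `(τ σ)² = z`. -/
theorem τσ_sq : τ * σ * (τ * σ) = σ ^ M₀ := by
  have h0 : τ * σ * (τ * σ) = τ * τ * rot σ ((r : ZMod (2 * M₀)) + 1) := by
    have e1 := hD.rot_mul_τ 1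
    rw [hD.rot_one, mul_one] at e1
    rw [hD.rot_add, hD.rot_one, ← mul_assoc, mul_assoc τ σ τ, e1]
    group
  rw [h0]
  rcases hD.r_add_one with ⟨h, hτ⟩ | ⟨h, hτ, -⟩
  · rw [h, hD.rot_zero, hτ, mul_one]
  · rw [h, hτ, one_mul, hD.z_eq]

/-- A representative outside the rotations squares to `z`, unless it is the involution `τ`. -/
theorem outer_sq {y : G} (hy : y = τ ∨ y = τ * σ) :
    y * y = σ ^ M₀ ∨ (y = τ ∧ τ * τ = 1) := by
  rcases hy with rfl | rfl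
  · rcases hD.kind with ⟨-, h⟩ | ⟨-, h, -⟩
    exacts [Or.inl h, Or.inr ⟨rfl, h⟩]
  · exact Or.inl hD.τσ_sq

/-- The centralizer of a square root of `z` lies in that of `z`. -/
theorem centralizer_le_of_sq {y : G} (hy : y * y = σ ^ M₀) :
    Subgroup.centralizer ({y} : Set G) ≤ Subgroup.centralizer ({σ ^ M₀} : Set G) := fun v hv => by
  rw [Subgroup.mem_centralizer_singleton_iff] at hv ⊢
  rw [← hy]
  exact (Commute.mul_right hv hv).eq

end TData

namespace Ctx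

variable (c : Ctx M B P e σ τ M₀ r)
include c

theorem w_sq : wElt σ M₀ * wElt σ M₀ = σ ^ M₀ := by
  rw [wElt, ← c.data.rot_add, c.data.half_add, c.data.z_eq]

theorem exists_gData [NeZero (2 * M₀)] {O : Finset G} (hO : IsOuter P e σ τ M₀ O) :
    ∃ oH δ m A U₀ U₁ w g₀ g₁, GData B P e σ M₀ r oH δ m A U₀ U₁ w g₀ g₁ ∧
      O.card ≤ oH ∧ oH ≤ O.card + 1 ∧ (τ * τ = σ ^ M₀ → oH = O.card) ∧
      (τ * τ = 1 → 1 ≤ oH) := by
  have hD := c.data
  set H := Subgroup.centralizer ({σ ^ M₀} : Set G) with hH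
  set Q := (P ⊓ H).subgroupOf H with hQ
  set b := blkSet M H (eU 2 P e (σ ^ M₀)) with hb
  obtain ⟨e', hN⟩ : ∃ e', Nested 2 P e H b Q e' := c.exists_nested_z.imp fun _ h => h.1
  have hmemH : ∀ {v : G}, v ∈ P → v ∈ H := fun hv =>
    Subgroup.mem_centralizer_singleton_iff.2 (hD.z_comm hv).symm
  obtain ⟨σH, hσH⟩ : ∃ σH : H, (σH : G) = σ := ⟨⟨σ, hmemH hD.σ_mem⟩, rfl⟩
  obtain ⟨τH, hτH⟩ : ∃ τH : H, (τH : G) = τ := ⟨⟨τ, hmemH hD.τ_mem⟩, rfl⟩
  have hQmem : ∀ {v : H}, (v : G) ∈ P → v ∈ Q := fun {v} hv =>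
    Subgroup.mem_subgroupOf.2 ⟨hv, v.2⟩
  have hrotc : ∀ i : ZMod (2 * M₀), ((rot σH i : H) : G) = rot σ i := fun i => by
    simp [rot, hσH]
  have hzc : ((σH ^ M₀ : H) : G) = σ ^ M₀ := by simp [hσH]
  have hTD : TData Q σH τH M₀ r := by
    refine ⟨hD.two_le, hD.two_pow, hQmem (hσH.symm ▸ hD.σ_mem), hQmem (hτH.symm ▸ hD.τ_mem),
      by rw [← Subgroup.orderOf_coe, hσH, hD.order], Subtype.ext ?_, fun h => hD.τ_not ?_, ?_, ?_⟩
    · simp [hσH, hτH, hD.τ_conj]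
    · obtain ⟨k, hk⟩ := Subgroup.mem_zpowers_iff.1 h
      exact Subgroup.mem_zpowers_iff.2 ⟨k, by rw [← hσH, ← hτH, ← hk]; simp⟩
    · rw [hQ, Nat.card_congr (Subgroup.subgroupOfEquivOfLe inf_le_right).toEquiv,
        c.inf_centralizer_z, hD.card]
    · rcases hD.kind with ⟨h1, h2⟩ | ⟨h1, h2, h3⟩
      · exact Or.inl ⟨h1, Subtype.ext (by simp [hσH, hτH, h2])⟩
      · exact Or.inr ⟨h1, Subtype.ext (by simp [hτH, h2]), h3⟩
  have cH : Ctx M b Q e' σH τH M₀ r := ⟨c.modular, hN.block, hN.isMax, hTD⟩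
  have hcen : σH ^ M₀ ∈ Subgroup.center H := Subgroup.mem_center_iff.2 fun g => Subtype.ext (by
    simp only [Subgroup.coe_mul, hzc]
    exact Subgroup.mem_centralizer_singleton_iff.1 g.2)
  obtain ⟨mt₀, sg, hR⟩ := cH.exists_rotParam hcen
  obtain ⟨OH, hOH⟩ := exists_isOuter Q e' σH τH M₀
  obtain ⟨δ, mt, W, V₀, V₁, AH, UH₀, UH₁, w, g₀, g₁, hHD⟩ := cH.exists_hData hR hcen hOH
  -- restriction
  choose n _ hn using fun χ : IrrCharacter G =>
    Char.IsCharacter.exists_decomp (Char.IsCharacter.restrict (Char.irr_isCharacter χ) H)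
  let comb : (IrrCharacter H → ℤ) → IrrCharacter G → ℤ := fun f χ =>
    ∑ η ∈ bFin b, (n χ η : ℤ) * f η
  let m : IrrCharacter G → ZMod (2 * M₀) → ℤ := fun χ a => comb (fun η => mt η a) χ
  have hzH : σH ^ M₀ ∈ Q := hTD.z_mem
  have hCz : Subgroup.centralizer ({((σH ^ M₀ : H) : G)} : Set G) ≤ H := by rw [hzc]
  have hmUz : ∀ χ ψ : IrrCharacter G, mU 2 P e (σ ^ M₀) χ ψ =
      ∑ η ∈ bFin b, ∑ η' ∈ bFin b, (n χ η : ℂ) * n ψ η' * mU 2 Q e' (σH ^ M₀) η η' := by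
    intro χ ψ
    rw [← hzc, hN.mU_eq c.pM hzH hCz]
    exact Finset.sum_congr rfl fun η _ => Finset.sum_congr rfl fun η' _ => by
      rw [hn, hn, map_natCast]
  have hcast : ∀ (f : IrrCharacter H → ℤ) (V : IrrCharacter H → ℤ),
      (∀ η ∈ b, (f η : ℂ) = 2 * ∑ x ∈ bFin b, (V x : ℂ) * mU 2 Q e' (σH ^ M₀) η x) →
      ∀ χ, (comb f χ : ℂ) = 2 * ∑ x ∈ bFin b,
        (V x : ℂ) * ∑ η ∈ bFin b, (n χ η : ℂ) * mU 2 Q e' (σH ^ M₀) η x := by
    intro f V hf χ
    simp only [comb]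
    push_cast
    rw [Finset.sum_congr rfl fun η hη => by rw [hf η (mem_bFin.1 hη)]]
    simp only [Finset.mul_sum]
    rw [Finset.sum_comm]
    exact Finset.sum_congr rfl fun x _ => Finset.sum_congr rfl fun η _ => by ring
  have hgr : ∀ x ∈ b, ∀ y ∈ b, ∑ χ ∈ bFin B,
      (∑ η ∈ bFin b, (n χ η : ℂ) * mU 2 Q e' (σH ^ M₀) η x) *
        (∑ η ∈ bFin b, (n χ η : ℂ) * mU 2 Q e' (σH ^ M₀) η y) =
      mU 2 Q e' (σH ^ M₀) x y := by
    intro x hx y hy
    have hHz : Subgroup.centralizer ({σH ^ M₀} : Set H) = ⊤ := eq_top_iff.2 fun g _ =>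
      Subgroup.mem_centralizer_singleton_iff.2 (Subgroup.mem_center_iff.1 hcen g)
    obtain ⟨kk, hkk⟩ := exists_orderOf_mem c.isMax.1.1.1 hD.z_mem
    have hsec : secElt (σ ^ M₀) = (σH ^ M₀ : H) := Subtype.ext hzc.symm
    choose s hs2 hs using fun η : IrrCharacter H => exists_zScal_int hHz hTD.z_sq η
    have hv : ∀ χ : IrrCharacter G, ∀ z ∈ b, regDot 2 (secFun (σ ^ M₀) χ.1) z.1 =
        ∑ η ∈ bFin b, (s η : ℂ) * n χ η * regDot 2 η.1 z.1 := by
      intro χ z hz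
      rw [regDot_secFun c.pM hN.block χ hz]
      refine Finset.sum_congr (by ext; simp [mem_bFin]) fun η _ => ?_
      rw [classInner_secFun, secScalar_eq_zScal, hsec, hs, ← hn]
    have hreal : ∀ η z : IrrCharacter H, conj (regDot 2 η.1 z.1) = regDot 2 η.1 z.1 := fun η z => by
      rw [conj_regDot_irr, regDot_comm Fact.out]
    have hT : ∀ χ : IrrCharacter G, ∀ z ∈ b,
        ∑ η ∈ bFin b, (n χ η : ℂ) * mU 2 Q e' (σH ^ M₀) η z =
          (s z : ℂ) * ∑ η ∈ bFin b, (s η : ℂ) * n χ η * regDot 2 η.1 z.1 := by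
      intro χ z _
      rw [Finset.mul_sum]
      refine Finset.sum_congr rfl fun η hη => ?_
      rw [mU_central c.pM hN.block hN.isMax hzH hHz (mem_bFin.1 hη), hs, hs, map_intCast]
      ring
    calc ∑ χ ∈ bFin B, (∑ η ∈ bFin b, (n χ η : ℂ) * mU 2 Q e' (σH ^ M₀) η x) *
          (∑ η ∈ bFin b, (n χ η : ℂ) * mU 2 Q e' (σH ^ M₀) η y)
        = (s x : ℂ) * s y * ∑ χ ∈ bFin B, regDot 2 (secFun (σ ^ M₀) χ.1) x.1 *
            conj (regDot 2 (secFun (σ ^ M₀) χ.1) y.1) := by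
          rw [Finset.mul_sum]
          refine Finset.sum_congr rfl fun χ _ => ?_
          rw [hT χ x hx, hT χ y hy, hv χ x hx, hv χ y hy, map_sum,
            Finset.sum_congr rfl fun η (_ : η ∈ bFin b) =>
              show conj ((s η : ℂ) * n χ η * regDot 2 η.1 y.1) = _ by
                rw [map_mul (starRingEnd ℂ), map_mul (starRingEnd ℂ), map_intCast, map_natCast,
                  hreal]]
          ring
      _ = mU 2 Q e' (σH ^ M₀) x y := by
          have h := sum_regDot_secFun c.pM hkk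
            (isInducedBlock_eU c.pM c.block c.isMax.1 hD.z_mem) hx hy
          rw [mU_central c.pM hN.block hN.isMax hzH hHz hx, hs, hs, map_intCast, ← h]
          congr 1
  have hgram : ∀ (f f' V V' : IrrCharacter H → ℤ) (g : ℤ),
      (∀ η ∈ b, (f η : ℂ) = 2 * ∑ x ∈ bFin b, (V x : ℂ) * mU 2 Q e' (σH ^ M₀) η x) →
      (∀ η ∈ b, (f' η : ℂ) = 2 * ∑ x ∈ bFin b, (V' x : ℂ) * mU 2 Q e' (σH ^ M₀) η x) →
      4 * ∑ x ∈ bFin b, ∑ y ∈ bFin b, (V x : ℂ) * V' y * mU 2 Q e' (σH ^ M₀) x y = (g : ℂ) →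
      ∑ χ ∈ bFin B, comb f χ * comb f' χ = g := by
    intro f f' V V' g hf hf' hg
    have h : ((∑ χ ∈ bFin B, comb f χ * comb f' χ : ℤ) : ℂ) = (g : ℂ) := by
      push_cast
      rw [← hg, Finset.sum_congr rfl fun χ _ => by rw [hcast f V hf, hcast f' V' hf'],
        Finset.mul_sum]
      calc ∑ χ ∈ bFin B, 2 * (∑ x ∈ bFin b, (V x : ℂ) *
              ∑ η ∈ bFin b, (n χ η : ℂ) * mU 2 Q e' (σH ^ M₀) η x) *
            (2 * ∑ y ∈ bFin b, (V' y : ℂ) *
              ∑ η ∈ bFin b, (n χ η : ℂ) * mU 2 Q e' (σH ^ M₀) η y)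
          = ∑ χ ∈ bFin B, ∑ x ∈ bFin b, ∑ y ∈ bFin b, 4 * ((V x : ℂ) * V' y) *
              ((∑ η ∈ bFin b, (n χ η : ℂ) * mU 2 Q e' (σH ^ M₀) η x) *
                ∑ η ∈ bFin b, (n χ η : ℂ) * mU 2 Q e' (σH ^ M₀) η y) := by
            refine Finset.sum_congr rfl fun χ _ => ?_
            rw [mul_mul_mul_comm, Finset.sum_mul_sum, Finset.mul_sum]
            refine Finset.sum_congr rfl fun x _ => ?_
            rw [Finset.mul_sum]
            exact Finset.sum_congr rfl fun y _ => by ring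
        _ = _ := by
            rw [Finset.sum_comm]
            refine Finset.sum_congr rfl fun x hx => ?_
            rw [Finset.sum_comm, Finset.mul_sum]
            refine Finset.sum_congr rfl fun y hy => ?_
            rw [← Finset.mul_sum, hgr x (mem_bFin.1 hx) y (mem_bFin.1 hy)]
            ring
    exact_mod_cast h
  have hev : ∀ (χ : IrrCharacter G) i, ev (m χ) i = ∑ η ∈ bFin b, (n χ η : ℂ) * ev (mt η) i := by
    intro χ i
    simp only [ev, m, comb, Int.cast_sum, Int.cast_mul, Int.cast_natCast, Finset.sum_mul,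
      Finset.mul_sum]
    rw [Finset.sum_comm]
    exact Finset.sum_congr rfl fun η _ => Finset.sum_congr rfl fun a _ => by ring
  have hrot : RotSect P e σ M₀ r δ m := by
    refine ⟨hHD.rot.shift, fun χ a => ?_, fun i hi χ ψ => ?_⟩
    · exact Finset.sum_congr rfl fun η _ => by simp only [hHD.rot.symm]
    obtain ⟨h0, hM⟩ := mem_gens.1 (hHD.rot.shift_gen cH hi)
    have hC : Subgroup.centralizer ({((rot σH (i + δ) : H) : G)} : Set G) ≤ H := by
      rw [hrotc]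
      exact hD.centralizer_le_z h0 hM
    rw [← hrotc, hN.mU_eq c.pM (hTD.rot_mem _) hC, hev, hev, map_sum, Finset.sum_mul_sum,
      Finset.mul_sum]
    refine Finset.sum_congr rfl fun η _ => ?_
    rw [Finset.mul_sum]
    refine Finset.sum_congr rfl fun η' _ => ?_
    rw [hn, hn, map_natCast, map_mul (starRingEnd ℂ), map_natCast]
    linear_combination ((n χ η : ℂ) * n ψ η') * hHD.rot.sect i hi η η'
  have hform : ∀ χ ψ : IrrCharacter G, ((4 * M₀ : ℕ) : ℂ) * w * mU 2 P e (σ ^ M₀) χ ψ =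
      ((w * comb AH χ * comb AH ψ + M₀ * (comb UH₀ χ * comb UH₀ ψ + comb UH₁ χ * comb UH₁ ψ) : ℤ) :
        ℂ) := by
    intro χ ψ
    rw [hmUz, Finset.mul_sum]
    simp only [comb]
    push_cast
    simp only [Finset.mul_sum, Finset.sum_mul, ← Finset.sum_add_distrib]
    rw [Finset.sum_comm]
    refine Finset.sum_congr rfl fun η' hη' => Finset.sum_congr rfl fun η hη => ?_
    have h := hHD.formula η (mem_bFin.1 hη) η' (mem_bFin.1 hη')
    push_cast at h
    linear_combination ((n χ η : ℂ) * n ψ η') * h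
  have hAA := hgram AH AH W W (4 * M₀) hHD.defA hHD.defA (by
    have := hHD.gWW; push_cast at this ⊢; exact this)
  have h00 := hgram UH₀ UH₀ V₀ V₀ g₀ hHD.defU₀ hHD.defU₀ hHD.g00
  have h11 := hgram UH₁ UH₁ V₁ V₁ g₁ hHD.defU₁ hHD.defU₁ hHD.g11
  have hrank : blockRank 2 b + OH.card = 3 := by
    have h := sum_mU_self (p := 2) c.pM c.block c.isMax hD.z_mem
    have h2 : (((4 * M₀ : ℕ) : ℤ) * w * (blockRank 2 b : ℤ) : ℤ) =
        w * ∑ χ ∈ bFin B, comb AH χ * comb AH χ + M₀ * (∑ χ ∈ bFin B, comb UH₀ χ * comb UH₀ χ +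
          ∑ χ ∈ bFin B, comb UH₁ χ * comb UH₁ χ) := by
      have h3 : (((4 * M₀ : ℕ) : ℤ) * w * (blockRank 2 b : ℤ) : ℂ) =
          ((w * ∑ χ ∈ bFin B, comb AH χ * comb AH χ +
            M₀ * (∑ χ ∈ bFin B, comb UH₀ χ * comb UH₀ χ +
              ∑ χ ∈ bFin B, comb UH₁ χ * comb UH₁ χ) : ℤ) : ℂ) := by
        push_cast
        rw [← h, Finset.mul_sum]
        simp only [Finset.mul_sum, ← Finset.sum_add_distrib]
        refine Finset.sum_congr rfl fun χ _ => ?_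
        have h4 := hform χ χ
        push_cast at h4
        linear_combination h4
      exact_mod_cast h3
    rw [hAA, h00, h11] at h2
    push_cast at h2
    have hM : (M₀ : ℤ) ≠ 0 := by have := hD.two_le; omega
    rcases hHD.cases with ⟨hc, rfl, rfl, rfl⟩ | ⟨hc, rfl, -, rfl, rfl⟩ | ⟨hc, rfl, rfl, rfl⟩
    · have : (blockRank 2 b : ℤ) = 3 := mul_left_cancel₀ hM (by linarith)
      omega
    · have : (blockRank 2 b : ℤ) = 2 := mul_left_cancel₀ hM (by linarith)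
      omega
    · have : (blockRank 2 b : ℤ) = 1 := mul_left_cancel₀ hM (by linarith)
      omega
  refine ⟨OH.card, δ, m, comb AH, comb UH₀, comb UH₁, w, g₀, g₁,
    ⟨hrot, hform, hAA, hgram AH UH₀ W V₀ 0 hHD.defA hHD.defU₀ (by simpa using hHD.gW₀),
      hgram AH UH₁ W V₁ 0 hHD.defA hHD.defU₁ (by simpa using hHD.gW₁),
      hgram UH₀ UH₁ V₀ V₁ 0 hHD.defU₀ hHD.defU₁ (by simpa using hHD.g01), h00, h11,
      fun χ => ?_, fun ho χ => ?_, hHD.cases, hrank⟩, ?_⟩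
  · simp only [m, comb]
    rw [Finset.sum_comm, ← Finset.sum_sub_distrib]
    refine Finset.dvd_sum fun η hη => ?_
    rw [← Finset.mul_sum, ← mul_sub]
    exact Dvd.dvd.mul_left (hHD.cong η (mem_bFin.1 hη)) _
  · simp only [comb, ← Finset.sum_add_distrib, ← mul_add]
    rw [even_iff_two_dvd]
    exact Finset.dvd_sum fun η hη => Dvd.dvd.mul_left
      (even_iff_two_dvd.1 (hHD.parity ho η (mem_bFin.1 hη))) _
  -- classes outside the rotations
  have hwc : ((wElt σH M₀ : H) : G) = wElt σ M₀ := hrotc _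
  have hCw : Subgroup.centralizer ({((wElt σH M₀ : H) : G)} : Set G) ≤ H := by
    rw [hwc]
    exact hD.centralizer_le_of_sq c.w_sq
  have hcoe : ∀ {y : G}, (y = τ ∨ y = τ * σ) →
      ∃ yH : H, (yH = τH ∨ yH = τH * σH) ∧ (yH : G) = y := by
    rintro y (rfl | rfl)
    exacts [⟨τH, Or.inl rfl, hτH⟩, ⟨τH * σH, Or.inr rfl, by simp [hσH, hτH]⟩]
  have hout : ∀ {yH : H}, (yH = τH ∨ yH = τH * σH) →
      ((yH : G) = τ ∨ (yH : G) = τ * σ) ∧ yH ∈ Q := by
    intro yH hy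
    have h : (yH : G) = τ ∨ (yH : G) = τ * σ := by
      rcases hy with rfl | rfl
      exacts [Or.inl hτH, Or.inr (by simp [hσH, hτH])]
    refine ⟨h, hQmem ?_⟩
    rcases h with h | h <;> rw [h]
    exacts [hD.τ_mem, mul_mem hD.τ_mem hD.σ_mem]
  have hzfus : ∀ {v : H}, Fus 2 Q e' (σH ^ M₀) v → v = σH ^ M₀ := by
    rintro v ⟨g, rfl, -⟩
    rw [Subgroup.mem_center_iff.1 hcen g, mul_inv_cancel_right]
  have hsup : ∀ {u v : H}, u ∈ Q → v ∈ Q → (u : G) * u = σ ^ M₀ → Fus 2 Q e' u v →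
      Fus 2 P e (u : G) (v : G) := fun hu hv h =>
    hN.fus_sup hu hv (hD.centralizer_le_of_sq h)
  have hsub : ∀ {u v : H}, u ∈ Q → v ∈ Q → (u : G) * u = σ ^ M₀ → (v : G) * v = σ ^ M₀ →
      Fus 2 P e (u : G) (v : G) → Fus 2 Q e' u v := by
    intro u v hu hv hu2 hv2 ⟨g, hg, hge⟩
    refine hN.fus_sub hu hv (hD.centralizer_le_of_sq hu2) ?_ hg hge
    refine Subgroup.mem_centralizer_singleton_iff.2 (mul_inv_eq_iff_eq_mul.1 ?_)
    calc g * σ ^ M₀ * g⁻¹ = (g * u * g⁻¹) * (g * u * g⁻¹) := by rw [← hu2]; group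
      _ = σ ^ M₀ := by rw [hg, hv2]
  have hwQ : wElt σH M₀ ∈ Q := hTD.rot_mem _
  have hw2 : ((wElt σH M₀ : H) : G) * (wElt σH M₀ : H) = σ ^ M₀ := by rw [hwc, c.w_sq]
  have hle : O.card ≤ OH.card := by
    have hex : ∀ y ∈ O, ∃ o ∈ OH, ∃ yH : H, (yH : G) = y ∧ (yH = τH ∨ yH = τH * σH) ∧
        Fus 2 Q e' o yH := by
      intro y hy
      obtain ⟨yH, hyH, rfl⟩ := hcoe (hO.sub y hy)
      rcases hOH.cover yH hyH with h | h | ⟨o, ho, h⟩
      · exact absurd (hwc ▸ hsup hwQ (hout hyH).2 hw2 h) (hO.avoid _ hy).1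
      · refine absurd ?_ (hO.avoid _ hy).2
        rw [hzfus h, hzc]
        exact Fus.refl _
      · exact ⟨o, ho, yH, rfl, hyH, h⟩
    choose f hf yH hyc hyo hfy using hex
    refine Finset.card_le_card_of_injOn (fun y => if h : y ∈ O then f y h else 1)
      (fun y hy => by rw [Finset.mem_coe] at hy ⊢; simp only [dif_pos hy]; exact hf y hy) ?_
    intro y hy y' hy' heq
    rw [Finset.mem_coe] at hy hy'
    simp only [dif_pos hy, dif_pos hy'] at heq
    have hF : Fus 2 Q e' (yH y hy) (yH y' hy') :=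
      (hfy y hy).symm.trans (heq ▸ hfy y' hy')
    rcases hD.outer_sq (hO.sub y hy) with h2 | ⟨hyτ, hττ⟩
    · refine hO.inj y hy y' hy' ?_
      have := hsup (hout (hyo y hy)).2 (hout (hyo y' hy')).2 (by rw [hyc]; exact h2) hF
      rwa [hyc, hyc] at this
    · rcases hD.outer_sq (hO.sub y' hy') with h2' | ⟨hyτ', -⟩
      · exfalso
        have ho := hF.orderOf_eq
        rw [← Subgroup.orderOf_coe, ← Subgroup.orderOf_coe, hyc, hyc] at ho
        have h1 : y' ^ 2 = 1 := by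
          rw [← orderOf_dvd_iff_pow_eq_one, ho, orderOf_dvd_iff_pow_eq_one, pow_two, hyτ, hττ]
        rw [pow_two, h2'] at h1
        exact hD.z_ne h1
      · rw [hyτ, hyτ']
  have hge : (OH.filter fun o : H => (o : G) * o = σ ^ M₀).card ≤ O.card := by
    have hex : ∀ o ∈ OH.filter (fun o : H => (o : G) * o = σ ^ M₀), ∃ y ∈ O, ∃ yH : H,
        (yH : G) = y ∧ (yH = τH ∨ yH = τH * σH) ∧ Fus 2 Q e' yH o := by
      intro o ho
      obtain ⟨hoH, ho2⟩ := Finset.mem_filter.1 ho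
      obtain ⟨hoG, hoQ⟩ := hout (hOH.sub o hoH)
      rcases hO.cover _ hoG with h | h | ⟨y, hy, h⟩
      · exact absurd (hsub hwQ hoQ hw2 ho2 (hwc.symm ▸ h)) (hOH.avoid o hoH).1
      · exfalso
        have hd := h.orderOf_eq
        rw [hD.orderOf_z] at hd
        have h1 : (o : G) ^ 2 = 1 := by rw [← hd]; exact pow_orderOf_eq_one _
        rw [pow_two, ho2] at h1
        exact hD.z_ne h1
      · obtain ⟨yH, hyH, rfl⟩ := hcoe (hO.sub y hy)
        refine ⟨_, hy, yH, rfl, hyH, hsub (hout hyH).2 hoQ ?_ ho2 h⟩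
        rcases hD.outer_sq (hout hyH).1 with h2 | ⟨hyτ, hττ⟩
        · exact h2
        · exfalso
          have hd := h.orderOf_eq
          have h1 : (o : G) ^ 2 = 1 := by
            rw [← orderOf_dvd_iff_pow_eq_one, hd, orderOf_dvd_iff_pow_eq_one, pow_two, hyτ, hττ]
          rw [pow_two, ho2] at h1
          exact hD.z_ne h1
    choose f hf yH hyc hyo hfy using hex
    refine Finset.card_le_card_of_injOn (fun o => if h : o ∈ _ then f o h else 1)
      (fun o ho => by rw [Finset.mem_coe] at ho ⊢; simp only [dif_pos ho]; exact hf o ho) ?_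
    intro o ho o' ho' heq
    rw [Finset.mem_coe] at ho ho'
    simp only [dif_pos ho, dif_pos ho'] at heq
    have hy : yH o ho = yH o' ho' := Subtype.ext (by rw [hyc, hyc, heq])
    exact hOH.inj o (Finset.mem_filter.1 ho).1 o' (Finset.mem_filter.1 ho').1
      ((hfy o ho).symm.trans (hy ▸ hfy o' ho'))
  have hsplit := Finset.card_filter_add_card_filter_not
    (s := OH) (fun o : H => (o : G) * o = σ ^ M₀)
  have hrest : (OH.filter fun o : H => ¬ (o : G) * o = σ ^ M₀) ⊆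
      if τ * τ = σ ^ M₀ then ∅ else {τH} := by
    intro o ho
    obtain ⟨hoH, hne⟩ := Finset.mem_filter.1 ho
    rcases hD.outer_sq (hout (hOH.sub o hoH)).1 with h | ⟨hτ, hττ⟩
    · exact absurd h hne
    · rw [if_neg fun h => hD.z_ne (h.symm.trans hττ), Finset.mem_singleton]
      exact Subtype.ext (hτ.trans hτH.symm)
  refine ⟨hle, ?_, fun hQ' => ?_, fun hττ => ?_⟩
  · have h1 := Finset.card_le_card hrest
    have h2 : (if τ * τ = σ ^ M₀ then (∅ : Finset H) else {τH}).card ≤ 1 := by split_ifs <;> simp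
    omega
  · rw [if_pos hQ'] at hrest
    have := Finset.card_eq_zero.2 (Finset.subset_empty.1 hrest)
    omega
  · refine Finset.card_pos.2 ?_
    rcases hOH.cover τH (Or.inl rfl) with h | h | ⟨o, ho, -⟩
    · exfalso
      have hd := h.orderOf_eq
      rw [← Subgroup.orderOf_coe, ← Subgroup.orderOf_coe, hτH, hwc] at hd
      have h1 : wElt σ M₀ ^ 2 = 1 := by
        rw [← orderOf_dvd_iff_pow_eq_one, ← hd, orderOf_dvd_iff_pow_eq_one, pow_two, hττ]
      rw [pow_two, c.w_sq] at h1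
      exact hD.z_ne h1
    · exfalso
      have h1 : τ = σ ^ M₀ := by rw [← hτH, hzfus h, hzc]
      exact hD.τ_not (h1 ▸ pow_mem (Subgroup.mem_zpowers σ) M₀)
    · exact ⟨o, ho⟩

end Ctx

end Cfsg.Agent.TameBlock
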