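import Cfsg.Agent.Lib.TameBlock.GBase

/-!
# Layouts of the distinguished rows in the whole group

`GShape`: four rows `q` with `A = ±1`, the rows `e a`, `p a` (one for each pair of generic exponents)
with `A = ±2`, all other rows with `A = 0`; a vector orthogonal to the columns and to `A` has the same
absolute value on all `e a`, `p a`.
-/

set_option autoImplicit false
set_option linter.unusedSectionVars false
set_option linter.style.haveILetI false

namespace Cfsg.Agent.TameBlock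

open Cfsg Blocks MonoidAlgebra
open Cfsg.Agent.BrauerPairs (blk blkG conjEl IsMax IsPair)
open Cfsg.Agent.Blocks.NilRank
open Star (ind)
open scoped Classical ComplexConjugate

universe u

variable {G : Type u} [Group G] [Fintype G] {M : Ideal AlgInt} [M.IsMaximal] [Fact (Nat.Prime 2)]
  [CharP (AlgInt ⧸ M) 2] {B : Set (IrrCharacter G)} {P : Subgroup G}
  {e : MonoidAlgebra (AlgInt ⧸ M) G} {σ τ : G} {M₀ r : ℕ} [NeZero (2 * M₀)]
  {m : IrrCharacter G → ZMod (2 * M₀) → ℤ} {A : IrrCharacter G → ℤ}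
  {ee pp : ZMod (2 * M₀) → IrrCharacter G} {q : Fin 4 → IrrCharacter G}

/-- The distinguished rows. -/
noncomputable def layRows (M₀ r : ℕ) [NeZero (2 * M₀)] (ee pp : ZMod (2 * M₀) → IrrCharacter G)
    (q : Fin 4 → IrrCharacter G) : Finset (IrrCharacter G) :=
  Finset.univ.image q ∪ ((clR M₀ r 1).image ee ∪ (clR M₀ r (-1)).image pp)

/-- The distinguished rows are distinct. -/
structure Layout (B : Set (IrrCharacter G)) (M₀ r : ℕ) [NeZero (2 * M₀)]
    (ee pp : ZMod (2 * M₀) → IrrCharacter G) (q : Fin 4 → IrrCharacter G) : Prop where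
  e_inj : Set.InjOn ee (clR M₀ r 1)
  p_inj : Set.InjOn pp (clR M₀ r (-1))
  q_inj : Function.Injective q
  e_mem : ∀ a ∈ clR M₀ r 1, ee a ∈ bFin B
  p_mem : ∀ a ∈ clR M₀ r (-1), pp a ∈ bFin B
  q_mem : ∀ k, q k ∈ bFin B
  qe : ∀ a ∈ clR M₀ r 1, ∀ k, q k ≠ ee a
  qp : ∀ a ∈ clR M₀ r (-1), ∀ k, q k ≠ pp a
  ep : ∀ a ∈ clR M₀ r 1, ∀ b ∈ clR M₀ r (-1), ee a ≠ pp b

theorem q_mem_layRows (k : Fin 4) : q k ∈ layRows M₀ r ee pp q :=
  Finset.mem_union_left _ (Finset.mem_image_of_mem _ (Finset.mem_univ k))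

theorem e_mem_layRows {a : ZMod (2 * M₀)} (ha : a ∈ clR M₀ r 1) :
    ee a ∈ layRows M₀ r ee pp q :=
  Finset.mem_union_right _ (Finset.mem_union_left _ (Finset.mem_image_of_mem _ ha))

theorem p_mem_layRows {a : ZMod (2 * M₀)} (ha : a ∈ clR M₀ r (-1)) :
    pp a ∈ layRows M₀ r ee pp q :=
  Finset.mem_union_right _ (Finset.mem_union_right _ (Finset.mem_image_of_mem _ ha))

theorem of_mem_layRows {x : IrrCharacter G} (hx : x ∈ layRows M₀ r ee pp q) :
    (∃ k, x = q k) ∨ (∃ a ∈ clR M₀ r 1, x = ee a) ∨ ∃ a ∈ clR M₀ r (-1), x = pp a := by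
  simp only [layRows, Finset.mem_union, Finset.mem_image, Finset.mem_univ, true_and] at hx
  rcases hx with ⟨k, h⟩ | ⟨a, ha, h⟩ | ⟨a, ha, h⟩
  exacts [Or.inl ⟨k, h.symm⟩, Or.inr (Or.inl ⟨a, ha, h.symm⟩), Or.inr (Or.inr ⟨a, ha, h.symm⟩)]

namespace Layout

variable (hL : Layout B M₀ r ee pp q)
include hL

theorem subset : layRows M₀ r ee pp q ⊆ bFin B := by
  intro x hx
  rcases of_mem_layRows hx with ⟨k, rfl⟩ | ⟨a, ha, rfl⟩ | ⟨a, ha, rfl⟩
  exacts [hL.q_mem k, hL.e_mem a ha, hL.p_mem a ha]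

theorem sum_rows {N : Type*} [AddCommMonoid N] (F : IrrCharacter G → N) :
    ∑ x ∈ layRows M₀ r ee pp q, F x = ∑ k, F (q k) +
      (∑ a ∈ clR M₀ r 1, F (ee a) + ∑ a ∈ clR M₀ r (-1), F (pp a)) := by
  rw [layRows, Finset.sum_union, Finset.sum_union, Finset.sum_image hL.q_inj.injOn,
    Finset.sum_image hL.e_inj, Finset.sum_image hL.p_inj]
  · rw [Finset.disjoint_left]
    intro x hx hx'
    obtain ⟨a, ha, rfl⟩ := Finset.mem_image.1 hx
    obtain ⟨b, hb, h⟩ := Finset.mem_image.1 hx'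
    exact hL.ep a ha b hb h.symm
  · rw [Finset.disjoint_left]
    intro x hx hx'
    obtain ⟨k, -, rfl⟩ := Finset.mem_image.1 hx
    rcases Finset.mem_union.1 hx' with h | h <;> obtain ⟨a, ha, h⟩ := Finset.mem_image.1 h
    exacts [hL.qe a ha k h.symm, hL.qp a ha k h.symm]

theorem card_rows (c : Ctx M B P e σ τ M₀ r) :
    (layRows M₀ r ee pp q).card + 1 = M₀ + 4 := by
  rw [Finset.card_eq_sum_ones, hL.sum_rows]
  simp only [Finset.sum_const, Finset.card_univ, Fintype.card_fin, smul_eq_mul, mul_one]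
  have := c.card_clR
  omega

end Layout

/-- The shape at the whole group. -/
structure GShape (B : Set (IrrCharacter G)) (M₀ r : ℕ) [NeZero (2 * M₀)]
    (m : IrrCharacter G → ZMod (2 * M₀) → ℤ) (A : IrrCharacter G → ℤ)
    (ee pp : ZMod (2 * M₀) → IrrCharacter G) (q : Fin 4 → IrrCharacter G) : Prop where
  lay : Layout B M₀ r ee pp q
  Aq : ∀ k, A (q k) = 1 ∨ A (q k) = -1
  Ae : ∀ a ∈ clR M₀ r 1, A (ee a) * A (ee a) = 4
  Ap : ∀ a ∈ clR M₀ r (-1), A (pp a) * A (pp a) = 4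
  A0 : ∀ x ∈ bFin B, x ∉ layRows M₀ r ee pp q → A x = 0
  rel : ∀ v : IrrCharacter G → ℤ, ColPerp B M₀ m v → ∑ χ ∈ bFin B, A χ * v χ = 0 →
    ∃ u, A (q 0) * v (q 0) + A (q 1) * v (q 1) = u ∧ A (q 2) * v (q 2) + A (q 3) * v (q 3) = u ∧
      (∀ a ∈ clR M₀ r 1, v (ee a) * v (ee a) = u * u) ∧
      ∀ a ∈ clR M₀ r (-1), v (pp a) * v (pp a) = u * u

/-- `Σ_x v x · (m 0 - m M₀)` and `Σ_x v x · (m 0 - m a)` on a generic even pattern. -/
theorem Pat.perp_rel {εe : ℤ} {s : Fin 4 → ℤ} {P' : Subgroup G}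
    (hP : Pat (bFin B) M₀ r m εe ee q s) (hD : TData P' σ τ M₀ r) {v : IrrCharacter G → ℤ}
    (hv : ColPerp B M₀ m v) :
    s 0 * v (q 0) + s 1 * v (q 1) = s 2 * v (q 2) + s 3 * v (q 3) ∧
      ∀ a ∈ clR M₀ r 1, εe * v (ee a) = s 0 * v (q 0) + s 1 * v (q 1) := by
  have h0 : sgnA (0 : ZMod (2 * M₀)) = 1 := by simp [sgnA]
  constructor
  · have h := hv.sub (h0.trans hD.sgnA_M.symm)
    rw [Finset.sum_congr rfl fun x (hx : x ∈ bFin B) =>
      show v x * (m x 0 - m x (M₀ : ZMod (2 * M₀))) = s 0 * (v x * ind (q 0) x) +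
        s 1 * (v x * ind (q 1) x) - s 2 * (v x * ind (q 2) x) - s 3 * (v x * ind (q 3) x) by
        rw [hP.zero_M x hx]; ring] at h
    simp only [Finset.sum_add_distrib, Finset.sum_sub_distrib, ← Finset.mul_sum,
      Star.sum_mul_ind (hP.q_mem _)] at h
    linarith
  · intro a ha
    have h := hv.sub (h0.trans (mem_clR.1 ha).2.symm)
    rw [Finset.sum_congr rfl fun x (hx : x ∈ bFin B) =>
      show v x * (m x 0 - m x a) = -εe * (v x * ind (ee a) x) +
        s 0 * (v x * ind (q 0) x) + s 1 * (v x * ind (q 1) x) by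
        rw [hP.zero_rep a ha x hx]; ring] at h
    simp only [Finset.sum_add_distrib, ← Finset.mul_sum,
      Star.sum_mul_ind (hP.q_mem _), Star.sum_mul_ind (hP.e_mem a ha)] at h
    linarith

theorem OddPat.perp_const {εo : ℤ} (hO : OddPat (bFin B) M₀ r m εo pp) {v : IrrCharacter G → ℤ}
    (hv : ColPerp B M₀ m v) {a b : ZMod (2 * M₀)} (ha : a ∈ clR M₀ r (-1))
    (hb : b ∈ clR M₀ r (-1)) : v (pp a) = v (pp b) := by
  have h := hv.sub ((mem_clR.1 ha).2.trans (mem_clR.1 hb).2.symm)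
  rw [Finset.sum_congr rfl fun x (hx : x ∈ bFin B) =>
    show v x * (m x a - m x b) = εo * (v x * ind (pp a) x - v x * ind (pp b) x) by
      rw [hO.diff a ha b hb x hx]; ring] at h
  simp only [Finset.sum_sub_distrib, ← Finset.mul_sum, Star.sum_mul_ind (hO.p_mem _ ha),
    Star.sum_mul_ind (hO.p_mem _ hb)] at h
  have := hO.εo_sign
  rcases this with rfl | rfl <;> linarith

/-- The shape from a normalised pattern. -/
theorem GShape.of_pat (c : Ctx M B P e σ τ M₀ r) {εe : ℤ} {s : Fin 4 → ℤ} {α εo : ℤ}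
    (hP : Pat (bFin B) M₀ r m εe ee q s) (hO : OddPat (bFin B) M₀ r m εo pp)
    (hL : Layout B M₀ r ee pp q) (hA : ColPerp B M₀ m A) (hα : α * α = 1)
    (hAq : ∀ k, A (q k) = 1 ∨ A (q k) = -1) (hs : ∀ k, s k = α * A (q k))
    (hAe : ∀ a ∈ clR M₀ r 1, A (ee a) = 2 * α * εe)
    (hAp : ∀ a ∈ clR M₀ r (-1), A (pp a) * A (pp a) = 4)
    (hA0 : ∀ x ∈ bFin B, x ∉ layRows M₀ r ee pp q → A x = 0) :
    GShape B M₀ r m A ee pp q := by
  have hε2 : εe * εe = 1 := by rcases hP.εe_sign with h | h <;> rw [h] <;> norm_num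
  refine ⟨hL, hAq, fun a ha => ?_, hAp, hA0, fun v hv hAv => ?_⟩
  · rw [hAe a ha]
    linear_combination (4 * εe * εe) * hα + 4 * hε2
  obtain ⟨h1, h2⟩ := hP.perp_rel c.data hv
  simp only [hs] at h1 h2
  set u := A (q 0) * v (q 0) + A (q 1) * v (q 1) with hu
  have hu2 : A (q 2) * v (q 2) + A (q 3) * v (q 3) = u := by
    have := congrArg (α * ·) h1
    linear_combination (u - (A (q 2) * v (q 2) + A (q 3) * v (q 3))) * hα - α * h1
  have hve : ∀ a ∈ clR M₀ r 1, v (ee a) = α * εe * u := fun a ha => by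
    linear_combination εe * h2 a ha - v (ee a) * hε2
  obtain ⟨hcn, hcp⟩ := c.card_clR
  obtain ⟨l₀, hl₀⟩ : (clR M₀ r (-1)).Nonempty := Finset.card_pos.1 (by
    have := c.data.two_le; omega)
  have htot : 2 * u + ((clR M₀ r 1).card : ℤ) * (2 * u) +
      ((clR M₀ r (-1)).card : ℤ) * (A (pp l₀) * v (pp l₀)) = 0 := by
    rw [sum_eq_of_vanish hL.subset (fun x hx hn => by rw [hA0 x hx hn, zero_mul]),
      hL.sum_rows, Fin.sum_univ_four,
      Finset.sum_congr rfl (fun a ha => show A (ee a) * v (ee a) = 2 * u by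
        rw [hAe a ha, hve a ha]; linear_combination (2 * u * εe * εe) * hα + 2 * u * hε2),
      Finset.sum_congr rfl (fun a ha => show A (pp a) * v (pp a) = A (pp l₀) * v (pp l₀) by
        rw [hO.perp_const hA ha hl₀, hO.perp_const hv ha hl₀]),
      Finset.sum_const, Finset.sum_const, nsmul_eq_mul, nsmul_eq_mul] at hAv
    linarith
  have hcc : (1 : ℤ) + (clR M₀ r 1).card = (clR M₀ r (-1)).card := by omega
  have hX : A (pp l₀) * v (pp l₀) = -(2 * u) := by
    have hpos : ((clR M₀ r (-1)).card : ℤ) ≠ 0 := by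
      have : 0 < (clR M₀ r (-1)).card := Finset.card_pos.2 ⟨l₀, hl₀⟩
      omega
    refine mul_left_cancel₀ hpos ?_
    linear_combination htot - 2 * u * hcc
  refine ⟨u, rfl, hu2, fun a ha => ?_, fun a ha => ?_⟩
  · rw [hve a ha]
    linear_combination (u * u * εe * εe) * hα + u * u * hε2
  · rw [hO.perp_const hv ha hl₀]
    have h4 := hAp l₀ hl₀
    have : 4 * (v (pp l₀) * v (pp l₀)) = 4 * (u * u) := by
      linear_combination (A (pp l₀) * v (pp l₀) - 2 * u) * hX - (v (pp l₀) * v (pp l₀)) * h4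
    linarith

end Cfsg.Agent.TameBlock
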