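import Cfsg.Agent.Lib.TameBlock.GShape

/-!
# The invariants of a block with quaternion or semidihedral defect group

`Ctx.invariants`: the numbers of characters, of modular constituents and the heights.
-/

set_option autoImplicit false
set_option linter.unusedSectionVars false
set_option linter.style.haveILetI false

namespace Cfsg.Agent.TameBlock

open Cfsg Blocks MonoidAlgebra
open Cfsg.Agent.BrauerPairs (blk blkG conjEl IsMax IsPair)
open Cfsg.Agent.Blocks.NilRank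
open scoped Classical ComplexConjugate

universe u

variable {G : Type u} [Group G] [Fintype G] {M : Ideal AlgInt} [M.IsMaximal] [Fact (Nat.Prime 2)]
  [CharP (AlgInt ⧸ M) 2] {B : Set (IrrCharacter G)} {P : Subgroup G}
  {e : MonoidAlgebra (AlgInt ⧸ M) G} {σ τ : G} {M₀ r : ℕ} [NeZero (2 * M₀)]
  {m : IrrCharacter G → ZMod (2 * M₀) → ℤ} {A U₀ U₁ : IrrCharacter G → ℤ}
  {oH : ℕ} {δ : ZMod (2 * M₀)} {w g₀ g₁ : ℤ}
  {ee pp : ZMod (2 * M₀) → IrrCharacter G} {q : Fin 4 → IrrCharacter G}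

theorem sq_eq_one_of_odd_le {x : ℤ} (h : x * x ≤ 2) (hx : x ≠ 0) : x * x = 1 ∧ (x = 1 ∨ x = -1) := by
  rcases Star.int_sq_le_three (x := x) (by linarith) with rfl | rfl | rfl <;> simp_all

theorem rel_zero {a b x y : ℤ} (ha : a = 1 ∨ a = -1) (hb : b = 1 ∨ b = -1)
    (h : a * x + b * y = 0) : y * y = x * x := by
  rcases ha with rfl | rfl <;> rcases hb with rfl | rfl
  · rw [show y = -x by linarith]; ring
  · rw [show y = x by linarith]
  · rw [show y = x by linarith]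
  · rw [show y = -x by linarith]; ring

theorem one_le_sq_add {a b x y u : ℤ} (h : a * x + b * y = u) (hu : u ≠ 0) :
    1 ≤ x * x + y * y := by
  by_contra hc
  have hx := mul_self_nonneg x
  have hy := mul_self_nonneg y
  have h1 : x = 0 := mul_self_eq_zero.1 (by omega)
  have h2 : y = 0 := mul_self_eq_zero.1 (by omega)
  rw [h1, h2] at h
  exact hu (by linarith)

namespace GData

variable (hG : GData B P e σ M₀ r oH δ m A U₀ U₁ w g₀ g₁) (c : Ctx M B P e σ τ M₀ r)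
  (hS : GShape B M₀ r m A ee pp q)
include hG c hS

theorem vec_bound {v : IrrCharacter G → ℤ} {g : ℤ} (hv : ColPerp B M₀ m v)
    (hAv : ∑ χ ∈ bFin B, A χ * v χ = 0) (hvv : ∑ χ ∈ bFin B, v χ * v χ = g) :
    ∃ u, A (q 0) * v (q 0) + A (q 1) * v (q 1) = u ∧ A (q 2) * v (q 2) + A (q 3) * v (q 3) = u ∧
      (∀ a ∈ clR M₀ r 1, v (ee a) * v (ee a) = u * u) ∧
      (∀ a ∈ clR M₀ r (-1), v (pp a) * v (pp a) = u * u) ∧
      (v (q 0) * v (q 0) + v (q 1) * v (q 1)) + (v (q 2) * v (q 2) + v (q 3) * v (q 3)) +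
        ((M₀ : ℤ) - 1) * (u * u) + ∑ x ∈ bFin B \ layRows M₀ r ee pp q, v x * v x = g := by
  obtain ⟨u, h1, h2, h3, h4⟩ := hS.rel v hv hAv
  refine ⟨u, h1, h2, h3, h4, ?_⟩
  obtain ⟨hcn, hcp⟩ := c.card_clR
  have h5 : (2 : ℤ) * (clR M₀ r (-1)).card = M₀ := by exact_mod_cast hcn
  have h6 : (2 : ℤ) * (clR M₀ r 1).card + 2 = M₀ := by exact_mod_cast hcp
  have hcc : ((clR M₀ r 1).card : ℤ) + (clR M₀ r (-1)).card = (M₀ : ℤ) - 1 := by linarith
  rw [← hvv, ← Finset.sum_sdiff hS.lay.subset, hS.lay.sum_rows, Fin.sum_univ_four,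
    Finset.sum_congr rfl h3, Finset.sum_congr rfl h4, Finset.sum_const, Finset.sum_const,
    nsmul_eq_mul, nsmul_eq_mul, ← hcc]
  ring

/-- The vectors `U₀`, `U₁` vanish on the rows `e a`, `p a`. -/
theorem vec_zero {O : Finset G} (hO : IsOuter P e σ τ M₀ O) :
    ∀ v g, (v = U₀ ∧ g = g₀) ∨ (v = U₁ ∧ g = g₁) →
      (∀ a ∈ clR M₀ r 1, v (ee a) = 0) ∧ (∀ a ∈ clR M₀ r (-1), v (pp a) = 0) ∧
      v (q 1) * v (q 1) = v (q 0) * v (q 0) ∧ v (q 3) * v (q 3) = v (q 2) * v (q 2) ∧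
      2 * (v (q 0) * v (q 0)) + 2 * (v (q 2) * v (q 2)) +
        ∑ x ∈ bFin B \ layRows M₀ r ee pp q, v x * v x = g := by
  have hD := c.data
  obtain ⟨hA, hU₀, hU₁⟩ := hG.colPerp c
  obtain ⟨hcn, hcp⟩ := c.card_clR
  obtain ⟨l₀, hl₀⟩ : (clR M₀ r (-1)).Nonempty := Finset.card_pos.1 (by
    have := hD.two_le; omega)
  obtain ⟨u₀, a1, a2, a3, a4, a5⟩ := hG.vec_bound c hS hU₀ hG.AU₀ hG.U00
  obtain ⟨u₁, b1, b2, b3, b4, b5⟩ := hG.vec_bound c hS hU₁ hG.AU₁ hG.U11
  have hn : ∀ v : IrrCharacter G → ℤ,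
      0 ≤ ∑ x ∈ bFin B \ layRows M₀ r ee pp q, v x * v x := fun v =>
    Finset.sum_nonneg fun x _ => mul_self_nonneg _
  have hp4 := hS.Ap l₀ hl₀
  have hAp : Even (A (pp l₀)) := by
    by_contra h
    obtain ⟨k, hk⟩ := Int.not_even_iff_odd.1 h
    rw [hk] at hp4
    ring_nf at hp4
    omega
  have hMle : 2 ≤ (M₀ : ℤ) := by exact_mod_cast hD.two_le
  have hu : u₀ = 0 ∧ u₁ = 0 := by
    have hsmall : ∀ u S₁ S₂ R g : ℤ, (u ≠ 0 → 1 ≤ S₁) → (u ≠ 0 → 1 ≤ S₂) → 0 ≤ R →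
        S₁ + S₂ + ((M₀ : ℤ) - 1) * (u * u) + R = g → u ≠ 0 → (M₀ : ℤ) + 1 ≤ g ∧
          (u * u ≠ 1 → 4 * (M₀ : ℤ) - 2 ≤ g) := by
      intro u S₁ S₂ R g hS₁ hS₂ hR hg hne
      have h1 : 1 ≤ u * u := by
        have : u ≤ -1 ∨ 1 ≤ u := by omega
        rcases this with h | h <;> nlinarith
      have := hS₁ hne
      have := hS₂ hne
      refine ⟨by nlinarith, fun h => ?_⟩
      have h4 : 4 ≤ u * u := by
        have : u ≤ -2 ∨ 2 ≤ u := by
          rcases (by omega : u = 1 ∨ u = -1 ∨ u ≤ -2 ∨ 2 ≤ u) with rfl | rfl | h' | h'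
          · exact absurd rfl h
          · exact absurd rfl h
          · exact Or.inl h'
          · exact Or.inr h'
        rcases this with h | h <;> nlinarith
      nlinarith
    have s0 := hsmall u₀ _ _ _ g₀ (one_le_sq_add a1) (one_le_sq_add a2) (hn U₀) a5
    have s1 := hsmall u₁ _ _ _ g₁ (one_le_sq_add b1) (one_le_sq_add b2) (hn U₁) b5
    rcases hG.cases with ⟨ho, hw, hg0, hg1⟩ | ⟨ho, hw, hM4, hg0, hg1⟩ | ⟨ho, hw, hg0, hg1⟩
    · by_cases hM2 : M₀ = 2
      · have hM2' : (M₀ : ℤ) = 2 := by exact_mod_cast hM2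
        have hsq : ∀ u g : ℤ, g = 4 → (u ≠ 0 → (M₀ : ℤ) + 1 ≤ g ∧
            (u * u ≠ 1 → 4 * (M₀ : ℤ) - 2 ≤ g)) → u = 0 ∨ u * u = 1 := fun u g hg h => by
          by_cases hu : u = 0
          · exact Or.inl hu
          · refine Or.inr ?_
            by_contra h1
            have := (h hu).2 h1
            omega
        rcases hsq u₀ g₀ hg0 s0 with h0 | h0 <;> rcases hsq u₁ g₁ hg1 s1 with h1 | h1
        · exact ⟨h0, h1⟩
        all_goals exfalso
        all_goals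
          have hpar := hG.parity (by omega) (pp l₀)
          have e0 := a4 l₀ hl₀
          have e1 := b4 l₀ hl₀
        · obtain ⟨k, hk⟩ := hpar
          obtain ⟨k', hk'⟩ := hAp
          have : U₀ (pp l₀) = 0 := mul_self_eq_zero.1 (by rw [e0, h0, mul_zero])
          rw [this, hk'] at hk
          rw [h1, show U₁ (pp l₀) = 2 * (k - k') by linarith] at e1
          ring_nf at e1
          omega
        · obtain ⟨k, hk⟩ := hpar
          obtain ⟨k', hk'⟩ := hAp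
          have : U₁ (pp l₀) = 0 := mul_self_eq_zero.1 (by rw [e1, h1, mul_zero])
          rw [this, hk'] at hk
          rw [h0, show U₀ (pp l₀) = 2 * (k - k') by linarith] at e0
          ring_nf at e0
          omega
        · have hpB := mem_bFin.1 (hS.lay.p_mem l₀ hl₀)
          have h := hG.formula (pp l₀) (pp l₀)
          rw [hw, mul_assoc (1 : ℤ), hS.Ap l₀ hl₀, e0, e1, h0, h1, hM2'] at h
          push_cast at h
          rw [show (M₀ : ℂ) = 2 by exact_mod_cast hM2] at h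
          have h' : mU 2 P e (σ ^ M₀) (pp l₀) (pp l₀) = 1 := by
            linear_combination (1 / 8 : ℂ) * h
          have hlt := c.mU_z_self_lt hO hpB
          rw [h', Complex.one_re] at hlt
          exact lt_irrefl _ hlt
      · have h4 : 4 ≤ (M₀ : ℤ) := by
          obtain ⟨a, ha⟩ := hD.two_pow
          rcases a with _ | _ | a
          · simp at ha; omega
          · simp at ha; omega
          · rw [ha, pow_succ, pow_succ]
            have := Nat.one_le_two_pow (n := a)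
            push_cast
            have : (1 : ℤ) ≤ (2 : ℤ) ^ a := by exact_mod_cast this
            linarith
        constructor <;> by_contra h
        · have := (s0 h).1; omega
        · have := (s1 h).1; omega
    · have h4 : 4 ≤ (M₀ : ℤ) := by exact_mod_cast hM4
      constructor <;> by_contra h
      · by_cases h1 : u₀ * u₀ = 1
        · obtain ⟨k, hk⟩ := hG.parity (by omega) (pp l₀)
          obtain ⟨k', hk'⟩ := hAp
          rw [hG.eq_zero_of_g (hG.U11.trans hg1) (hS.lay.p_mem l₀ hl₀), hk'] at hk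
          have e0 := a4 l₀ hl₀
          rw [h1, show U₀ (pp l₀) = 2 * (k - k') by linarith] at e0
          ring_nf at e0
          omega
        · have := (s0 h).2 h1; omega
      · have := (s1 h).1; omega
    · constructor <;> by_contra h
      · have := (s0 h).1; omega
      · have := (s1 h).1; omega
  intro v g hvg
  obtain ⟨u, h1, h2, h3, h4, h5⟩ : ∃ u, A (q 0) * v (q 0) + A (q 1) * v (q 1) = u ∧
      A (q 2) * v (q 2) + A (q 3) * v (q 3) = u ∧
      (∀ a ∈ clR M₀ r 1, v (ee a) * v (ee a) = u * u) ∧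
      (∀ a ∈ clR M₀ r (-1), v (pp a) * v (pp a) = u * u) ∧
      (v (q 0) * v (q 0) + v (q 1) * v (q 1)) + (v (q 2) * v (q 2) + v (q 3) * v (q 3)) +
        ((M₀ : ℤ) - 1) * (u * u) + ∑ x ∈ bFin B \ layRows M₀ r ee pp q, v x * v x = g ∧
      u = 0 := by
    rcases hvg with ⟨rfl, rfl⟩ | ⟨rfl, rfl⟩
    exacts [⟨u₀, a1, a2, a3, a4, a5, hu.1⟩, ⟨u₁, b1, b2, b3, b4, b5, hu.2⟩]
  obtain ⟨h5, rfl⟩ := h5
  have e1 := rel_zero (hS.Aq 0) (hS.Aq 1) h1
  have e2 := rel_zero (hS.Aq 2) (hS.Aq 3) h2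
  refine ⟨fun a ha => mul_self_eq_zero.1 ((h3 a ha).trans (mul_zero 0)),
    fun a ha => mul_self_eq_zero.1 ((h4 a ha).trans (mul_zero 0)), e1, e2, ?_⟩
  rw [e1, e2] at h5
  linarith

theorem hz_eq : hzFin B = Finset.univ.image q ∧ (hzFin B).card = 4 := by
  obtain ⟨hd, hne⟩ := four_dvd_card_hzFin c.pM c.block c.two_le_blockDefect
  have hsub : hzFin B ⊆ Finset.univ.image q := by
    intro χ hχ
    have hodd := hG.odd_of_hz c hχ
    by_cases hT : χ ∈ layRows M₀ r ee pp q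
    · rcases of_mem_layRows hT with ⟨k, rfl⟩ | ⟨a, ha, rfl⟩ | ⟨a, ha, rfl⟩
      · exact Finset.mem_image_of_mem q (Finset.mem_univ k)
      all_goals
        exfalso
        obtain ⟨k, hk⟩ := hodd
      · have := hS.Ae a ha
        rw [hk] at this
        ring_nf at this
        omega
      · have := hS.Ap a ha
        rw [hk] at this
        ring_nf at this
        omega
    · rw [hS.A0 χ (mem_bFin.2 (mem_hzFin.1 hχ).1) hT] at hodd
      norm_num at hodd
  have hc4 : (Finset.univ.image q).card = 4 := by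
    rw [Finset.card_image_of_injective _ hS.lay.q_inj]; simp
  have hle := Finset.card_le_card hsub
  have h4 : (hzFin B).card = 4 := by omega
  exact ⟨Finset.eq_of_subset_of_card_le hsub (by omega), h4⟩

/-- The rows outside the layout. -/
theorem rest_rows {O : Finset G} (hO : IsOuter P e σ τ M₀ O) {f : ℤ} (hf : f * w = M₀) :
    (bFin B \ layRows M₀ r ee pp q).card + oH = 2 ∧ ∀ x ∈ bFin B \ layRows M₀ r ee pp q,
      f * (U₀ x * U₀ (q 0) + U₁ x * U₁ (q 0)) = M₀ ∨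
        f * (U₀ x * U₀ (q 0) + U₁ x * U₁ (q 0)) = -M₀ := by
  obtain ⟨-, -, a1, a3, a5⟩ := hG.vec_zero c hS hO U₀ g₀ (Or.inl ⟨rfl, rfl⟩)
  obtain ⟨-, -, b1, b3, b5⟩ := hG.vec_zero c hS hO U₁ g₁ (Or.inr ⟨rfl, rfl⟩)
  obtain ⟨hhz, -⟩ := hG.hz_eq c hS
  set F := bFin B \ layRows M₀ r ee pp q with hF
  have hne : ∀ x ∈ F, ∀ k, U₀ x * U₀ (q k) + U₁ x * U₁ (q k) ≠ 0 := fun x hx k => by
    obtain ⟨hxB, hxT⟩ := Finset.mem_sdiff.1 hx
    exact hG.coef_ne_zero c (mem_bFin.1 hxB) (hhz ▸ Finset.mem_image_of_mem q (Finset.mem_univ k))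
      (Or.inl (hS.A0 x hxB hxT))
  have hpar : oH ≤ 1 → ∀ x ∈ F, Even (U₀ x + U₁ x) := fun ho x hx => by
    obtain ⟨hxB, hxT⟩ := Finset.mem_sdiff.1 hx
    have := hG.parity ho x
    rwa [hS.A0 x hxB hxT, zero_add] at this
  have hparq : oH ≤ 1 → ∀ k, Odd (U₀ (q k) + U₁ (q k)) := fun ho k => by
    obtain ⟨l, hl⟩ := hG.parity ho (q k)
    rcases hS.Aq k with h | h <;> rw [h] at hl
    exacts [⟨l - 1, by linarith⟩, ⟨l, by linarith⟩]
  have hn : ∀ v : IrrCharacter G → ℤ, 0 ≤ ∑ x ∈ F, v x * v x := fun v =>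
    Finset.sum_nonneg fun x _ => mul_self_nonneg _
  have hle : ∀ v : IrrCharacter G → ℤ, ∀ x ∈ F, v x * v x ≤ ∑ y ∈ F, v y * v y := fun v x hx =>
    Finset.single_le_sum (f := fun y => v y * v y) (fun y _ => mul_self_nonneg (v y)) hx
  rcases hG.cases with ⟨ho, hw, hg0, hg1⟩ | ⟨ho, hw, hM4, hg0, hg1⟩ | ⟨ho, hw, hg0, hg1⟩
  · rw [hw, mul_one] at hf
    have hone : ∀ x y : ℤ, Odd (x + y) → x * x ≤ 2 → y * y ≤ 2 →
        (x * x = 1 ∧ y = 0) ∨ (x = 0 ∧ y * y = 1) := by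
      intro x y h hx hy
      rcases Star.int_sq_le_three (x := x) (by linarith) with rfl | rfl | rfl <;>
        rcases Star.int_sq_le_three (x := y) (by linarith) with rfl | rfl | rfl <;>
          revert h <;> decide
    have ha0 := mul_self_nonneg (U₀ (q 0)); have ha2 := mul_self_nonneg (U₀ (q 2))
    have hb0 := mul_self_nonneg (U₁ (q 0)); have hb2 := mul_self_nonneg (U₁ (q 2))
    have := hn U₀; have := hn U₁
    have h0 := hone _ _ (hparq (by omega) 0) (by linarith) (by linarith)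
    have h2 := hone _ _ (hparq (by omega) 2) (by linarith) (by linarith)
    have hbad : ∀ (v v' : IrrCharacter G → ℤ), (∀ x, U₀ x * U₀ (q 0) + U₁ x * U₁ (q 0) =
        v x * v (q 0) + v' x * v' (q 0)) → ∑ x ∈ F, v x * v x = 0 → v' (q 0) = 0 →
        ∑ x ∈ F, v' x * v' x = 4 → False := by
      intro v v' hsum hv hv' h4
      obtain ⟨x, hx, hx0⟩ : ∃ x ∈ F, v' x * v' x ≠ 0 :=
        Finset.exists_ne_zero_of_sum_ne_zero (by rw [h4]; norm_num)
      refine hne x hx 0 ?_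
      rw [hsum, hv', mul_zero, add_zero,
        mul_self_eq_zero.1 ((Finset.sum_eq_zero_iff_of_nonneg fun y _ => mul_self_nonneg (v y)).1
          hv x hx), zero_mul]
    obtain ⟨hU0, hU1, hq⟩ : ∑ x ∈ F, U₀ x * U₀ x = 2 ∧ ∑ x ∈ F, U₁ x * U₁ x = 2 ∧
        ((U₀ (q 0) = 0 ∧ U₁ (q 0) * U₁ (q 0) = 1) ∨ (U₀ (q 0) * U₀ (q 0) = 1 ∧ U₁ (q 0) = 0)) := by
      rcases h0 with ⟨h0, h0'⟩ | ⟨h0, h0'⟩ <;> rcases h2 with ⟨h2, h2'⟩ | ⟨h2, h2'⟩
      · rw [h0', h2'] at b5
        exact (hbad U₀ U₁ (fun _ => rfl) (by linarith) h0' (by linarith)).elim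
      · rw [h2] at a5
        rw [h0'] at b5
        exact ⟨by linarith, by linarith, Or.inr ⟨h0, h0'⟩⟩
      · rw [h0] at a5
        rw [h2'] at b5
        exact ⟨by linarith, by linarith, Or.inl ⟨h0, h0'⟩⟩
      · rw [h0, h2] at a5
        exact (hbad U₁ U₀ (fun _ => add_comm _ _) (by linarith) h0 (by linarith)).elim
    have hsq : ∀ x ∈ F, U₀ x * U₀ x = 1 ∧ (U₀ x = 1 ∨ U₀ x = -1) ∧ (U₁ x = 1 ∨ U₁ x = -1) := by
      intro x hx
      have hx0 := hne x hx 0
      obtain ⟨l, hl⟩ := hpar (by omega) x hx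
      have l0 := hle U₀ x hx
      have l1 := hle U₁ x hx
      rcases Star.int_sq_le_three (x := U₀ x) (by linarith) with e0 | e0 | e0 <;>
        rcases Star.int_sq_le_three (x := U₁ x) (by linarith) with e1 | e1 | e1 <;>
          rw [e0, e1] at hl hx0 ⊢ <;> first | omega | simp | exact absurd (by ring) hx0
    refine ⟨?_, fun x hx => ?_⟩
    · have : ((F.card : ℕ) : ℤ) = 2 := by
        rw [← hU0, Finset.sum_congr rfl fun x hx => (hsq x hx).1, Finset.sum_const, nsmul_eq_mul,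
          mul_one]
      omega
    · obtain ⟨-, e0, e1⟩ := hsq x hx
      rw [hf]
      rcases hq with ⟨h, h'⟩ | ⟨h', h⟩ <;>
        rcases Int.isUnit_iff.1 (IsUnit.of_mul_eq_one _ h') with h'' | h'' <;>
        rcases e0 with e0 | e0 <;> rcases e1 with e1 | e1 <;> rw [h, h'', e0, e1] <;> norm_num
  · rw [hw] at hf
    have hz : ∀ x ∈ bFin B, U₁ x = 0 := fun x hx => hG.eq_zero_of_g (hG.U11.trans hg1) hx
    have hodd : ∀ k, Odd (U₀ (q k)) := fun k => by
      have := hparq (by omega) k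
      rwa [hz _ (hS.lay.q_mem k), add_zero] at this
    have h1 : ∀ k, 1 ≤ U₀ (q k) * U₀ (q k) := fun k => one_le_sq_of_odd (hodd k)
    have hev : ∀ x ∈ F, U₀ x ≠ 0 ∧ (2 : ℤ) ∣ U₀ x := fun x hx => by
      have hxB := (Finset.mem_sdiff.1 hx).1
      have h := hne x hx 0
      have h' := hpar (by omega) x hx
      rw [hz x hxB, add_zero, even_iff_two_dvd] at h'
      rw [hz x hxB, zero_mul, add_zero] at h
      exact ⟨(mul_ne_zero_iff.1 h).1, h'⟩
    have h4 : ∀ x ∈ F, 4 ≤ U₀ x * U₀ x := fun x hx => by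
      obtain ⟨h, k, hk⟩ := hev x hx
      have : k ≤ -1 ∨ 1 ≤ k := by rw [hk] at h; omega
      rw [hk]
      rcases this with h' | h' <;> nlinarith
    have hq0 : U₀ (q 0) = 1 ∨ U₀ (q 0) = -1 := by
      have hle2 : U₀ (q 0) * U₀ (q 0) ≤ 3 := by linarith [h1 2, hn U₀]
      rcases Star.int_sq_le_three hle2 with h | h | h
      · have := h1 0; rw [h] at this; norm_num at this
      exacts [Or.inl h, Or.inr h]
    have hsum : ∑ x ∈ F, U₀ x * U₀ x = 4 := by
      have e2 : U₀ (q 2) * U₀ (q 2) ≤ 3 := by linarith [h1 0, hn U₀]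
      have : U₀ (q 2) * U₀ (q 2) = 1 := by
        rcases Star.int_sq_le_three e2 with h | h | h
        · have := h1 2; rw [h] at this; norm_num at this
        all_goals rw [h]; norm_num
      rcases hq0 with h | h <;> rw [h] at a5 <;> linarith
    have hcard : F.card = 1 := by
      have hlo := Finset.card_nsmul_le_sum F (fun x => U₀ x * U₀ x) 4 h4
      rw [hsum] at hlo
      simp at hlo
      have : F.card ≠ 0 := fun h => by
        rw [Finset.card_eq_zero.1 h, Finset.sum_empty] at hsum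
        norm_num at hsum
      omega
    refine ⟨by omega, fun x hx => ?_⟩
    have hxs : U₀ x * U₀ x = 4 := le_antisymm (hsum ▸ hle U₀ x hx) (h4 x hx)
    have hx2 : U₀ x = 2 ∨ U₀ x = -2 := by
      have : (U₀ x - 2) * (U₀ x + 2) = 0 := by linarith
      rcases mul_eq_zero.1 this with h | h
      exacts [Or.inl (by linarith), Or.inr (by linarith)]
    rw [hz x (Finset.mem_sdiff.1 hx).1]
    rcases hq0 with h | h <;> rcases hx2 with h' | h' <;> rw [h, h'] <;>
      first | exact Or.inl (by linarith) | exact Or.inr (by linarith)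
  · have hF0 : F = ∅ := Finset.eq_empty_of_forall_notMem fun x hx => hne x hx 0 (by
      have hxB := (Finset.mem_sdiff.1 hx).1
      rw [hG.eq_zero_of_g (hG.U00.trans hg0) hxB, hG.eq_zero_of_g (hG.U11.trans hg1) hxB]
      ring)
    rw [hF0]
    exact ⟨by simp [ho], by simp⟩

/-- The number of characters and their heights. -/
theorem heights {O : Finset G} (hO : IsOuter P e σ τ M₀ O) {a : ℕ} (ha : M₀ = 2 ^ a) :
    (hzFin B).card = 4 ∧ Nat.card B + oH = M₀ + 5 ∧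
      (∀ χ ∈ B, blockHeight 2 B χ.1 = 0 ∨ blockHeight 2 B χ.1 = 1 ∨ blockHeight 2 B χ.1 = a) ∧
      (2 ≤ a → Nat.card {χ : IrrCharacter G // χ ∈ B ∧ blockHeight 2 B χ.1 = 1} = M₀ - 1) := by
  obtain ⟨hhz, h4⟩ := hG.hz_eq c hS
  obtain ⟨f, -, hfw, hcf⟩ := hG.exists_coef c
  obtain ⟨hFc, hFv⟩ := hG.rest_rows c hS hO hfw
  obtain ⟨ze0, zp0, -⟩ := hG.vec_zero c hS hO U₀ g₀ (Or.inl ⟨rfl, rfl⟩)
  obtain ⟨ze1, zp1, -⟩ := hG.vec_zero c hS hO U₁ g₁ (Or.inr ⟨rfl, rfl⟩)
  have hq0 : q 0 ∈ hzFin B := hhz ▸ Finset.mem_image_of_mem q (Finset.mem_univ 0)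
  have hqh : ∀ k, blockHeight 2 B (q k).1 = 0 := fun k =>
    (mem_hzFin.1 (hhz ▸ Finset.mem_image_of_mem q (Finset.mem_univ k) : q k ∈ hzFin B)).2
  have h1 : ∀ x, x ∈ bFin B → A x * A x = 4 → U₀ x = 0 → U₁ x = 0 →
      blockHeight 2 B x.1 = 1 := by
    intro x hx hA h0 h0'
    have hAx : A x = 2 ∨ A x = -2 := by
      have : (A x - 2) * (A x + 2) = 0 := by linarith
      rcases mul_eq_zero.1 this with h | h
      exacts [Or.inl (by linarith), Or.inr (by linarith)]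
    have hval := (hG.height_val c (mem_bFin.1 hx) hq0 (hcf x (q 0))).2.2
    rcases hAx with h | h <;> rcases hS.Aq 0 with h' | h'
    · exact hval 1 1 odd_one (by rw [h, h', h0, h0']; ring)
    · exact hval 1 (-1) (by norm_num) (by rw [h, h', h0, h0']; ring)
    · exact hval 1 (-1) (by norm_num) (by rw [h, h', h0, h0']; ring)
    · exact hval 1 1 odd_one (by rw [h, h', h0, h0']; ring)
  have h2 : ∀ x ∈ bFin B \ layRows M₀ r ee pp q, blockHeight 2 B x.1 = a := by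
    intro x hx
    obtain ⟨hxB, hxT⟩ := Finset.mem_sdiff.1 hx
    have hval := (hG.height_val c (mem_bFin.1 hxB) hq0 (hcf x (q 0))).2.2
    rcases hFv x hx with h | h
    · exact hval a 1 odd_one (by rw [h, hS.A0 x hxB hxT, ha]; push_cast; ring)
    · exact hval a (-1) (by norm_num) (by rw [h, hS.A0 x hxB hxT, ha]; push_cast; ring)
  have hcls : ∀ x ∈ bFin B, ((∃ k, x = q k) ∧ blockHeight 2 B x.1 = 0) ∨
      ((∀ k, x ≠ q k) ∧ x ∈ layRows M₀ r ee pp q ∧ blockHeight 2 B x.1 = 1) ∨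
      (x ∉ layRows M₀ r ee pp q ∧ blockHeight 2 B x.1 = a) := by
    intro x hx
    by_cases hT : x ∈ layRows M₀ r ee pp q
    · rcases of_mem_layRows hT with ⟨k, rfl⟩ | ⟨b, hb, rfl⟩ | ⟨b, hb, rfl⟩
      · exact Or.inl ⟨⟨k, rfl⟩, hqh k⟩
      · exact Or.inr (Or.inl ⟨fun k => (hS.lay.qe b hb k).symm, hT,
          h1 _ hx (hS.Ae b hb) (ze0 b hb) (ze1 b hb)⟩)
      · exact Or.inr (Or.inl ⟨fun k => (hS.lay.qp b hb k).symm, hT,
          h1 _ hx (hS.Ap b hb) (zp0 b hb) (zp1 b hb)⟩)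
    · exact Or.inr (Or.inr ⟨hT, h2 x (Finset.mem_sdiff.2 ⟨hx, hT⟩)⟩)
  have hrows := hS.lay.card_rows c
  refine ⟨h4, ?_, fun χ hχ => ?_, fun ha2 => ?_⟩
  · have := Finset.card_sdiff_add_card_eq_card hS.lay.subset
    rw [card_bFin] at this
    omega
  · rcases hcls χ (mem_bFin.2 hχ) with ⟨-, h⟩ | ⟨-, -, h⟩ | ⟨-, h⟩
    exacts [Or.inl h, Or.inr (Or.inl h), Or.inr (Or.inr h)]
  · have hset : Nat.card {χ : IrrCharacter G // χ ∈ B ∧ blockHeight 2 B χ.1 = 1} =
        (layRows M₀ r ee pp q \ Finset.univ.image q).card := by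
      rw [Nat.card_eq_fintype_card, Fintype.card_subtype]
      congr 1
      ext χ
      simp only [Finset.mem_filter, Finset.mem_univ, true_and, Finset.mem_sdiff, Finset.mem_image,
        not_exists]
      constructor
      · rintro ⟨hχ, hh⟩
        rcases hcls χ (mem_bFin.2 hχ) with ⟨-, h⟩ | ⟨hn, hT, -⟩ | ⟨-, h⟩
        · rw [hh] at h; norm_num at h
        · exact ⟨hT, fun k hk => hn k hk.symm⟩
        · omega
      · rintro ⟨hT, hn⟩
        have hB := hS.lay.subset hT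
        rcases hcls χ hB with ⟨⟨k, hk⟩, -⟩ | ⟨-, -, h⟩ | ⟨h, -⟩
        exacts [absurd hk.symm (hn k), ⟨mem_bFin.1 hB, h⟩, absurd hT h]
    have hsub : Finset.univ.image q ⊆ layRows M₀ r ee pp q := fun x hx => by
      obtain ⟨k, -, rfl⟩ := Finset.mem_image.1 hx
      exact q_mem_layRows k
    rw [hset, Finset.card_sdiff_of_subset hsub, Finset.card_image_of_injective _ hS.lay.q_inj]
    simp
    omega

end GData

namespace Ctx

variable (c : Ctx M B P e σ τ M₀ r)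
include c

/-- The invariants: `o`, `oH` count the classes outside the rotations in `G` and in `C(z)`. -/
theorem invariants : ∃ a o oH : ℕ, M₀ = 2 ^ a ∧ 1 ≤ blockRank 2 B ∧ blockRank 2 B + o = 3 ∧
    o ≤ oH ∧ oH ≤ 2 ∧ oH ≤ o + 1 ∧ (τ * τ = σ ^ M₀ → oH = o) ∧ (τ * τ = 1 → 1 ≤ oH) ∧
    Nat.card B + oH = M₀ + 5 ∧
    Nat.card {χ : IrrCharacter G // χ ∈ B ∧ blockHeight 2 B χ.1 = 0} = 4 ∧
    (∀ χ ∈ B, blockHeight 2 B χ.1 = 0 ∨ blockHeight 2 B χ.1 = 1 ∨ blockHeight 2 B χ.1 = a) ∧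
    (2 ≤ a → Nat.card {χ : IrrCharacter G // χ ∈ B ∧ blockHeight 2 B χ.1 = 1} = M₀ - 1) := by
  obtain ⟨a, ha⟩ := c.data.two_pow
  obtain ⟨O, hO⟩ := exists_isOuter P e σ τ M₀
  obtain ⟨oH, δ, m, A, U₀, U₁, w, g₀, g₁, hG, hle, hge, hQ, hS'⟩ := c.exists_gData hO
  obtain ⟨ee, pp, q, hS⟩ := hG.exists_gShape c hO hge
  obtain ⟨h4, hk, hh, h1⟩ := hG.heights c hS hO ha
  have hoH : oH ≤ 2 := by rcases hG.cases with h | h | h <;> omega
  have hcb := c.card_block hO
  rw [blockRank_one c.block c.isMax] at hcb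
  have := hG.rank
  refine ⟨a, O.card, oH, ha, c.one_le_blockRank, by omega, hle, hoH, hge, hQ, hS', hk, ?_, hh, h1⟩
  rw [← card_hzFin]
  exact h4

end Ctx

end Cfsg.Agent.TameBlock
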