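import Cfsg.Agent.Lib.TameBlock.GLayout

/-!
# The rows in the whole group

`Ctx.exists_gShape`: the coincidences and the exceptional shape are impossible in the whole group,
so the distinguished rows have the layout `GShape`.
-/

set_option autoImplicit false
set_option linter.unusedSectionVars false
set_option linter.style.haveILetI false
set_option maxHeartbeats 1000000

namespace Cfsg.Agent.TameBlock

open Cfsg Blocks MonoidAlgebra
open Cfsg.Agent.BrauerPairs (blk blkG conjEl IsMax IsPair)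
open Cfsg.Agent.Blocks.NilRank
open Star (ind)
open scoped Classical ComplexConjugate

universe u

variable {G : Type u} [Group G] [Fintype G] {M : Ideal AlgInt} [M.IsMaximal] [Fact (Nat.Prime 2)]
  [CharP (AlgInt ⧸ M) 2] {B : Set (IrrCharacter G)} {P : Subgroup G}
  {e : MonoidAlgebra (AlgInt ⧸ M) G} {σ τ : G} {M₀ r : ℕ} [NeZero (2 * M₀)]
  {m : IrrCharacter G → ZMod (2 * M₀) → ℤ} {A : IrrCharacter G → ℤ}
  {ee pp : ZMod (2 * M₀) → IrrCharacter G} {q : Fin 4 → IrrCharacter G}

theorem sgnA_zero_eq {N : ℕ} [NeZero N] : sgnA (0 : ZMod N) = 1 := by simp [sgnA]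

theorem ne_of_sgn {N : ℕ} {u a : ZMod N} (hu : sgnA u = 1) (ha : sgnA a = -1) : u ≠ a := by
  rintro rfl
  rw [hu] at ha
  norm_num at ha

theorem odd_of_dvd_sub {n x y : ℤ} (hn : (2 : ℤ) ∣ n) (h : n ∣ x - y) (hy : Odd y) : Odd x := by
  obtain ⟨k, hk⟩ := hn.trans h
  obtain ⟨l, hl⟩ := hy
  exact ⟨k + l, by linarith⟩

theorem four_le_sq {x : ℤ} (h : (4 : ℤ) ∣ x - 2 ∨ (4 : ℤ) ∣ x + 2) : 4 ≤ x * x := by
  have : x ≤ -2 ∨ 2 ≤ x := by omega
  rcases this with h | h <;> nlinarith

theorem one_le_sq_of_odd {x : ℤ} (h : Odd x) : 1 ≤ x * x := by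
  obtain ⟨k, rfl⟩ := h
  have : k ≤ -1 ∨ 0 ≤ k := by omega
  rcases this with h | h <;> nlinarith

theorem nine_le_sq {x : ℤ} (h : (8 : ℤ) ∣ x - 3 ∨ (8 : ℤ) ∣ x + 3) : 9 ≤ x * x := by
  have : x ≤ -3 ∨ 3 ≤ x := by omega
  rcases this with h | h <;> nlinarith

theorem exists_sort : ∀ x : Fin 4 → Bool, (Finset.univ.filter fun k => x k = true).card = 2 →
    ∃ π ∈ ({1, Equiv.swap 1 2, Equiv.swap 1 3, Equiv.swap 0 2, Equiv.swap 0 3,
      Equiv.swap 0 2 * Equiv.swap 1 3} : Finset (Equiv.Perm (Fin 4))),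
      x (π 0) = true ∧ x (π 1) = true ∧ x (π 2) = false ∧ x (π 3) = false := by
  decide

theorem coinc_int {α t x y : ℤ} (hα : α * α = 1) (ht : t = 3 * α ∨ t = -α)
    (hlin : (6 * α + 2 * (2 * α - t)) * x + (2 * t - 2 * α) * y = 0)
    (hn : 6 * (x * x) + y * y + (2 * x - y) * (2 * x - y) ≤ 8) : x = 0 ∧ y = 0 := by
  have hα0 : 4 * α ≠ 0 := by intro h; rw [show α = 0 by omega] at hα; norm_num at hα
  have hy2 : y * y + (2 * x - y) * (2 * x - y) = 10 * (x * x) := by
    rcases ht with rfl | rfl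
    · have h0 : 4 * α * (x + y) = 0 := by linear_combination hlin
      rw [show y = -x by linarith [(mul_eq_zero.1 h0).resolve_left hα0]]
      ring
    · have h0 : 4 * α * (3 * x - y) = 0 := by linear_combination hlin
      rw [show y = 3 * x by linarith [(mul_eq_zero.1 h0).resolve_left hα0]]
      ring
  have hx : x * x = 0 := by
    have := mul_self_nonneg x
    omega
  have hx0 := mul_self_eq_zero.1 hx
  refine ⟨hx0, mul_self_eq_zero.1 ?_⟩
  subst hx0
  linarith

theorem sum_ind_inj {κ : Type*} {R : Finset κ} {f : κ → IrrCharacter G} (hf : Set.InjOn f R)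
    {a : κ} (ha : a ∈ R) : ∑ b ∈ R, ind (f b) (f a) = 1 := by
  rw [Finset.sum_eq_single_of_mem a ha fun b hb hne => Star.ind_ne fun h => hne (hf hb ha h.symm),
    Star.ind_self]

namespace Ctx

variable (c : Ctx M B P e σ τ M₀ r) (hm : Cols B M₀ r m)
include c hm

theorem odd_even_orth {a b u v : ZMod (2 * M₀)} (ha : sgnA a = -1) (hb : sgnA b = -1)
    (hu : sgnA u = 1) (hv : sgnA v = 1) :
    ∑ χ ∈ bFin B, (m χ a - m χ b) * (m χ u - m χ v) = 0 := by
  have hD := c.data
  rw [hm.gram_sub hD (ha.trans hb.symm) (hu.trans hv.symm) (bFin B) subset_rfl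
    fun χ hχ hn => absurd hχ hn]
  have key : ∀ x y : ZMod (2 * M₀), sgnA x = -1 → sgnA y = 1 →
      ind x y + ind ((r : ZMod (2 * M₀)) * x) y = 0 := fun x y hx hy => by
    rw [Star.ind_ne (ne_of_sgn hy hx), Star.ind_ne (ne_of_sgn hy ((hD.sgnA_r_mul x).trans hx)),
      add_zero]
  rw [key a u ha hu, key a v ha hv, key b u hb hu, key b v hb hv]
  ring

theorem const_on_p {εo : ℤ} (hO : OddPat (bFin B) M₀ r m εo pp) {a b : ZMod (2 * M₀)}
    (ha : a ∈ clR M₀ r (-1)) (hb : b ∈ clR M₀ r (-1)) {u v : ZMod (2 * M₀)} (hu : sgnA u = 1)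
    (hv : sgnA v = 1) :
    m (pp a) u - m (pp a) v = m (pp b) u - m (pp b) v := by
  have h := c.odd_even_orth hm (mem_clR.1 ha).2 (mem_clR.1 hb).2 hu hv
  rw [Finset.sum_congr rfl fun x (hx : x ∈ bFin B) =>
    show (m x a - m x b) * (m x u - m x v) =
      εo * (ind (pp a) x * (m x u - m x v) - ind (pp b) x * (m x u - m x v)) by
      rw [hO.diff a ha b hb x hx]; ring] at h
  simp only [← Finset.mul_sum, Finset.sum_sub_distrib, Star.sum_ind_mul (hO.p_mem _ ha),
    Star.sum_ind_mul (hO.p_mem _ hb)] at h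
  rcases hO.εo_sign with rfl | rfl <;> linarith

theorem residue {εe εo : ℤ} {s : Fin 4 → ℤ} (hP : Pat (bFin B) M₀ r m εe ee q s)
    (hO : OddPat (bFin B) M₀ r m εo pp) {x : IrrCharacter G} (hx : x ∈ bFin B) :
    (M₀ : ℤ) ∣ ∑ a, m x a - (∑ k, s k * ind (q k) x + 2 * εe * ∑ a ∈ clR M₀ r 1, ind (ee a) x +
      2 * εo * ∑ a ∈ clR M₀ r (-1), ind (pp a) x) := by
  have hD := c.data
  obtain ⟨hcn, hcp⟩ := c.card_clR
  obtain ⟨l₀, hl₀⟩ : (clR M₀ r (-1)).Nonempty := Finset.card_pos.1 (by have := hD.two_le; omega)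
  set β : ℤ := m x 0 - s 0 * ind (q 0) x - s 1 * ind (q 1) x with hβ
  set γ : ℤ := m x l₀ - εo * ind (pp l₀) x with hγ
  refine ⟨β + γ, ?_⟩
  have hM : m x (M₀ : ZMod (2 * M₀)) = β + s 2 * ind (q 2) x + s 3 * ind (q 3) x := by
    have := hP.zero_M x hx
    rw [hβ]
    linarith
  have hE : ∀ a ∈ clR M₀ r 1, m x a = β + εe * ind (ee a) x := fun a ha => by
    have := hP.zero_rep a ha x hx
    rw [hβ]
    linarith
  have hO' : ∀ a ∈ clR M₀ r (-1), m x a = γ + εo * ind (pp a) x := fun a ha => by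
    have := hO.diff a ha l₀ hl₀ x hx
    rw [hγ]
    linarith
  rw [hD.sum_symm c (m x) (hm.symm x), sum_pairReps, Finset.sum_congr rfl hE,
    Finset.sum_congr rfl hO', hM, Fin.sum_univ_four]
  simp only [Finset.sum_add_distrib, Finset.sum_const, nsmul_eq_mul, ← Finset.mul_sum]
  have h1 : (2 : ℤ) * (clR M₀ r (-1)).card = M₀ := by exact_mod_cast hcn
  have h2 : (2 : ℤ) * (clR M₀ r 1).card + 2 = M₀ := by exact_mod_cast hcp
  have h3 : m x 0 = β + s 0 * ind (q 0) x + s 1 * ind (q 1) x := by rw [hβ]; ring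
  rw [h3]
  linear_combination β * h2 + γ * h1

end Ctx

namespace GData

variable {oH : ℕ} {δ : ZMod (2 * M₀)} {U₀ U₁ : IrrCharacter G → ℤ} {w g₀ g₁ : ℤ}
  (hG : GData B P e σ M₀ r oH δ m A U₀ U₁ w g₀ g₁) (c : Ctx M B P e σ τ M₀ r)
include hG c

theorem not_exoticG {z₀ z₁ : ZMod (2 * M₀)}
    (hz : z₀ = 0 ∧ z₁ = (M₀ : ZMod (2 * M₀)) ∨ z₀ = (M₀ : ZMod (2 * M₀)) ∧ z₁ = 0)
    {εe : ℤ} {ee : ZMod (2 * M₀) → IrrCharacter G} {rr bb : IrrCharacter G} :
    ¬ Star.Exotic (bFin B) (clR M₀ r 1) (fun a x => m x z₀ - m x a)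
      (fun a x => m x z₁ - m x a) εe ee rr bb := by
  intro hE
  have hD := c.data
  obtain ⟨hcn, hcp⟩ := c.card_clR
  have h3 := hE.card
  have h8 : M₀ = 8 := by omega
  have hm := hG.rot.cols c
  obtain ⟨εo, pp, hO⟩ := hm.oddPat c subset_rfl (by omega) fun χ hχ hn => absurd hχ hn
  have hs : sgnA z₀ = 1 ∧ sgnA z₁ = 1 := by
    rcases hz with ⟨rfl, rfl⟩ | ⟨rfl, rfl⟩
    exacts [⟨sgnA_zero_eq, hD.sgnA_M⟩, ⟨hD.sgnA_M, sgnA_zero_eq⟩]
  have hε : εe ≠ 0 := by rcases hE.εe_sign with h | h <;> omega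
  set R := clR M₀ r 1 with hR
  set Ro := clR M₀ r (-1) with hRo
  have hpe : ∀ a ∈ R, ∀ d ∈ Ro, ee a ≠ pp d := by
    intro a ha d hd heq
    obtain ⟨a', ha', hne⟩ : ∃ a' ∈ R, a' ≠ a := by
      by_contra h
      push Not at h
      have : R ⊆ {a} := fun x hx => Finset.mem_singleton.2 (h x hx)
      have := Finset.card_le_card this
      simp at this
      omega
    obtain ⟨d', hd', hne'⟩ : ∃ d' ∈ Ro, d' ≠ d := by
      by_contra h
      push Not at h
      have : Ro ⊆ {d} := fun x hx => Finset.mem_singleton.2 (h x hx)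
      have := Finset.card_le_card this
      simp at this
      omega
    have key : ∀ d ∈ Ro, m (pp d) a' - m (pp d) a = εe * (ind (ee a') (pp d) - ind (ee a) (pp d)) :=
      fun d hd => by
        have h1 := hE.eqX a ha (pp d) (hO.p_mem d hd)
        have h2 := hE.eqX a' ha' (pp d) (hO.p_mem d hd)
        linear_combination h1 - h2
    have h := c.const_on_p hm hO hd hd' (mem_clR.1 ha').2 (mem_clR.1 ha).2
    rw [key d hd, key d' hd', ← heq, Star.ind_self,
      Star.ind_ne (fun h : ee a = ee a' => hne (hE.inj ha' ha h.symm)),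
      Star.ind_ne (fun h : pp d' = ee a => hne' (hO.inj hd' hd (h.trans heq)))] at h
    have h' := mul_left_cancel₀ hε h
    have : ind (ee a') (pp d') = 0 ∨ ind (ee a') (pp d') = 1 := by
      unfold ind; split_ifs <;> simp
    omega
  have hpz : ∀ d ∈ Ro, ∀ d' ∈ Ro,
      ind bb (pp d) - ind rr (pp d) = ind bb (pp d') - ind rr (pp d') := by
    intro d hd d' hd'
    obtain ⟨a, ha⟩ : R.Nonempty := Finset.card_pos.1 (by omega)
    have h := c.const_on_p hm hO hd hd' hs.2 (mem_clR.1 ha).2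
    have e0 : ∀ x ∈ Ro, ind (ee a) (pp x) = 0 := fun x hx => Star.ind_ne (hpe a ha x hx).symm
    rw [hE.eqY a ha _ (hO.p_mem d hd), hE.eqY a ha _ (hO.p_mem d' hd'), e0 d hd, e0 d' hd'] at h
    have := mul_left_cancel₀ hε h
    linarith
  have hdis : ∀ d ∈ Ro, bb ≠ pp d ∧ rr ≠ pp d := by
    intro d hd
    obtain ⟨d', hd', hne'⟩ : ∃ d' ∈ Ro, d' ≠ d := by
      by_contra h
      push Not at h
      have : Ro ⊆ {d} := fun x hx => Finset.mem_singleton.2 (h x hx)
      have := Finset.card_le_card this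
      simp at this
      omega
    have h := hpz d hd d' hd'
    constructor <;> intro heq
    · rw [← heq, Star.ind_self, Star.ind_ne hE.rb.symm,
        Star.ind_ne (fun h : pp d' = bb => hne' (hO.inj hd' hd (h.trans heq)))] at h
      have : ind rr (pp d') = 0 ∨ ind rr (pp d') = 1 := by unfold ind; split_ifs <;> simp
      omega
    · rw [← heq, Star.ind_self, Star.ind_ne hE.rb,
        Star.ind_ne (fun h : pp d' = rr => hne' (hO.inj hd' hd (h.trans heq)))] at h
      have : ind bb (pp d') = 0 ∨ ind bb (pp d') = 1 := by unfold ind; split_ifs <;> simp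
      omega
  obtain ⟨l₀, hl₀⟩ : Ro.Nonempty := Finset.card_pos.1 (by omega)
  obtain ⟨a₀, ha₀⟩ : R.Nonempty := Finset.card_pos.1 (by omega)
  have hres : ∀ x ∈ bFin B, (8 : ℤ) ∣ A x - (εe * (3 * ∑ a ∈ R, ind (ee a) x + ind bb x -
      2 * ind rr x) + 2 * εo * ∑ d ∈ Ro, ind (pp d) x) := by
    intro x hx
    have hc := hG.cong x
    rw [show (M₀ : ℤ) = 8 by exact_mod_cast h8] at hc
    set β : ℤ := m x z₀ - εe * (∑ a ∈ R, ind (ee a) x - ind rr x) with hβ
    set γ : ℤ := m x l₀ - εo * ind (pp l₀) x with hγ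
    have hEv : ∀ a ∈ R, m x a = β + εe * ind (ee a) x := fun a ha => by
      have := hE.eqX a ha x hx
      rw [hβ]
      linear_combination -this
    have hz1 : m x z₁ = β + εe * (ind bb x - ind rr x) := by
      have := hE.eqY a₀ ha₀ x hx
      have := hEv a₀ ha₀
      linarith
    have hOd : ∀ a ∈ Ro, m x a = γ + εo * ind (pp a) x := fun a ha => by
      have := hO.diff a ha l₀ hl₀ x hx
      rw [hγ]
      linarith
    have hpair : m x 0 + m x (M₀ : ZMod (2 * M₀)) = m x z₀ + m x z₁ := by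
      rcases hz with ⟨h, h'⟩ | ⟨h, h'⟩ <;> rw [h, h']
      ring
    have hsum : ∑ a, m x a = 8 * (β + γ) + (εe * (3 * ∑ a ∈ R, ind (ee a) x + ind bb x -
        2 * ind rr x) + 2 * εo * ∑ d ∈ Ro, ind (pp d) x) := by
      rw [hD.sum_symm c (m x) (hm.symm x), hpair, sum_pairReps, ← hR, ← hRo,
        Finset.sum_congr rfl hEv, Finset.sum_congr rfl hOd, hz1]
      simp only [Finset.sum_add_distrib, Finset.sum_const, nsmul_eq_mul, ← Finset.mul_sum]
      rw [show R.card = 3 from h3, show Ro.card = 4 by omega,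
        show m x z₀ = β + εe * (∑ a ∈ R, ind (ee a) x - ind rr x) by rw [hβ]; ring]
      push_cast
      ring
    rw [hsum] at hc
    obtain ⟨k, hk⟩ := hc
    exact ⟨k + β + γ, by linarith⟩
  set T := insert bb (insert rr (R.image ee ∪ Ro.image pp)) with hT
  have hTB : T ⊆ bFin B := by
    intro x hx
    simp only [hT, Finset.mem_insert, Finset.mem_union, Finset.mem_image] at hx
    rcases hx with rfl | rfl | ⟨a, ha, rfl⟩ | ⟨a, ha, rfl⟩
    exacts [hE.b_mem, hE.r_mem, hE.e_mem a ha, hO.p_mem a ha]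
  have hle := Finset.sum_le_sum_of_subset_of_nonneg (f := fun x => A x * A x) hTB
    fun x _ _ => mul_self_nonneg (A x)
  rw [hG.AA, h8, hT, Finset.sum_insert, Finset.sum_insert, Finset.sum_union,
    Finset.sum_image hE.inj, Finset.sum_image hO.inj] at hle
  rotate_left
  · rw [Finset.disjoint_left]
    intro x hx hx'
    obtain ⟨a, ha, rfl⟩ := Finset.mem_image.1 hx
    obtain ⟨d, hd, h⟩ := Finset.mem_image.1 hx'
    exact hpe a ha d hd h.symm
  · simp only [Finset.mem_union, Finset.mem_image, not_or, not_exists, not_and]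
    exact ⟨fun a ha h => hE.disjr a ha h.symm, fun d hd h => (hdis d hd).2 h.symm⟩
  · simp only [Finset.mem_insert, Finset.mem_union, Finset.mem_image, not_or, not_exists, not_and]
    exact ⟨hE.rb.symm, fun a ha h => hE.disjb a ha h.symm, fun d hd h => (hdis d hd).1 h.symm⟩
  have e1 : ∀ a ∈ R, (9 : ℤ) ≤ A (ee a) * A (ee a) := fun a ha => by
    refine nine_le_sq ?_
    have h := hres _ (hE.e_mem a ha)
    rw [sum_ind_inj hE.inj ha, Star.ind_ne (fun h : ee a = bb => hE.disjb a ha h.symm),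
      Star.ind_ne (fun h : ee a = rr => hE.disjr a ha h.symm),
      Finset.sum_eq_zero fun d hd => Star.ind_ne (hpe a ha d hd)] at h
    rcases hE.εe_sign with h' | h' <;> rw [h'] at h <;> norm_num at h <;> omega
  have e2 : ∀ d ∈ Ro, (4 : ℤ) ≤ A (pp d) * A (pp d) := fun d hd => by
    refine four_le_sq ?_
    have h := hres _ (hO.p_mem d hd)
    rw [sum_ind_inj hO.inj hd, Star.ind_ne (hdis d hd).1.symm, Star.ind_ne (hdis d hd).2.symm,
      Finset.sum_eq_zero fun a ha => Star.ind_ne (hpe a ha d hd).symm] at h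
    rcases hO.εo_sign with h' | h' <;> rw [h'] at h <;> norm_num at h <;> omega
  have e3 : (1 : ℤ) ≤ A bb * A bb := by
    refine one_le_sq_of_odd ?_
    have h := hres _ hE.b_mem
    rw [Finset.sum_eq_zero fun a ha => Star.ind_ne (hE.disjb a ha), Star.ind_self,
      Star.ind_ne hE.rb.symm, Finset.sum_eq_zero fun d hd => Star.ind_ne (hdis d hd).1] at h
    refine odd_of_dvd_sub (by norm_num) h ?_
    rcases hE.εe_sign with h' | h' <;> rw [h'] <;> norm_num
  have e4 : (4 : ℤ) ≤ A rr * A rr := by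
    refine four_le_sq ?_
    have h := hres _ hE.r_mem
    rw [Finset.sum_eq_zero fun a ha => Star.ind_ne (hE.disjr a ha), Star.ind_self,
      Star.ind_ne hE.rb, Finset.sum_eq_zero fun d hd => Star.ind_ne (hdis d hd).2] at h
    rcases hE.εe_sign with h' | h' <;> rw [h'] at h <;> norm_num at h <;> omega
  have s1 := Finset.card_nsmul_le_sum R (fun a => A (ee a) * A (ee a)) 9 e1
  have s2 := Finset.card_nsmul_le_sum Ro (fun a => A (pp a) * A (pp a)) 4 e2
  rw [show R.card = 3 from h3] at s1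
  rw [show Ro.card = 4 by omega] at s2
  simp at s1 s2
  push_cast at hle
  linarith

theorem coinc_false {O : Finset G} (hO : IsOuter P e σ τ M₀ O) (hoH : oH ≤ O.card + 1)
    (h4 : M₀ = 4) {εe εo : ℤ} {s : Fin 4 → ℤ} (hP : Pat (bFin B) M₀ r m εe ee q s)
    (hOd : OddPat (bFin B) M₀ r m εo pp) {i j i' j' : Fin 4}
    (hij : (i = 0 ∧ j = 1 ∧ i' = 2 ∧ j' = 3) ∨ (i = 2 ∧ j = 3 ∧ i' = 0 ∧ j' = 1))
    (hs : s i = s j) {a b : ZMod (2 * M₀)} (ha : a ∈ clR M₀ r (-1)) (hb : b ∈ clR M₀ r (-1))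
    (hab : a ≠ b) (hpa : pp a = q i) (hpb : pp b = q j) : False := by
  have hD := c.data
  have hm := hG.rot.cols c
  obtain ⟨hA, hU₀, hU₁⟩ := hG.colPerp c
  obtain ⟨hcn, hcp⟩ := c.card_clR
  obtain ⟨c₀, hc₀⟩ : (clR M₀ r 1).Nonempty := Finset.card_pos.1 (by omega)
  have hR1 : clR M₀ r 1 = {c₀} := by
    obtain ⟨z, hz⟩ := Finset.card_eq_one.1 (show (clR M₀ r 1).card = 1 by omega)
    rw [hz, Finset.mem_singleton] at hc₀
    rw [hz, hc₀]
  have hRo : clR M₀ r (-1) = {a, b} :=
    (Finset.eq_of_subset_of_card_le (by simp [Finset.insert_subset_iff, ha, hb])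
      (by rw [Finset.card_pair hab]; omega)).symm
  have hsq : ∀ k, s k * s k = 1 := fun k => by
    rcases hP.s_sign k with h | h <;> rw [h] <;> norm_num
  have hε2 : εe * εe = 1 := by rcases hP.εe_sign with h | h <;> rw [h] <;> norm_num
  have hrel : ∀ v : IrrCharacter G → ℤ, ColPerp B M₀ m v → v (q j) = v (q i) ∧
      2 * (s i * v (q i)) = εe * v (ee c₀) ∧
      s i' * v (q i') + s j' * v (q j') = εe * v (ee c₀) := by
    intro v hv
    obtain ⟨h1, h2⟩ := hP.perp_rel hD hv
    have h2' := h2 c₀ hc₀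
    have hvv : v (q j) = v (q i) := by rw [← hpa, ← hpb]; exact hOd.perp_const hv hb ha
    have hjj : s j * v (q j) = s i * v (q i) := by rw [hvv, hs]
    refine ⟨hvv, ?_⟩
    rcases hij with ⟨rfl, rfl, rfl, rfl⟩ | ⟨rfl, rfl, rfl, rfl⟩ <;>
      constructor <;> linarith
  have hq4 : ∀ F : IrrCharacter G → ℤ,
      ∑ k, F (q k) = F (q i) + F (q j) + F (q i') + F (q j') := fun F => by
    rw [Fin.sum_univ_four]
    rcases hij with ⟨rfl, rfl, rfl, rfl⟩ | ⟨rfl, rfl, rfl, rfl⟩ <;> ring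
  set T := insert (ee c₀) (Finset.univ.image q) with hT
  have hTB : T ⊆ bFin B := by
    intro x hx
    simp only [hT, Finset.mem_insert, Finset.mem_image, Finset.mem_univ, true_and] at hx
    rcases hx with rfl | ⟨k, rfl⟩
    exacts [hP.e_mem c₀ hc₀, hP.q_mem k]
  have hTsum : ∀ F : IrrCharacter G → ℤ,
      ∑ x ∈ T, F x = F (ee c₀) + (F (q i) + F (q j) + F (q i') + F (q j')) := fun F => by
    rw [hT, Finset.sum_insert (by simp only [Finset.mem_image, Finset.mem_univ, true_and, not_exists]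
                                  exact hP.disj c₀ hc₀),
      Finset.sum_image hP.q_inj.injOn, hq4]
  have hres : ∀ x ∈ bFin B, (4 : ℤ) ∣ A x - (∑ k, s k * ind (q k) x + 2 * εe * ind (ee c₀) x +
      2 * εo * (ind (q i) x + ind (q j) x)) := by
    intro x hx
    have h1 := c.residue hm hP hOd hx
    rw [hR1, hRo, Finset.sum_singleton, Finset.sum_pair hab, hpa, hpb] at h1
    have h := dvd_add (hG.cong x) h1
    rwa [sub_add_sub_cancel, show (M₀ : ℤ) = 4 by exact_mod_cast h4] at h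
  have hrest : ∀ x ∈ bFin B, x ∉ T → (4 : ℤ) ∣ A x := by
    intro x hx hn
    simp only [hT, Finset.mem_insert, Finset.mem_image, Finset.mem_univ, true_and, not_or,
      not_exists] at hn
    have e0 : ∀ k, ind (q k) x = 0 := fun k => Star.ind_ne fun h => hn.2 k h.symm
    have h := hres x hx
    simpa [e0, Star.ind_ne hn.1] using h
  obtain ⟨hAj, hAe, hAo⟩ := hrel A hA
  have hodd : ∀ k, Odd (A (q k)) := fun k => by
    refine odd_of_dvd_sub (by norm_num) (hres _ (hP.q_mem k)) ?_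
    simp only [hP.ind_q, hP.ind_e_q _ hc₀, mul_ite, mul_one, mul_zero, add_zero,
      Finset.sum_ite_eq, Finset.mem_univ, if_true]
    obtain ⟨l, hl⟩ : Odd (s k) := by rcases hP.s_sign k with h | h <;> rw [h] <;> norm_num
    exact ⟨l + εo * ((if k = i then 1 else 0) + (if k = j then 1 else 0)), by rw [hl]; ring⟩
  set α := s i * A (q i) with hα
  set t := s i' * A (q i') with ht
  have hAe2 : A (ee c₀) = 2 * α * εe := by
    linear_combination -εe * hAe - A (ee c₀) * hε2
  have ht' : s j' * A (q j') = 2 * α - t := by rw [ht]; linarith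
  have hsqA : ∀ k, A (q k) * A (q k) = s k * A (q k) * (s k * A (q k)) := fun k => by
    linear_combination -(A (q k) * A (q k)) * hsq k
  have hAA := hG.AA
  rw [← Finset.sum_sdiff hTB, hTsum, hAj, hsqA i, hsqA i', hsqA j', ← hα, ← ht, ht', hAe2, h4]
    at hAA
  push_cast at hAA
  have hrn : 0 ≤ ∑ x ∈ bFin B \ T, A x * A x := Finset.sum_nonneg fun x _ => mul_self_nonneg _
  have hα1 : 1 ≤ α * α := by rw [hα, ← hsqA]; exact one_le_sq_of_odd (hodd i)
  have ht1 : 1 ≤ t * t := by rw [ht, ← hsqA]; exact one_le_sq_of_odd (hodd i')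
  have ht1' : 1 ≤ (2 * α - t) * (2 * α - t) := by
    rw [← ht', ← hsqA]; exact one_le_sq_of_odd (hodd j')
  have hrest0 : ∀ x ∈ bFin B, x ∉ T → A x = 0 := by
    intro x hx hn
    by_contra hne
    obtain ⟨k, hk⟩ := hrest x hx hn
    have h16 : 16 ≤ A x * A x := by
      rw [hk]
      have : k ≠ 0 := fun h => hne (by rw [hk, h, mul_zero])
      have : k ≤ -1 ∨ 1 ≤ k := by omega
      rcases this with h | h <;> nlinarith
    have := Finset.single_le_sum (f := fun x => A x * A x) (fun x _ => mul_self_nonneg (A x))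
      (Finset.mem_sdiff.2 ⟨hx, hn⟩)
    nlinarith
  rw [Finset.sum_eq_zero fun x hx => by
    rw [hrest0 x (Finset.mem_sdiff.1 hx).1 (Finset.mem_sdiff.1 hx).2, mul_zero]] at hAA
  have hα2 : α * α = 1 := by
    have h1 : α * α ≤ 2 := by nlinarith [mul_self_nonneg (t - α)]
    have : -2 < α ∧ α < 2 := ⟨by nlinarith, by nlinarith⟩
    nlinarith
  have htc : t = 3 * α ∨ t = -α := by
    have : (t - 3 * α) * (t + α) = 0 := by nlinarith
    rcases mul_eq_zero.1 this with h | h
    exacts [Or.inl (by linarith), Or.inr (by linarith)]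
  have hzero : ∀ (v : IrrCharacter G → ℤ) (g : ℤ), ColPerp B M₀ m v →
      ∑ χ ∈ bFin B, A χ * v χ = 0 → ∑ χ ∈ bFin B, v χ * v χ = g → g ≤ 8 → ∀ x ∈ T, v x = 0 := by
    intro v g hv hAv hvv hg8
    obtain ⟨hvj, hve, hvo⟩ := hrel v hv
    set x₀ := s i * v (q i) with hx₀
    set y := s i' * v (q i') with hy
    have hve2 : v (ee c₀) = 2 * x₀ * εe := by
      linear_combination -εe * hve - v (ee c₀) * hε2
    have hy' : s j' * v (q j') = 2 * x₀ - y := by linarith
    have hmul : ∀ k, A (q k) * v (q k) = s k * A (q k) * (s k * v (q k)) := fun k => by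
      linear_combination -(A (q k) * v (q k)) * hsq k
    have hsqv : ∀ k, v (q k) * v (q k) = s k * v (q k) * (s k * v (q k)) := fun k => by
      linear_combination -(v (q k) * v (q k)) * hsq k
    rw [sum_eq_of_vanish hTB (fun z hz hn => by rw [hrest0 z hz hn, zero_mul]), hTsum, hAj, hvj,
      hmul i, hmul i', hmul j', ← hα, ← hx₀, ← ht, ← hy, ht', hy', hAe2, hve2] at hAv
    have hle := Finset.sum_le_sum_of_subset_of_nonneg (f := fun z => v z * v z) hTB
      fun z _ _ => mul_self_nonneg (v z)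
    rw [hTsum, hvv, hvj, hsqv i, hsqv i', hsqv j', ← hx₀, ← hy, hy', hve2] at hle
    have hlin : (6 * α + 2 * (2 * α - t)) * x₀ + (2 * t - 2 * α) * y = 0 := by
      linear_combination hAv - 4 * α * x₀ * hε2
    have e1 : 2 * x₀ * εe * (2 * x₀ * εe) = 4 * (x₀ * x₀) := by
      linear_combination (4 * x₀ * x₀) * hε2
    obtain ⟨hx0, hy0⟩ := coinc_int hα2 htc hlin (by linarith only [hle, hg8, e1])
    intro z hz
    simp only [hT, Finset.mem_insert, Finset.mem_image, Finset.mem_univ, true_and] at hz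
    rcases hz with rfl | ⟨k, rfl⟩
    · rw [hve2, hx0]; ring
    · have hk : k = i ∨ k = j ∨ k = i' ∨ k = j' := by
        rcases hij with ⟨rfl, rfl, rfl, rfl⟩ | ⟨rfl, rfl, rfl, rfl⟩ <;> fin_cases k <;> simp
      have key : ∀ k, s k * v (q k) = 0 → v (q k) = 0 := fun k h =>
        (mul_eq_zero.1 h).resolve_left fun h' => by have := hsq k; rw [h'] at this; norm_num at this
      rcases hk with rfl | rfl | rfl | rfl
      exacts [key _ hx0, hvj.trans (key _ hx0), key _ hy0, key _ (by rw [hy', hx0, hy0]; ring)]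
  have hg : g₀ ≤ 8 ∧ g₁ ≤ 8 := by rcases hG.cases with h | h | h <;> omega
  have hz₀ := hzero U₀ g₀ hU₀ hG.AU₀ hG.U00 hg.1
  have hz₁ := hzero U₁ g₁ hU₁ hG.AU₁ hG.U11 hg.2
  have hqT : q i ∈ T := Finset.mem_insert_of_mem (Finset.mem_image_of_mem q (Finset.mem_univ i))
  by_cases ho : oH ≤ 1
  · have h := hG.parity ho (q i)
    rw [hz₀ _ hqT, hz₁ _ hqT, add_zero, add_zero] at h
    exact Int.not_even_iff_odd.2 (hodd i) h
  · obtain ⟨hoe, hg0, hg1⟩ : oH = 2 ∧ g₀ = 0 ∧ g₁ = 0 := by
      rcases hG.cases with h | h | h <;> omega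
    obtain ⟨χ₀, hχ₀⟩ := Finset.card_ne_zero.1
      (four_dvd_card_hzFin c.pM c.block c.two_le_blockDefect).2
    have hsub : bFin B ⊆ T := by
      intro x hx
      by_contra hn
      refine hG.coef_ne_zero c (mem_bFin.1 hx) hχ₀ (Or.inl (hrest0 x hx hn)) ?_
      rw [hG.eq_zero_of_g (hG.U00.trans hg0) hx, hG.eq_zero_of_g (hG.U11.trans hg1) hx]
      ring
    have hk : Nat.card B ≤ 5 := by
      rw [← card_bFin]
      refine (Finset.card_le_card hsub).trans ?_
      rw [hT]
      refine (Finset.card_insert_le _ _).trans ?_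
      rw [Finset.card_image_of_injective _ hP.q_inj]
      simp
    have hcb := c.card_block hO
    rw [blockRank_one c.block c.isMax] at hcb
    have := hG.rank
    have := c.one_le_blockRank
    omega

/-- The layout of the rows. -/
theorem exists_gShape {O : Finset G} (hO : IsOuter P e σ τ M₀ O) (hoH : oH ≤ O.card + 1) :
    ∃ ee pp q, GShape B M₀ r m A ee pp q := by
  have hD := c.data
  have hm := hG.rot.cols c
  obtain ⟨hA, -, -⟩ := hG.colPerp c
  obtain ⟨hcn, hcp⟩ := c.card_clR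
  obtain ⟨a, hpow⟩ := hD.two_pow
  have htriv : ∀ χ ∈ bFin B, χ ∉ bFin B → ∀ a : ZMod (2 * M₀), sgnA a = 1 → m χ a = 0 :=
    fun χ hχ hn => absurd hχ hn
  rcases hm.evenPat c subset_rfl htriv with ⟨εe, ee, q, s, hP⟩ | ⟨εe, ee, r₁, r₂, hE | hE⟩
  rotate_left
  · exact absurd hE (hG.not_exoticG c (Or.inl ⟨rfl, rfl⟩))
  · exact absurd hE (hG.not_exoticG c (Or.inr ⟨rfl, rfl⟩))
  by_cases h4 : 4 ≤ M₀
  · -- at least two pairs of odd exponents
    obtain ⟨εo, pp, hOd⟩ := hm.oddPat c subset_rfl h4 fun χ hχ hn => absurd hχ hn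
    have h4d : (4 : ℤ) ∣ (M₀ : ℤ) := by
      rcases a with _ | _ | a
      · simp at hpow; omega
      · simp at hpow; omega
      · exact ⟨2 ^ a, by rw [hpow]; push_cast; ring⟩
    have h2d : (2 : ℤ) ∣ (M₀ : ℤ) := (show (2 : ℤ) ∣ 4 by norm_num).trans h4d
    obtain ⟨c₀, hc₀⟩ : (clR M₀ r 1).Nonempty := Finset.card_pos.1 (by omega)
    have hX : ∀ l, m (q l) 0 - m (q l) (M₀ : ZMod (2 * M₀)) =
        ![s 0, s 1, -s 2, -s 3] l := fun l => by
      rw [hP.zero_M _ (hP.q_mem l)]
      simp only [hP.ind_q]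
      fin_cases l <;> simp
    have hZ : ∀ l, m (q l) 0 - m (q l) c₀ = ![s 0, s 1, 0, 0] l := fun l => by
      rw [hP.zero_rep c₀ hc₀ _ (hP.q_mem l)]
      simp only [hP.ind_q, hP.ind_e_q _ hc₀]
      fin_cases l <;> simp
    have hX0 : ∀ x ∈ bFin B, (∀ k, q k ≠ x) → m x 0 - m x (M₀ : ZMod (2 * M₀)) = 0 :=
      fun x hx h => by
        rw [hP.zero_M x hx]
        simp [fun k => Star.ind_ne (a := q k) (Ne.symm (h k))]
    have hconst := fun a ha b hb u v (hu : sgnA u = 1) (hv : sgnA v = 1) =>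
      c.const_on_p hm hOd (a := a) (b := b) ha hb hu hv
    by_cases hpq : ∀ d ∈ clR M₀ r (-1), ∀ k, q k ≠ pp d
    · -- all rows distinct
      have hep : ∀ a ∈ clR M₀ r 1, ∀ d ∈ clR M₀ r (-1), ee a ≠ pp d := by
        intro a ha d hd heq
        obtain ⟨d', hd', hne⟩ : ∃ d' ∈ clR M₀ r (-1), d' ≠ d := by
          by_contra h
          push Not at h
          have : clR M₀ r (-1) ⊆ {d} := fun x hx => Finset.mem_singleton.2 (h x hx)
          have := Finset.card_le_card this
          simp at this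
          omega
        have h := hconst d hd d' hd' 0 a sgnA_zero_eq (mem_clR.1 ha).2
        rw [hP.zero_rep a ha _ (hOd.p_mem d hd), hP.zero_rep a ha _ (hOd.p_mem d' hd')] at h
        simp only [fun k => Star.ind_ne (a := q k) (hpq d hd k).symm,
          fun k => Star.ind_ne (a := q k) (hpq d' hd' k).symm] at h
        rw [← heq, Star.ind_self,
          Star.ind_ne (fun hh : pp d' = ee a => hne (hOd.inj hd' hd (hh.trans heq)))] at h
        rcases hP.εe_sign with h' | h' <;> rw [h'] at h <;> norm_num at h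
      have hL : Layout B M₀ r ee pp q :=
        ⟨hP.inj, hOd.inj, hP.q_inj, hP.e_mem, hOd.p_mem, hP.q_mem, hP.disj, hpq, hep⟩
      have hres : ∀ x ∈ bFin B, (M₀ : ℤ) ∣ A x - (∑ k, s k * ind (q k) x +
          2 * εe * ∑ a ∈ clR M₀ r 1, ind (ee a) x +
          2 * εo * ∑ a ∈ clR M₀ r (-1), ind (pp a) x) := fun x hx => by
        have h := dvd_add (hG.cong x) (c.residue hm hP hOd hx)
        rwa [sub_add_sub_cancel] at h
      have hodd : ∀ k, Odd (A (q k)) := fun k => by
        refine odd_of_dvd_sub h2d (hres _ (hP.q_mem k)) ?_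
        rw [Finset.sum_eq_zero fun a ha => hP.ind_e_q k ha,
          Finset.sum_eq_zero fun a ha => Star.ind_ne (hpq a ha k)]
        simp only [hP.ind_q, mul_ite, mul_one, mul_zero, add_zero, Finset.sum_ite_eq,
          Finset.mem_univ, if_true]
        rcases hP.s_sign k with h | h <;> rw [h] <;> norm_num
      have he4 : ∀ a ∈ clR M₀ r 1, (4 : ℤ) ≤ A (ee a) * A (ee a) := fun a ha => by
        refine four_le_sq ?_
        have h := h4d.trans (hres _ (hP.e_mem a ha))
        rw [sum_ind_inj hP.inj ha, Finset.sum_eq_zero fun d hd => Star.ind_ne (hep a ha d hd),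
          Finset.sum_eq_zero fun k _ => by rw [hP.ind_q_e k ha, mul_zero]] at h
        rcases hP.εe_sign with h' | h' <;> rw [h'] at h <;> norm_num at h <;> omega
      have hp4 : ∀ d ∈ clR M₀ r (-1), (4 : ℤ) ≤ A (pp d) * A (pp d) := fun d hd => by
        refine four_le_sq ?_
        have h := h4d.trans (hres _ (hOd.p_mem d hd))
        rw [sum_ind_inj hOd.inj hd,
          Finset.sum_eq_zero fun a ha => Star.ind_ne (hep a ha d hd).symm,
          Finset.sum_eq_zero fun k _ => by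
            rw [Star.ind_ne (hpq d hd k).symm, mul_zero]] at h
        rcases hOd.εo_sign with h' | h' <;> rw [h'] at h <;> norm_num at h <;> omega
      have htot := hG.AA
      rw [← Finset.sum_sdiff hL.subset, hL.sum_rows] at htot
      have n0 : 0 ≤ ∑ x ∈ bFin B \ layRows M₀ r ee pp q, A x * A x :=
        Finset.sum_nonneg fun x _ => mul_self_nonneg _
      have n1 : 0 ≤ ∑ k, (A (q k) * A (q k) - 1) :=
        Finset.sum_nonneg fun k _ => by linarith [one_le_sq_of_odd (hodd k)]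
      have n2 : 0 ≤ ∑ a ∈ clR M₀ r 1, (A (ee a) * A (ee a) - 4) :=
        Finset.sum_nonneg fun a ha => by linarith [he4 a ha]
      have n3 : 0 ≤ ∑ d ∈ clR M₀ r (-1), (A (pp d) * A (pp d) - 4) :=
        Finset.sum_nonneg fun d hd => by linarith [hp4 d hd]
      simp only [Finset.sum_sub_distrib, Finset.sum_const, nsmul_eq_mul, Finset.card_univ,
        Fintype.card_fin] at n1 n2 n3
      have h1 : (2 : ℤ) * (clR M₀ r (-1)).card = M₀ := by exact_mod_cast hcn
      have h2 : (2 : ℤ) * (clR M₀ r 1).card + 2 = M₀ := by exact_mod_cast hcp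
      push_cast at n1
      have z0 : ∑ x ∈ bFin B \ layRows M₀ r ee pp q, A x * A x = 0 := by linarith
      have z1 : ∀ k, A (q k) * A (q k) = 1 := fun k => by
        have h : ∑ k, (A (q k) * A (q k) - 1) = 0 := by
          simp only [Finset.sum_sub_distrib, Finset.sum_const, nsmul_eq_mul, Finset.card_univ,
            Fintype.card_fin]
          push_cast
          linarith
        have := (Finset.sum_eq_zero_iff_of_nonneg fun k _ => by
          linarith [one_le_sq_of_odd (hodd k)]).1 h k (Finset.mem_univ k)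
        linarith
      have z2 : ∀ a ∈ clR M₀ r 1, A (ee a) * A (ee a) = 4 := fun a ha => by
        have h : ∑ a ∈ clR M₀ r 1, (A (ee a) * A (ee a) - 4) = 0 := by
          simp only [Finset.sum_sub_distrib, Finset.sum_const, nsmul_eq_mul]
          linarith
        have := (Finset.sum_eq_zero_iff_of_nonneg fun a ha => by linarith [he4 a ha]).1 h a ha
        linarith
      have z3 : ∀ d ∈ clR M₀ r (-1), A (pp d) * A (pp d) = 4 := fun d hd => by
        have h : ∑ d ∈ clR M₀ r (-1), (A (pp d) * A (pp d) - 4) = 0 := by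
          simp only [Finset.sum_sub_distrib, Finset.sum_const, nsmul_eq_mul]
          linarith
        have := (Finset.sum_eq_zero_iff_of_nonneg fun d hd => by linarith [hp4 d hd]).1 h d hd
        linarith
      have hA0 : ∀ x ∈ bFin B, x ∉ layRows M₀ r ee pp q → A x = 0 := fun x hx hn =>
        mul_self_eq_zero.1 ((Finset.sum_eq_zero_iff_of_nonneg fun x _ => mul_self_nonneg (A x)).1
          z0 x (Finset.mem_sdiff.2 ⟨hx, hn⟩))
      have hAq : ∀ k, A (q k) = 1 ∨ A (q k) = -1 := fun k =>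
        Int.isUnit_iff.1 (IsUnit.of_mul_eq_one _ (z1 k))
      obtain ⟨hr1, hr2⟩ := hP.perp_rel hD hA
      have hAec : A (ee c₀) = 2 ∨ A (ee c₀) = -2 := by
        have : (A (ee c₀) - 2) * (A (ee c₀) + 2) = 0 := by linarith [z2 c₀ hc₀]
        rcases mul_eq_zero.1 this with h | h
        exacts [Or.inl (by linarith), Or.inr (by linarith)]
      have ht : ∀ k, s k * A (q k) = 1 ∨ s k * A (q k) = -1 := fun k => by
        rcases hP.s_sign k with h | h <;> rcases hAq k with h' | h' <;> rw [h, h'] <;> norm_num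
      have hall : ∀ k, s k * A (q k) = s 0 * A (q 0) := by
        have := hr2 c₀ hc₀
        have h0 := ht 0; have h1 := ht 1; have h2 := ht 2; have h3 := ht 3
        intro k
        rcases hP.εe_sign with h | h <;> rcases hAec with h' | h' <;> rw [h, h'] at this <;>
          fin_cases k <;> simp only [Fin.zero_eta, Fin.mk_one, Fin.reduceFinMk] <;> omega
      have hε2 : εe * εe = 1 := by rcases hP.εe_sign with h | h <;> rw [h] <;> norm_num
      refine ⟨ee, pp, q, GShape.of_pat c hP hOd hL hA (α := s 0 * A (q 0)) ?_ hAq (fun k => ?_)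
        (fun a ha => ?_) z3 hA0⟩
      · rcases ht 0 with h | h <;> rw [h] <;> norm_num
      · linear_combination A (q k) * hall k - s k * z1 k
      · linear_combination εe * hr2 a ha + εe * hall 1 - A (ee a) * hε2
    · -- a row of the odd class among the `q k`
      exfalso
      push Not at hpq
      obtain ⟨d₀, hd₀, k₀, hk₀⟩ := hpq
      have hall : ∀ d ∈ clR M₀ r (-1), ∃ k, q k = pp d := by
        intro d hd
        by_contra h
        push Not at h
        have h' := hconst d₀ hd₀ d hd 0 (M₀ : ZMod (2 * M₀)) sgnA_zero_eq hD.sgnA_M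
        rw [hX0 _ (hOd.p_mem d hd) h, ← hk₀, hX] at h'
        have := hP.s_sign k₀
        fin_cases k₀ <;> simp at h' this <;> omega
      choose! κ hκ using hall
      have hκi : ∀ d ∈ clR M₀ r (-1), ∀ d' ∈ clR M₀ r (-1), κ d = κ d' → d = d' :=
        fun d hd d' hd' h => hOd.inj hd hd' (by rw [← hκ d hd, ← hκ d' hd', h])
      have hgrp : ∀ d ∈ clR M₀ r (-1), ∀ d' ∈ clR M₀ r (-1),
          ((κ d = 0 ∨ κ d = 1) ↔ (κ d' = 0 ∨ κ d' = 1)) ∧
          ![s 0, s 1, -s 2, -s 3] (κ d) = ![s 0, s 1, -s 2, -s 3] (κ d') := by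
        intro d hd d' hd'
        have h1 := hconst d hd d' hd' 0 c₀ sgnA_zero_eq (mem_clR.1 hc₀).2
        have h2 := hconst d hd d' hd' 0 (M₀ : ZMod (2 * M₀)) sgnA_zero_eq hD.sgnA_M
        rw [← hκ d hd, ← hκ d' hd', hZ, hZ] at h1
        rw [← hκ d hd, ← hκ d' hd', hX, hX] at h2
        refine ⟨?_, h2⟩
        have e0 := hP.s_sign 0; have e1 := hP.s_sign 1
        generalize κ d = k at h1
        generalize κ d' = k' at h1
        fin_cases k <;> fin_cases k' <;> simp at h1 ⊢ <;> omega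
      have hcard : (clR M₀ r (-1)).card ≤ 2 := by
        obtain hk | hk := Classical.em (κ d₀ = 0 ∨ κ d₀ = 1)
        · refine (Finset.card_le_card_of_injOn κ (t := {0, 1}) (fun d hd => ?_)
            fun d hd d' hd' => hκi d hd d' hd').trans Finset.card_le_two
          simpa using (hgrp d hd d₀ hd₀).1.2 hk
        · refine (Finset.card_le_card_of_injOn κ (t := {2, 3}) (fun d hd => ?_)
            fun d hd d' hd' => hκi d hd d' hd').trans Finset.card_le_two
          have hn : ¬ (κ d = 0 ∨ κ d = 1) := fun h => hk ((hgrp d hd d₀ hd₀).1.1 h)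
          generalize κ d = k at hn
          fin_cases k <;> simp at hn ⊢
      have hM4 : M₀ = 4 := by omega
      obtain ⟨x, y, hxy, hxyR⟩ := Finset.card_eq_two.1
        (show (clR M₀ r (-1)).card = 2 by omega)
      have hx : x ∈ clR M₀ r (-1) := by rw [hxyR]; simp
      have hy : y ∈ clR M₀ r (-1) := by rw [hxyR]; simp
      obtain ⟨hg, hv⟩ := hgrp x hx y hy
      have hne : κ x ≠ κ y := fun h => hxy (hκi x hx y hy h)
      have key := fun (i j i' j' : Fin 4)
        (hij : (i = 0 ∧ j = 1 ∧ i' = 2 ∧ j' = 3) ∨ (i = 2 ∧ j = 3 ∧ i' = 0 ∧ j' = 1))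
        (hs : s i = s j) (hxi : pp x = q i ∧ pp y = q j ∨ pp y = q i ∧ pp x = q j) =>
        show False by
          rcases hxi with ⟨h1, h2⟩ | ⟨h1, h2⟩
          · exact hG.coinc_false c hO hoH hM4 hP hOd hij hs hx hy hxy h1 h2
          · exact hG.coinc_false c hO hoH hM4 hP hOd hij hs hy hx hxy.symm h1 h2
      have h1 := (hκ x hx).symm
      have h2 := (hκ y hy).symm
      generalize κ x = k at hg hv hne h1
      generalize κ y = k' at hg hv hne h2
      fin_cases k <;> fin_cases k' <;> simp at hg hv hne h1 h2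
      · exact key 0 1 2 3 (Or.inl (by simp)) hv (Or.inl ⟨h1, h2⟩)
      · exact key 0 1 2 3 (Or.inl (by simp)) hv.symm (Or.inr ⟨h2, h1⟩)
      · exact key 2 3 0 1 (Or.inr (by simp)) hv (Or.inl ⟨h1, h2⟩)
      · exact key 2 3 0 1 (Or.inr (by simp)) hv.symm (Or.inr ⟨h2, h1⟩)
  · -- `M₀ = 2`
    have hM2 : M₀ = 2 := by
      have := hD.two_le
      rcases a with _ | _ | a
      · simp at hpow; omega
      · simpa using hpow
      · exfalso; rw [hpow, pow_succ, pow_succ] at h4; have := Nat.one_le_two_pow (n := a); omega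
    have hR1 : clR M₀ r 1 = ∅ := Finset.card_eq_zero.1 (by omega)
    obtain ⟨l₀, hl₀⟩ := Finset.card_eq_one.1 (show (clR M₀ r (-1)).card = 1 by omega)
    have hev : ∀ x ∈ bFin B, (2 : ℤ) ∣ A x - (s 0 * ind (q 0) x + s 1 * ind (q 1) x -
        s 2 * ind (q 2) x - s 3 * ind (q 3) x) := by
      intro x hx
      have hc := hG.cong x
      rw [hD.sum_symm c (m x) (hm.symm x), show (M₀ : ℤ) = 2 by exact_mod_cast hM2] at hc
      obtain ⟨k, hk⟩ := hc
      rw [← hP.zero_M x hx]
      refine ⟨k + (m x (M₀ : ZMod (2 * M₀)) + ∑ a ∈ pairReps M₀ r, m x a), ?_⟩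
      linarith
    have hodd : ∀ k, Odd (A (q k)) := fun k => by
      refine odd_of_dvd_sub dvd_rfl (hev _ (hP.q_mem k)) ?_
      simp only [hP.ind_q]
      have := hP.s_sign k
      fin_cases k <;> simp at this ⊢ <;> rcases this with h | h <;> rw [h] <;> norm_num
    set Q := Finset.univ.image q with hQ
    have hQB : Q ⊆ bFin B := by
      intro x hx
      obtain ⟨k, -, rfl⟩ := Finset.mem_image.1 hx
      exact hP.q_mem k
    have htot := hG.AA
    rw [← Finset.sum_sdiff hQB, hQ, Finset.sum_image hP.q_inj.injOn, ← hQ, Fin.sum_univ_four,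
      hM2] at htot
    push_cast at htot
    have hrn : 0 ≤ ∑ x ∈ bFin B \ Q, A x * A x := Finset.sum_nonneg fun x _ => mul_self_nonneg _
    have hAq : ∀ k, A (q k) = 1 ∨ A (q k) = -1 := by
      intro k
      have h1 := one_le_sq_of_odd (hodd 0); have h2 := one_le_sq_of_odd (hodd 1)
      have h3 := one_le_sq_of_odd (hodd 2); have h4' := one_le_sq_of_odd (hodd 3)
      have h5 : A (q k) * A (q k) ≤ 5 := by fin_cases k <;> simp <;> linarith
      obtain ⟨l, hl⟩ := hodd k
      have : -3 < A (q k) ∧ A (q k) < 3 := ⟨by nlinarith, by nlinarith⟩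
      omega
    have hsq : ∀ k, A (q k) * A (q k) = 1 := fun k => by
      rcases hAq k with h | h <;> rw [h] <;> norm_num
    have hrest : ∑ x ∈ bFin B \ Q, A x * A x = 4 := by
      linarith [hsq 0, hsq 1, hsq 2, hsq 3]
    obtain ⟨p, hp, hp0⟩ : ∃ p ∈ bFin B \ Q, A p ≠ 0 := by
      by_contra h
      push Not at h
      rw [Finset.sum_eq_zero fun x hx => by rw [h x hx, mul_zero]] at hrest
      norm_num at hrest
    obtain ⟨hpB, hpQ⟩ := Finset.mem_sdiff.1 hp
    have hevn : ∀ x ∈ bFin B, x ∉ Q → (2 : ℤ) ∣ A x := fun x hx hn => by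
      have h := hev x hx
      have e0 : ∀ k, ind (q k) x = 0 := fun k => Star.ind_ne fun hh =>
        hn (hh ▸ Finset.mem_image_of_mem q (Finset.mem_univ k))
      simpa [e0] using h
    have hp4 : 4 ≤ A p * A p := by
      obtain ⟨k, hk⟩ := hevn p hpB hpQ
      have : k ≠ 0 := fun h => hp0 (by rw [hk, h, mul_zero])
      have h : k ≤ -1 ∨ 1 ≤ k := by omega
      rw [hk]
      rcases h with h | h <;> nlinarith
    have hsplit := Finset.add_sum_erase (bFin B \ Q) (fun x => A x * A x) hp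
    rw [hrest] at hsplit
    have hen : 0 ≤ ∑ x ∈ (bFin B \ Q).erase p, A x * A x :=
      Finset.sum_nonneg fun x _ => mul_self_nonneg _
    have hpp : A p * A p = 4 := by linarith
    have hpz : ∀ x ∈ bFin B, x ∉ Q → x ≠ p → A x = 0 := fun x hx hn hne =>
      mul_self_eq_zero.1 ((Finset.sum_eq_zero_iff_of_nonneg fun x _ => mul_self_nonneg (A x)).1
        (show ∑ x ∈ (bFin B \ Q).erase p, A x * A x = 0 by linarith) x
        (Finset.mem_erase.2 ⟨hne, Finset.mem_sdiff.2 ⟨hx, hn⟩⟩))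
    obtain ⟨hr, -⟩ := hP.perp_rel hD hA
    set X : Fin 4 → ℤ := fun k => ![1, 1, -1, -1] k * s k * A (q k) with hXdef
    have hX1 : ∀ k, X k = 1 ∨ X k = -1 := fun k => by
      simp only [hXdef]
      rcases hP.s_sign k with h | h <;> rcases hAq k with h' | h' <;> rw [h, h'] <;>
        fin_cases k <;> simp
    have hXc : (Finset.univ.filter fun k => decide (X k = 1) = true).card = 2 := by
      rw [Finset.card_filter, Fin.sum_univ_four]
      have h0 : X 0 + X 1 + X 2 + X 3 = 0 := by simp [hXdef]; linarith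
      rcases hX1 0 with a | a <;> rcases hX1 1 with b | b <;> rcases hX1 2 with c | c <;>
        rcases hX1 3 with d | d <;> simp [a, b, c, d] at h0 ⊢
    obtain ⟨π, -, hπ0, hπ1, hπ2, hπ3⟩ := exists_sort (fun k => decide (X k = 1)) hXc
    simp only [decide_eq_true_eq, decide_eq_false_iff_not] at hπ0 hπ1 hπ2 hπ3
    obtain ⟨s', hP', hs'⟩ := hP.perm hR1 π
    have hXπ : ∀ k, X (π k) = ![1, 1, -1, -1] k := by
      intro k
      fin_cases k
      exacts [hπ0, hπ1, (hX1 _).resolve_left hπ2, (hX1 _).resolve_left hπ3]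
    have hs'' : ∀ k, s' k = 1 * A ((q ∘ π) k) := by
      intro k
      have h2 : ![1, 1, -1, -1] k * s' k * A (q (π k)) = ![1, 1, -1, -1] k := by
        rw [hs' k]; exact hXπ k
      have hc2 : (![1, 1, -1, -1] k : ℤ) * ![1, 1, -1, -1] k = 1 := by fin_cases k <;> simp
      simp only [Function.comp_apply, one_mul]
      linear_combination (![1, 1, -1, -1] k : ℤ) * A (q (π k)) * h2 - s' k * hsq (π k) -
        (s' k * A (q (π k)) * A (q (π k))) * hc2 + A (q (π k)) * hc2
    have hpQ' : ∀ k, (q ∘ π) k ≠ p := fun k h =>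
      hpQ (h ▸ Finset.mem_image_of_mem q (Finset.mem_univ (π k)))
    have hOd : OddPat (bFin B) M₀ r m 1 (fun _ => p) := by
      refine ⟨Or.inl rfl, fun x hx y hy _ => ?_, fun _ _ => hpB, fun x hx y hy z _ => ?_⟩
      · rw [hl₀] at hx hy
        simp at hx hy
        rw [hx, hy]
      · rw [hl₀, Finset.mem_singleton] at hx hy
        rw [hx, hy]
        ring
    have hL : Layout B M₀ r ee (fun _ => p) (q ∘ π) :=
      ⟨hP.inj, hOd.inj, hP'.q_inj, hP.e_mem, hOd.p_mem, hP'.q_mem, hP'.disj, fun _ _ => hpQ',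
        by simp [hR1]⟩
    refine ⟨ee, fun _ => p, q ∘ π, GShape.of_pat c hP' hOd hL hA (α := 1) (one_mul 1)
      (fun k => hAq (π k)) hs'' (by simp [hR1]) (fun _ _ => hpp) fun x hx hn => ?_⟩
    refine hpz x hx (fun h => ?_) fun h => hn (h ▸ p_mem_layRows (a := l₀) (by rw [hl₀]; simp))
    obtain ⟨k, -, rfl⟩ := Finset.mem_image.1 h
    have := q_mem_layRows (M₀ := M₀) (r := r) (ee := ee) (pp := fun _ => p) (q := q ∘ π) (π.symm k)
    simp only [Function.comp_apply, Equiv.apply_symm_apply] at this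
    exact hn this

end GData

end Cfsg.Agent.TameBlock
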