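import Mathlib.Data.ZMod.Basic
import Mathlib.GroupTheory.OrderOfElement
import Mathlib.Algebra.Group.Subgroup.ZPowers.Lemmas
import Mathlib.GroupTheory.Coset.Card
import Mathlib.Tactic

/-!
# Quaternion and semidihedral `2`-subgroups

`TData P σ τ M₀ r`: `P = ⟨σ, τ⟩` of order `4 M₀`, `σ` of order `2 M₀`, `τ σ τ⁻¹ = σ ^ r`, either
generalized quaternion or semidihedral. `rot σ i = σ ^ i` for `i : ZMod (2 M₀)`.
-/

set_option autoImplicit false
set_option linter.unusedSectionVars false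
set_option linter.style.haveILetI false

namespace Cfsg.Agent.TameBlock

universe u

variable {G : Type u} [Group G]

/-- `P` is quaternion or semidihedral, `σ` generating the cyclic subgroup of index two. -/
structure TData (P : Subgroup G) (σ τ : G) (M₀ r : ℕ) : Prop where
  two_le : 2 ≤ M₀
  two_pow : ∃ a, M₀ = 2 ^ a
  σ_mem : σ ∈ P
  τ_mem : τ ∈ P
  order : orderOf σ = 2 * M₀
  τ_conj : τ * σ * τ⁻¹ = σ ^ r
  τ_not : τ ∉ Subgroup.zpowers σ
  card : Nat.card P = 4 * M₀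
  kind : (r = 2 * M₀ - 1 ∧ τ * τ = σ ^ M₀) ∨ (r = M₀ - 1 ∧ τ * τ = 1 ∧ 4 ≤ M₀)

/-- The rotation with exponent `i`. -/
def rot (σ : G) {N : ℕ} (i : ZMod N) : G := σ ^ i.val

namespace TData

variable {P : Subgroup G} {σ τ : G} {M₀ r : ℕ} (hD : TData P σ τ M₀ r)
include hD

theorem neZero : NeZero (2 * M₀) := ⟨by have := hD.two_le; omega⟩

theorem rot_natCast (j : ℕ) : rot σ (j : ZMod (2 * M₀)) = σ ^ j := by
  rw [rot, ZMod.val_natCast, ← hD.order, pow_mod_orderOf]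

theorem rot_zero : rot σ (0 : ZMod (2 * M₀)) = 1 := by simp [rot]

theorem rot_one : rot σ (1 : ZMod (2 * M₀)) = σ := by
  simpa using hD.rot_natCast 1

theorem rot_add (i j : ZMod (2 * M₀)) : rot σ (i + j) = rot σ i * rot σ j := by
  haveI := hD.neZero
  rw [show i + j = ((i.val + j.val : ℕ) : ZMod (2 * M₀)) by
    rw [Nat.cast_add, ZMod.natCast_zmod_val, ZMod.natCast_zmod_val], hD.rot_natCast, pow_add]
  rfl

theorem rot_pow (i : ZMod (2 * M₀)) (n : ℕ) : rot σ i ^ n = rot σ ((n : ZMod (2 * M₀)) * i) := by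
  haveI := hD.neZero
  rw [show (n : ZMod (2 * M₀)) * i = ((n * i.val : ℕ) : ZMod (2 * M₀)) by
    rw [Nat.cast_mul, ZMod.natCast_zmod_val], hD.rot_natCast, mul_comm n, pow_mul]
  rfl

theorem rot_neg (i : ZMod (2 * M₀)) : rot σ (-i) = (rot σ i)⁻¹ :=
  eq_inv_of_mul_eq_one_left (by rw [← hD.rot_add, neg_add_cancel, hD.rot_zero])

theorem rot_comm (i j : ZMod (2 * M₀)) : rot σ i * rot σ j = rot σ j * rot σ i := by
  rw [← hD.rot_add, ← hD.rot_add, add_comm]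

theorem rot_inj {i j : ZMod (2 * M₀)} (h : rot σ i = rot σ j) : i = j := by
  haveI := hD.neZero
  refine ZMod.val_injective _ (pow_injOn_Iio_orderOf ?_ ?_ h) <;>
  · rw [Set.mem_Iio, hD.order]
    exact ZMod.val_lt _

theorem rot_eq_one {i : ZMod (2 * M₀)} (h : rot σ i = 1) : i = 0 :=
  hD.rot_inj (h.trans hD.rot_zero.symm)

theorem mem_zpowers_iff {v : G} :
    v ∈ Subgroup.zpowers σ ↔ ∃ i : ZMod (2 * M₀), rot σ i = v := by
  constructor
  · intro hv
    obtain ⟨k, rfl⟩ : v ∈ Submonoid.powers σ := by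
      have : IsOfFinOrder σ := orderOf_pos_iff.1 (by rw [hD.order]; have := hD.two_le; omega)
      exact (IsOfFinOrder.mem_powers_iff_mem_zpowers this).2 hv
    exact ⟨(k : ZMod (2 * M₀)), hD.rot_natCast k⟩
  · rintro ⟨i, rfl⟩
    exact pow_mem (Subgroup.mem_zpowers σ) _

theorem rot_mem_zpowers (i : ZMod (2 * M₀)) : rot σ i ∈ Subgroup.zpowers σ :=
  pow_mem (Subgroup.mem_zpowers σ) _

theorem rot_mem (i : ZMod (2 * M₀)) : rot σ i ∈ P := pow_mem hD.σ_mem _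

theorem M_double : (M₀ : ZMod (2 * M₀)) + M₀ = 0 := by
  rw [← Nat.cast_add, ← two_mul, ZMod.natCast_self]

theorem neg_M : -(M₀ : ZMod (2 * M₀)) = M₀ := neg_eq_of_add_eq_zero_left hD.M_double

theorem M_ne_zero : (M₀ : ZMod (2 * M₀)) ≠ 0 := fun h => by
  have := congrArg ZMod.val h
  rw [ZMod.val_natCast, ZMod.val_zero, Nat.mod_eq_of_lt (by have := hD.two_le; omega)] at this
  have := hD.two_le
  omega

theorem even_M₀ : 2 ∣ M₀ := by
  obtain ⟨a, rfl⟩ := hD.two_pow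
  exact dvd_pow_self 2 fun h => by
    have := hD.two_le
    subst h
    omega

theorem r_odd : ∃ u, r = 4 * u + 3 := by
  obtain ⟨a, rfl⟩ := hD.two_pow
  have h2 := hD.two_le
  rcases hD.kind with ⟨hr, -⟩ | ⟨hr, -, h4⟩
  · rcases a with _ | a
    · omega
    exact ⟨2 ^ a - 1, by rw [hr, pow_succ]; have := Nat.two_pow_pos a; omega⟩
  · rcases a with _ | _ | a
    · omega
    · omega
    exact ⟨2 ^ a - 1, by rw [hr, pow_succ, pow_succ]; have := Nat.two_pow_pos a; omega⟩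

theorem r_mul_M : (r : ZMod (2 * M₀)) * M₀ = M₀ := by
  obtain ⟨u, hu⟩ := hD.r_odd
  rw [hu]
  push_cast
  linear_combination ((2 : ZMod (2 * M₀)) * u + 1) * hD.M_double

theorem r_add_one : (r : ZMod (2 * M₀)) + 1 = 0 ∧ τ * τ = σ ^ M₀ ∨
    (r : ZMod (2 * M₀)) + 1 = M₀ ∧ τ * τ = 1 ∧ 4 ≤ M₀ := by
  have h2 := hD.two_le
  rcases hD.kind with ⟨hr, h⟩ | ⟨hr, h, h4⟩
  · refine Or.inl ⟨?_, h⟩
    rw [← Nat.cast_one, ← Nat.cast_add, show r + 1 = 2 * M₀ by omega, ZMod.natCast_self]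
  · refine Or.inr ⟨?_, h, h4⟩
    rw [← Nat.cast_one, ← Nat.cast_add, show r + 1 = M₀ by omega]

theorem r_sq : (r : ZMod (2 * M₀)) * r = 1 := by
  rcases hD.r_add_one with ⟨h, -⟩ | ⟨h, -, h4⟩
  · linear_combination ((r : ZMod (2 * M₀)) - 1) * h
  · obtain ⟨c, hc⟩ := hD.even_M₀
    have hMM : (M₀ : ZMod (2 * M₀)) * M₀ = 0 := by
      rw [← Nat.cast_mul, ZMod.natCast_eq_zero_iff]
      exact ⟨c, by rw [hc]; ring⟩
    linear_combination ((r : ZMod (2 * M₀)) - 1 + M₀) * h + hMM - hD.M_double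

theorem τ_conj_rot (i : ZMod (2 * M₀)) : τ * rot σ i * τ⁻¹ = rot σ ((r : ZMod (2 * M₀)) * i) := by
  rw [rot, ← MulAut.conj_apply, map_pow, MulAut.conj_apply, hD.τ_conj, ← hD.rot_natCast r, hD.rot_pow]
  haveI := hD.neZero
  rw [ZMod.natCast_zmod_val, mul_comm i]

theorem τ_inv_conj_rot (i : ZMod (2 * M₀)) :
    τ⁻¹ * rot σ i * τ = rot σ ((r : ZMod (2 * M₀)) * i) := by
  conv_lhs => rw [show i = (r : ZMod (2 * M₀)) * ((r : ZMod (2 * M₀)) * i) by
    rw [← mul_assoc, hD.r_sq, one_mul]]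
  rw [← hD.τ_conj_rot]
  group

theorem rot_mul_τ (i : ZMod (2 * M₀)) : rot σ i * τ = τ * rot σ ((r : ZMod (2 * M₀)) * i) := by
  rw [← hD.τ_inv_conj_rot]
  group

theorem τ_mul_rot_not (i : ZMod (2 * M₀)) : τ * rot σ i ∉ Subgroup.zpowers σ := fun h =>
  hD.τ_not (by simpa using mul_mem h (inv_mem (hD.rot_mem_zpowers i)))

theorem cover {v : G} (hv : v ∈ P) :
    (∃ i : ZMod (2 * M₀), rot σ i = v) ∨ ∃ i : ZMod (2 * M₀), τ * rot σ i = v := by
  haveI := hD.neZero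
  haveI : Finite P := Nat.finite_of_card_ne_zero (by rw [hD.card]; have := hD.two_le; omega)
  let F : ZMod (2 * M₀) ⊕ ZMod (2 * M₀) → P :=
    Sum.elim (fun i => ⟨rot σ i, hD.rot_mem i⟩)
      (fun i => ⟨τ * rot σ i, mul_mem hD.τ_mem (hD.rot_mem i)⟩)
  have hF : Function.Bijective F := by
    rw [Nat.bijective_iff_injective_and_card]
    refine ⟨fun a b h => ?_, by rw [Nat.card_sum, Nat.card_zmod, hD.card]; ring⟩
    have h' := congrArg Subtype.val h
    rcases a with i | i <;> rcases b with j | j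
    · exact congrArg Sum.inl (hD.rot_inj h')
    · exact absurd ((show rot σ i = τ * rot σ j from h') ▸ hD.rot_mem_zpowers i)
        (hD.τ_mul_rot_not j)
    · exact absurd ((show τ * rot σ i = rot σ j from h') ▸ hD.rot_mem_zpowers j)
        (hD.τ_mul_rot_not i)
    · exact congrArg Sum.inr (hD.rot_inj (mul_left_cancel h'))
  obtain ⟨a, ha⟩ := hF.2 ⟨v, hv⟩
  rcases a with i | i
  · exact Or.inl ⟨i, congrArg Subtype.val ha⟩
  · exact Or.inr ⟨i, congrArg Subtype.val ha⟩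

theorem z_eq : rot σ (M₀ : ZMod (2 * M₀)) = σ ^ M₀ := hD.rot_natCast M₀

theorem z_mem : σ ^ M₀ ∈ P := pow_mem hD.σ_mem _

theorem z_ne : σ ^ M₀ ≠ 1 := fun h => hD.M_ne_zero (hD.rot_eq_one (hD.z_eq.trans h))

theorem z_sq : σ ^ M₀ * σ ^ M₀ = 1 := by
  rw [← hD.z_eq, ← hD.rot_add, hD.M_double, hD.rot_zero]

theorem orderOf_z : orderOf (σ ^ M₀) = 2 := by
  refine orderOf_eq_prime ?_ hD.z_ne
  rw [pow_two, hD.z_sq]

theorem τ_comm_z : τ * σ ^ M₀ = σ ^ M₀ * τ := by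
  rw [← hD.z_eq, hD.rot_mul_τ, hD.r_mul_M]

theorem z_comm {v : G} (hv : v ∈ P) : σ ^ M₀ * v = v * σ ^ M₀ := by
  rcases hD.cover hv with ⟨i, rfl⟩ | ⟨i, rfl⟩
  · rw [← hD.z_eq, hD.rot_comm]
  · rw [← mul_assoc, ← hD.τ_comm_z, mul_assoc, ← hD.z_eq, hD.rot_comm, mul_assoc]

theorem τ_rot_sq (i : ZMod (2 * M₀)) :
    τ * rot σ i * (τ * rot σ i) = σ ^ M₀ ∨
      (τ * rot σ i * (τ * rot σ i) = 1 ∧ τ * τ = 1 ∧ 4 ≤ M₀) := by
  have h0 : τ * rot σ i * (τ * rot σ i) =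
      τ * τ * rot σ (((r : ZMod (2 * M₀)) + 1) * i) := by
    rw [add_mul, one_mul, hD.rot_add, ← mul_assoc, mul_assoc τ (rot σ i) τ, hD.rot_mul_τ]
    group
  rw [h0]
  rcases hD.r_add_one with ⟨h, hτ⟩ | ⟨h, hτ, h4⟩
  · left
    rw [h, zero_mul, hD.rot_zero, hτ, mul_one]
  · haveI := hD.neZero
    rw [h, hτ, one_mul, ← i.natCast_zmod_val]
    rcases Nat.even_or_odd i.val with ⟨c, hc⟩ | ⟨c, hc⟩ <;> rw [hc] <;> push_cast
    · right
      refine ⟨?_, rfl, h4⟩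
      rw [show (M₀ : ZMod (2 * M₀)) * (c + c) = (M₀ + M₀) * c by ring, hD.M_double, zero_mul,
        hD.rot_zero]
    · left
      rw [show (M₀ : ZMod (2 * M₀)) * (2 * c + 1) = (M₀ + M₀) * c + M₀ by ring, hD.M_double,
        zero_mul, zero_add, hD.z_eq]

theorem τ_rot_pow_four (i : ZMod (2 * M₀)) : (τ * rot σ i) ^ 4 = 1 := by
  rw [show (4 : ℕ) = 2 * 2 from rfl, pow_mul, pow_two (τ * rot σ i)]
  rcases hD.τ_rot_sq i with h | ⟨h, -⟩ <;> rw [h]
  · rw [pow_two, hD.z_sq]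
  · rw [one_pow]

theorem quaternion_τ_rot_sq (hQ : τ * τ = σ ^ M₀) (i : ZMod (2 * M₀)) :
    τ * rot σ i * (τ * rot σ i) = σ ^ M₀ := by
  rcases hD.τ_rot_sq i with h | ⟨-, h, -⟩
  · exact h
  · exact absurd (hQ.symm.trans h) hD.z_ne

/-- A generic rotation exponent: not `0`, not `M₀`. -/
theorem gen_of_two_mul {i : ZMod (2 * M₀)} (h : i + i = 0) : i = 0 ∨ i = M₀ := by
  haveI := hD.neZero
  obtain ⟨j, hj, rfl⟩ : ∃ j < 2 * M₀, (j : ZMod (2 * M₀)) = i :=
    ⟨i.val, ZMod.val_lt i, ZMod.natCast_zmod_val i⟩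
  rw [← Nat.cast_add, ZMod.natCast_eq_zero_iff] at h
  obtain ⟨c, hc⟩ := h
  rcases c with _ | _ | c
  · left; rw [show j = 0 by omega, Nat.cast_zero]
  · right; rw [show j = M₀ by omega]
  · exfalso; nlinarith

theorem r_sub_one_mul {i : ZMod (2 * M₀)} :
    (r : ZMod (2 * M₀)) * i = i ↔ i = 0 ∨ i = M₀ := by
  constructor
  · intro h
    obtain ⟨u, hu⟩ := hD.r_odd
    have hunit : IsUnit ((2 * u + 1 : ℕ) : ZMod (2 * M₀)) := by
      rw [ZMod.isUnit_iff_coprime]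
      obtain ⟨a, ha⟩ := hD.two_pow
      rw [ha, ← pow_succ']
      exact (Nat.Coprime.pow_right _ (Nat.coprime_two_right.2 ⟨u, rfl⟩))
    refine hD.gen_of_two_mul (hunit.mul_left_cancel ?_)
    rw [hu] at h
    push_cast at h ⊢
    linear_combination h
  · rintro (rfl | rfl)
    · exact mul_zero _
    · exact hD.r_mul_M

/-- An element commuting with a generic rotation is a rotation. -/
theorem comm_rot {i : ZMod (2 * M₀)} (h0 : i ≠ 0) (hM : i ≠ M₀) {v : G} (hv : v ∈ P)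
    (h : v * rot σ i = rot σ i * v) : v ∈ Subgroup.zpowers σ := by
  rcases hD.cover hv with ⟨j, rfl⟩ | ⟨j, rfl⟩
  · exact hD.rot_mem_zpowers j
  · exfalso
    have h1 : τ * rot σ i = rot σ i * τ := by
      rw [mul_assoc, hD.rot_comm j i, ← mul_assoc, ← mul_assoc] at h
      exact mul_right_cancel h
    rw [hD.rot_mul_τ] at h1
    rcases hD.r_sub_one_mul.1 (hD.rot_inj (mul_left_cancel h1)).symm with h' | h'
    exacts [h0 h', hM h']

theorem inf_centralizer_rot {i : ZMod (2 * M₀)} (h0 : i ≠ 0) (hM : i ≠ M₀) :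
    P ⊓ Subgroup.centralizer ({rot σ i} : Set G) = Subgroup.zpowers σ := by
  refine le_antisymm (fun v hv => hD.comm_rot h0 hM hv.1 (Subgroup.mem_centralizer_singleton_iff.1 hv.2))
    (Subgroup.zpowers_le.2 ⟨hD.σ_mem, Subgroup.mem_centralizer_singleton_iff.2 ?_⟩)
  exact (Commute.self_pow σ _).eq

theorem mem_centralizer_outer {i j : ZMod (2 * M₀)} :
    rot σ j ∈ Subgroup.centralizer ({τ * rot σ i} : Set G) ↔ j = 0 ∨ j = M₀ := by
  rw [Subgroup.mem_centralizer_singleton_iff, ← mul_assoc, hD.rot_mul_τ, mul_assoc, mul_assoc,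
    mul_right_inj, ← hD.rot_add, ← hD.rot_add, ← hD.r_sub_one_mul]
  exact ⟨fun h => by linear_combination hD.rot_inj h, fun h => by rw [h, add_comm]⟩

theorem card_inf_centralizer_outer (i : ZMod (2 * M₀)) :
    Nat.card (P ⊓ Subgroup.centralizer ({τ * rot σ i} : Set G) : Subgroup G) = 4 := by
  classical
  haveI := hD.neZero
  set y := τ * rot σ i
  have hyP : y ∈ P := mul_mem hD.τ_mem (hD.rot_mem i)
  have hyC : y ∈ Subgroup.centralizer ({y} : Set G) := Subgroup.mem_centralizer_singleton_iff.2 rfl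
  let S : Finset G := {1, σ ^ M₀, y, y * σ ^ M₀}
  have hS : ∀ v, v ∈ P ⊓ Subgroup.centralizer ({y} : Set G) ↔ v ∈ S := by
    have hzC : σ ^ M₀ ∈ P ⊓ Subgroup.centralizer ({y} : Set G) :=
      ⟨hD.z_mem, Subgroup.mem_centralizer_singleton_iff.2 (hD.z_comm hyP)⟩
    intro v
    simp only [S, Finset.mem_insert, Finset.mem_singleton]
    constructor
    · rintro ⟨hv, hvc⟩
      rcases hD.cover hv with ⟨j, rfl⟩ | ⟨j, rfl⟩
      · rcases hD.mem_centralizer_outer.1 hvc with rfl | rfl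
        · exact Or.inl hD.rot_zero
        · exact Or.inr (Or.inl hD.z_eq)
      · have h1 : rot σ (j - i) ∈ Subgroup.centralizer ({y} : Set G) := by
          have e : rot σ (j - i) = y⁻¹ * (τ * rot σ j) := by
            rw [sub_eq_neg_add, hD.rot_add, hD.rot_neg]
            simp only [y]
            group
          exact e ▸ mul_mem (inv_mem hyC) hvc
        rcases hD.mem_centralizer_outer.1 h1 with h | h
        · exact Or.inr (Or.inr (Or.inl (by rw [sub_eq_zero.1 h])))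
        · refine Or.inr (Or.inr (Or.inr ?_))
          rw [show j = i + M₀ by linear_combination h, hD.rot_add, ← mul_assoc, hD.z_eq]
    · rintro (rfl | rfl | rfl | rfl)
      exacts [one_mem _, hzC, ⟨hyP, hyC⟩, mul_mem ⟨hyP, hyC⟩ hzC]
  have hnot := hD.τ_mul_rot_not i
  have hz := pow_mem (Subgroup.mem_zpowers σ) M₀
  have hcard : S.card = 4 := by
    rw [Finset.card_eq_four]
    refine ⟨1, σ ^ M₀, y, y * σ ^ M₀, hD.z_ne.symm,
      fun h => hnot ((show τ * rot σ i = 1 from h.symm) ▸ one_mem _), fun h => ?_,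
      fun h => hnot ((show τ * rot σ i = σ ^ M₀ from h.symm) ▸ hz), fun h => ?_,
      fun h => hD.z_ne (by simpa using h.symm), rfl⟩
    · exact hnot (by
        rw [show τ * rot σ i = (σ ^ M₀)⁻¹ from eq_inv_of_mul_eq_one_left h.symm]; exact inv_mem hz)
    · exact hnot (by rw [show τ * rot σ i = 1 by simpa [y] using h.symm]; exact one_mem _)
  rw [← hcard, ← Nat.card_eq_finsetCard]
  exact Nat.card_congr (Equiv.subtypeEquivRight hS)

/-- An element outside the rotations is conjugate in `P` to `τ` or `τ σ`. -/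
theorem exists_conj_outer (i : ZMod (2 * M₀)) : ∃ c ∈ P,
    c * (τ * rot σ i) * c⁻¹ = τ ∨ c * (τ * rot σ i) * c⁻¹ = τ * σ := by
  haveI := hD.neZero
  obtain ⟨u, hu⟩ := hD.r_odd
  have hunit : IsUnit ((2 * u + 1 : ℕ) : ZMod (2 * M₀)) := by
    rw [ZMod.isUnit_iff_coprime]
    obtain ⟨a, ha⟩ := hD.two_pow
    rw [ha, ← pow_succ']
    exact (Nat.Coprime.pow_right _ (Nat.coprime_two_right.2 ⟨u, rfl⟩))
  have key : ∀ j : ZMod (2 * M₀), rot σ j * (τ * rot σ i) * (rot σ j)⁻¹ =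
      τ * rot σ (i + ((r : ZMod (2 * M₀)) - 1) * j) := fun j => by
    rw [← mul_assoc, hD.rot_mul_τ, ← hD.rot_neg, mul_assoc, mul_assoc, ← hD.rot_add, ← hD.rot_add]
    congr 2
    ring
  obtain ⟨w, hw⟩ := hunit
  have hshift : ∀ c : ZMod (2 * M₀), ∃ j, ((r : ZMod (2 * M₀)) - 1) * j = c + c := fun c => by
    refine ⟨(↑w⁻¹ : ZMod (2 * M₀)) * c, ?_⟩
    rw [hu, show ((4 * u + 3 : ℕ) : ZMod (2 * M₀)) - 1 = 2 * w by rw [hw]; push_cast; ring,
      ← mul_assoc, mul_assoc 2, Units.mul_inv, mul_one]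
    ring
  rcases Nat.even_or_odd i.val with ⟨c, hc⟩ | ⟨c, hc⟩
  all_goals obtain ⟨j, hj⟩ := hshift (-(c : ZMod (2 * M₀)))
  · refine ⟨rot σ j, hD.rot_mem j, Or.inl ?_⟩
    rw [key, hj, show i + (-(c : ZMod (2 * M₀)) + -c) = 0 by
      rw [← i.natCast_zmod_val, hc]; push_cast; ring, hD.rot_zero, mul_one]
  · refine ⟨rot σ j, hD.rot_mem j, Or.inr ?_⟩
    rw [key, hj, show i + (-(c : ZMod (2 * M₀)) + -c) = 1 by
      rw [← i.natCast_zmod_val, hc]; push_cast; ring, hD.rot_one]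

theorem half_add : ((M₀ / 2 : ℕ) : ZMod (2 * M₀)) + (M₀ / 2 : ℕ) = M₀ := by
  rw [← Nat.cast_add, ← two_mul, Nat.mul_div_cancel' hD.even_M₀]

theorem half_ne : ((M₀ / 2 : ℕ) : ZMod (2 * M₀)) ≠ 0 ∧ ((M₀ / 2 : ℕ) : ZMod (2 * M₀)) ≠ M₀ := by
  constructor <;> intro h <;> have h' := hD.half_add <;> rw [h] at h'
  · exact hD.M_ne_zero (by rw [← h', add_zero])
  · exact hD.M_ne_zero (by rw [← h', hD.M_double])

theorem r_mul_half : (r : ZMod (2 * M₀)) * (M₀ / 2 : ℕ) = -((M₀ / 2 : ℕ) : ZMod (2 * M₀)) := by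
  obtain ⟨u, hu⟩ := hD.r_odd
  rw [hu]
  push_cast
  linear_combination ((2 : ZMod (2 * M₀)) * u + 2) * hD.half_add + ((u : ZMod (2 * M₀)) + 1) * hD.M_double

/-- The solutions of `i + i = M₀`. -/
theorem eq_half {i : ZMod (2 * M₀)} (h : i + i = M₀) :
    i = (M₀ / 2 : ℕ) ∨ i = -((M₀ / 2 : ℕ) : ZMod (2 * M₀)) := by
  rcases hD.gen_of_two_mul (i := i - (M₀ / 2 : ℕ))
    (by linear_combination h - hD.half_add) with h' | h'
  · exact Or.inl (sub_eq_zero.1 h')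
  · right
    linear_combination h' + hD.half_add + hD.M_double

/-- Every generic exponent has a multiple equal to `M₀ / 2`. -/
theorem exists_mul_eq_half {i : ZMod (2 * M₀)} (h0 : i ≠ 0) (hM : i ≠ M₀) :
    ∃ c : ZMod (2 * M₀), c * i = (M₀ / 2 : ℕ) := by
  obtain ⟨a, ha⟩ := hD.two_pow
  have hN : (2 : ZMod (2 * M₀)) ^ (a + 1) = 0 := by
    have h : (((2 : ℕ) ^ (a + 1) : ℕ) : ZMod (2 * M₀)) = 0 := by
      rw [pow_succ', ← ha, ZMod.natCast_self]
    simpa using h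
  suffices h : ∀ n (i : ZMod (2 * M₀)), 2 ^ n * i = 0 → i ≠ 0 → i ≠ M₀ →
      ∃ c : ZMod (2 * M₀), c * i = (M₀ / 2 : ℕ) from h (a + 1) i (by rw [hN, zero_mul]) h0 hM
  intro n
  induction n with
  | zero =>
    intro i hi h0 _
    exact absurd (by simpa using hi) h0
  | succ n ih =>
    intro i hi h0 hM
    by_cases h1 : i + i = 0
    · rcases hD.gen_of_two_mul h1 with h | h
      exacts [absurd h h0, absurd h hM]
    by_cases h2 : i + i = M₀
    · rcases hD.eq_half h2 with h | h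
      · exact ⟨1, by rw [one_mul, h]⟩
      · exact ⟨-1, by rw [h]; ring⟩
    obtain ⟨c, hc⟩ := ih (i + i) (by rw [← hi, pow_succ]; ring) h1 h2
    exact ⟨c + c, by rw [← hc]; ring⟩

/-- A centralizer of a generic rotation lies in that of `w = σ ^ (M₀ / 2)`, hence of `z`. -/
theorem centralizer_le {i : ZMod (2 * M₀)} (h0 : i ≠ 0) (hM : i ≠ M₀) :
    Subgroup.centralizer ({rot σ i} : Set G) ≤
      Subgroup.centralizer ({rot σ ((M₀ / 2 : ℕ) : ZMod (2 * M₀))} : Set G) := by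
  obtain ⟨c, hc⟩ := hD.exists_mul_eq_half h0 hM
  haveI := hD.neZero
  intro v hv
  rw [Subgroup.mem_centralizer_singleton_iff] at hv ⊢
  rw [← hc, ← c.natCast_zmod_val, ← hD.rot_pow]
  exact (Commute.pow_right hv _).eq

theorem centralizer_half_le :
    Subgroup.centralizer ({rot σ ((M₀ / 2 : ℕ) : ZMod (2 * M₀))} : Set G) ≤
      Subgroup.centralizer ({σ ^ M₀} : Set G) := fun v hv => by
  rw [Subgroup.mem_centralizer_singleton_iff] at hv ⊢
  rw [← hD.z_eq, ← hD.half_add, hD.rot_add]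
  exact (Commute.mul_right hv hv).eq

theorem centralizer_le_z {i : ZMod (2 * M₀)} (h0 : i ≠ 0) (hM : i ≠ M₀) :
    Subgroup.centralizer ({rot σ i} : Set G) ≤ Subgroup.centralizer ({σ ^ M₀} : Set G) :=
  (hD.centralizer_le h0 hM).trans hD.centralizer_half_le

/-- A generic rotation has order at least four; if exactly four it is `w` or `w⁻¹`. -/
theorem pow_four_eq_one {i : ZMod (2 * M₀)} (h : rot σ i ^ 4 = 1) (h0 : i ≠ 0) (hM : i ≠ M₀) :
    i = (M₀ / 2 : ℕ) ∨ i = -((M₀ / 2 : ℕ) : ZMod (2 * M₀)) := by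
  rw [hD.rot_pow] at h
  have h4 := hD.rot_eq_one h
  push_cast at h4
  rcases hD.gen_of_two_mul (i := i + i) (by linear_combination h4) with h' | h'
  · rcases hD.gen_of_two_mul h' with h | h
    exacts [absurd h h0, absurd h hM]
  · exact hD.eq_half h'

end TData

end Cfsg.Agent.TameBlock
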