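import Cfsg.Agent.Lib.TameBlock.HPosData

/-!
# The subsection at a central involution

`HData`: the contributions at `z` are `(w A A' + M₀ (U₀ U₀' + U₁ U₁')) / (4 M₀ w)` for integral
vectors `A`, `U₀`, `U₁`, with `A` congruent to the row sums of the shifted multiplicities.
-/

set_option autoImplicit false
set_option linter.unusedSectionVars false
set_option linter.style.haveILetI false

namespace Cfsg.Agent.TameBlock

open Cfsg Blocks MonoidAlgebra
open Cfsg.Agent.BrauerPairs (blk blkG conjEl IsMax IsPair regDot regDot_comm exists_int_regDot)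
open Cfsg.Agent.Blocks.NilRank
open Star (ind)
open ZMod (stdAddChar)
open scoped Classical ComplexConjugate

universe u

variable {G : Type u} [Group G] [Fintype G] {M : Ideal AlgInt} [M.IsMaximal] [Fact (Nat.Prime 2)]
  [CharP (AlgInt ⧸ M) 2]

/-- The contributions at a central involution `z = σ ^ M₀`. -/
structure HData (B : Set (IrrCharacter G)) (P : Subgroup G) (e : MonoidAlgebra (AlgInt ⧸ M) G)
    (σ : G) (M₀ r : ℕ) [NeZero (2 * M₀)] (O : Finset G) (δ : ZMod (2 * M₀))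
    (mt : IrrCharacter G → ZMod (2 * M₀) → ℤ) (W V₀ V₁ A U₀ U₁ : IrrCharacter G → ℤ) (w g₀ g₁ : ℤ) :
    Prop where
  rot : RotSect P e σ M₀ r δ mt
  supp : ∀ x, W x ≠ 0 ∨ V₀ x ≠ 0 ∨ V₁ x ≠ 0 → x ∈ B
  defA : ∀ η ∈ B, (A η : ℂ) = 2 * ∑ x ∈ bFin B, (W x : ℂ) * mU 2 P e (σ ^ M₀) η x
  defU₀ : ∀ η ∈ B, (U₀ η : ℂ) = 2 * ∑ x ∈ bFin B, (V₀ x : ℂ) * mU 2 P e (σ ^ M₀) η x
  defU₁ : ∀ η ∈ B, (U₁ η : ℂ) = 2 * ∑ x ∈ bFin B, (V₁ x : ℂ) * mU 2 P e (σ ^ M₀) η x
  formula : ∀ η ∈ B, ∀ η' ∈ B, ((4 * M₀ : ℕ) : ℂ) * w * mU 2 P e (σ ^ M₀) η η' =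
    ((w * A η * A η' + M₀ * (U₀ η * U₀ η' + U₁ η * U₁ η') : ℤ) : ℂ)
  gWW : 4 * ∑ x ∈ bFin B, ∑ y ∈ bFin B, (W x : ℂ) * W y * mU 2 P e (σ ^ M₀) x y = ((4 * M₀ : ℕ) : ℂ)
  gW₀ : 4 * ∑ x ∈ bFin B, ∑ y ∈ bFin B, (W x : ℂ) * V₀ y * mU 2 P e (σ ^ M₀) x y = 0
  gW₁ : 4 * ∑ x ∈ bFin B, ∑ y ∈ bFin B, (W x : ℂ) * V₁ y * mU 2 P e (σ ^ M₀) x y = 0
  g01 : 4 * ∑ x ∈ bFin B, ∑ y ∈ bFin B, (V₀ x : ℂ) * V₁ y * mU 2 P e (σ ^ M₀) x y = 0
  g00 : 4 * ∑ x ∈ bFin B, ∑ y ∈ bFin B, (V₀ x : ℂ) * V₀ y * mU 2 P e (σ ^ M₀) x y = (g₀ : ℂ)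
  g11 : 4 * ∑ x ∈ bFin B, ∑ y ∈ bFin B, (V₁ x : ℂ) * V₁ y * mU 2 P e (σ ^ M₀) x y = (g₁ : ℂ)
  cong : ∀ η ∈ B, (M₀ : ℤ) ∣ A η - ∑ a, mt η a
  parity : O.card ≤ 1 → ∀ η ∈ B, Even (A η + U₀ η + U₁ η)
  cases : (O.card = 0 ∧ w = 1 ∧ g₀ = 4 ∧ g₁ = 4) ∨
    (O.card = 1 ∧ w = 2 ∧ 4 ≤ M₀ ∧ g₀ = 8 ∧ g₁ = 0) ∨ (O.card = 2 ∧ w = 1 ∧ g₀ = 0 ∧ g₁ = 0)

variable {B : Set (IrrCharacter G)} {P : Subgroup G} {e : MonoidAlgebra (AlgInt ⧸ M) G} {σ τ : G}
  {M₀ r : ℕ} [NeZero (2 * M₀)] {m : IrrCharacter G → ZMod (2 * M₀) → ℤ} {sg : IrrCharacter G → ℤ}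

namespace Ctx

variable (c : Ctx M B P e σ τ M₀ r) (hR : RotParam B P e σ M₀ r m sg)
include c hR

theorem mU_z_eq {η η' : IrrCharacter G} (hη : η ∈ B) :
    mU 2 P e (σ ^ M₀) η η' = (sg η : ℂ) * sg η' * regDot 2 η.1 η'.1 := by
  rw [hR.z_sect η hη η', mU_one c.pM c.block c.isMax hη η']

theorem mU_z_pos {x y : IrrCharacter G} (hx : x ∈ posRows B sg) (hy : y ∈ posRows B sg) :
    mU 2 P e (σ ^ M₀) x y = regDot 2 x.1 y.1 := by
  rw [c.mU_z_eq hR (mem_posRows.1 hx).1, (mem_posRows.1 hx).2, (mem_posRows.1 hy).2]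
  simp

theorem mU_z_symm {η η' : IrrCharacter G} (hη : η ∈ B) (hη' : η' ∈ B) :
    mU 2 P e (σ ^ M₀) η η' = mU 2 P e (σ ^ M₀) η' η := by
  rw [c.mU_z_eq hR hη, c.mU_z_eq hR hη', regDot_comm Fact.out η η']
  ring

theorem mU_z_pos_sum {η η' : IrrCharacter G} (hη : η ∈ B) (hη' : η' ∈ B) :
    mU 2 P e (σ ^ M₀) η η' =
      2 * ∑ x ∈ posRows B sg, mU 2 P e (σ ^ M₀) η x * mU 2 P e (σ ^ M₀) x η' := by
  have hD := c.data
  have h1 := sum_mU_mul c.pM c.block c.isMax hD.z_mem η η'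
  have h2 := orth c.pM c.block c.isMax hD.z_mem (one_mem P)
    (fun h => c.not_fus_one_z h.symm) hη hη'
  have h3 : ∑ x ∈ bFin B, (sg x : ℂ) * (mU 2 P e (σ ^ M₀) η x * mU 2 P e (σ ^ M₀) x η') = 0 := by
    calc ∑ x ∈ bFin B, (sg x : ℂ) * (mU 2 P e (σ ^ M₀) η x * mU 2 P e (σ ^ M₀) x η')
        = (sg η' : ℂ) * ∑ x ∈ bFin B, mU 2 P e (σ ^ M₀) η x * mU 2 P e 1 x η' := by
          rw [Finset.mul_sum]
          refine Finset.sum_congr rfl fun x hx => ?_
          rw [hR.z_sect x (mem_bFin.1 hx) η']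
          have hs : (sg x : ℂ) * sg x = 1 := by exact_mod_cast hR.sg_sq x
          linear_combination (mU 2 P e (σ ^ M₀) η x * (sg η' : ℂ) * mU 2 P e 1 x η') * hs
      _ = 0 := by rw [h2, mul_zero]
  rw [posRows, Finset.sum_filter, Finset.mul_sum]
  calc mU 2 P e (σ ^ M₀) η η'
      = ∑ x ∈ bFin B, (mU 2 P e (σ ^ M₀) η x * mU 2 P e (σ ^ M₀) x η' +
          (sg x : ℂ) * (mU 2 P e (σ ^ M₀) η x * mU 2 P e (σ ^ M₀) x η')) := by
        rw [Finset.sum_add_distrib, h1, h3, add_zero]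
    _ = _ := Finset.sum_congr rfl fun x _ => by
        rcases hR.sg_eq x with h | h <;> simp [h]
        ring

/-- The doubled inner product of a perpendicular vector with the column of `z` is an integer. -/
theorem exists_coeff (hcen : σ ^ M₀ ∈ Subgroup.center G) {O : Finset G}
    (hO : IsOuter P e σ τ M₀ O) {v : IrrCharacter G → ℤ} (hv : Perp B P e M₀ m sg O v) :
    ∃ k : IrrCharacter G → ℤ, ∀ η ∈ B,
      (k η : ℂ) = 2 * ∑ x ∈ bFin B, (v x : ℂ) * mU 2 P e (σ ^ M₀) η x := by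
  have hex : ∀ η, ∃ k : ℤ, η ∈ B →
      (k : ℂ) = 2 * ∑ x ∈ bFin B, (v x : ℂ) * mU 2 P e (σ ^ M₀) η x := by
    intro η
    by_cases hη : η ∈ B
    · obtain ⟨k, hk⟩ := c.exists_int_two_regDot hcen hR hO hv.supp hv.rot hv.out hη
      refine ⟨sg η * k, fun _ => ?_⟩
      rw [Int.cast_mul, ← hk, mul_left_comm, Finset.mul_sum (s := bFin B) (a := (sg η : ℂ))]
      congr 1
      refine Finset.sum_congr rfl fun x _ => ?_
      by_cases hx : v x = 0
      · simp [hx]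
      · rw [c.mU_z_eq hR hη, (hv.supp x hx).2]
        push_cast
        ring
    · exact ⟨0, fun h => absurd h hη⟩
  choose k hk using hex
  exact ⟨k, hk⟩

/-- The rows of sign `-1`. -/
theorem neg_rows (h4M : 4 ≤ M₀) {O : Finset G} (hO : IsOuter P e σ τ M₀ O)
    (h4 : (hzFin B).card = 4) :
    ∃ (εo : ℤ) (p : ZMod (2 * M₀) → IrrCharacter G) (f : IrrCharacter G → ℤ),
      (εo = 1 ∨ εo = -1) ∧ (∀ η, f η = 0 ∨ f η = 1) ∧ (∃ η ∈ B, sg η = -1 ∧ f η = 1) ∧
      (∀ η ∈ B, sg η = -1 → (M₀ : ℤ) ∣ (∑ a, m η a) - 2 * εo * f η) ∧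
      ∀ η ∈ B, sg η = -1 → ∀ η' ∈ B, sg η' = -1 → f η = 1 →
        ((4 * M₀ : ℕ) : ℂ) * mU 2 P e (σ ^ M₀) η η' = 4 * (f η' : ℂ) := by
  have hD := c.data
  have hout : ∀ χ ∈ bFin B, χ ∉ (bFin B).filter (fun χ => sg χ = -1) → ∀ a, sgnA a = -1 →
      m χ a = 0 := fun χ hχ hn a ha => by
    rcases hR.sg_eq χ with h | h
    · exact hR.pos_odd_zero (mem_posRows.2 ⟨mem_bFin.1 hχ, h⟩) ha
    · exact absurd (Finset.mem_filter.2 ⟨hχ, h⟩) hn
  obtain ⟨εo, p, hP⟩ := (c.cols_of_rotParam hR).oddPat c (Finset.filter_subset _ _) h4M hout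
  set N := (bFin B).filter fun χ => sg χ = -1 with hN
  have hcard := c.card_clR
  set Ro := clR M₀ r (-1) with hRo
  obtain ⟨l₀, hl₀⟩ : Ro.Nonempty := Finset.card_pos.1 (by omega)
  set f : IrrCharacter G → ℤ := fun η => ∑ l ∈ Ro, ind (p l) η with hf
  set β : IrrCharacter G → ℤ := fun η => m η l₀ - εo * ind (p l₀) η with hβ
  have hf01 : ∀ η, f η = 0 ∨ f η = 1 := by
    intro η
    by_cases h : ∃ l ∈ Ro, η = p l
    · obtain ⟨l, hl, rfl⟩ := h
      right
      simp only [hf]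
      rw [Finset.sum_eq_single_of_mem l hl fun l' hl' hne =>
        Star.ind_ne fun hh => hne (hP.inj hl' hl hh.symm), Star.ind_self]
    · left
      exact Finset.sum_eq_zero fun l hl => Star.ind_ne fun hh => h ⟨l, hl, hh⟩
  have hd : ∀ η ∈ N, ∀ a ∈ Ro, m η a - β η = εo * ind (p a) η := fun η hη a ha => by
    simp only [hβ]
    linear_combination hP.diff a ha l₀ hl₀ η hη
  have hsum1 : ∀ η ∈ N, ∑ a, (if sgnA a = -1 then m η a - β η else 0) = 2 * εo * f η := by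
    intro η hη
    rw [c.sum_class _ (fun a => by rw [hR.symm η a]) (Or.inr rfl), if_neg (by norm_num), zero_add,
      Finset.sum_congr rfl (hd η hη), ← Finset.mul_sum]
    ring
  have hsum : ∀ η ∈ N, (M₀ : ℤ) ∣ (∑ a, m η a) - 2 * εo * f η := by
    intro η hη
    obtain ⟨hηB, hηs⟩ := Finset.mem_filter.1 hη
    refine ⟨β η, ?_⟩
    have h1 : ∑ a : ZMod (2 * M₀), (if sgnA a = -1 then (1 : ℤ) else 0) = M₀ := by
      rw [c.sum_class (fun _ => (1 : ℤ)) (fun _ => rfl) (Or.inr rfl), if_neg (by norm_num),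
        zero_add, Finset.sum_const, nsmul_one, ← hRo, ← two_mul]
      exact_mod_cast hcard.1
    have h2 : ∑ a, m η a = ∑ a, (if sgnA a = -1 then m η a - β η else 0) +
        β η * ∑ a : ZMod (2 * M₀), (if sgnA a = -1 then (1 : ℤ) else 0) := by
      rw [Finset.mul_sum, ← Finset.sum_add_distrib]
      refine Finset.sum_congr rfl fun a _ => ?_
      rcases sgnA_eq a with ha | ha
      · simp [ha, hR.neg_even_zero hηs ha]
      · simp [ha]
    rw [h2, h1, hsum1 η hη]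
    ring
  refine ⟨εo, p, f, hP.εo_sign, hf01, ⟨p l₀, ?_⟩,
    fun η hη hs => hsum η (Finset.mem_filter.2 ⟨mem_bFin.2 hη, hs⟩), ?_⟩
  · obtain ⟨h1, h2⟩ := Finset.mem_filter.1 (hP.p_mem l₀ hl₀)
    refine ⟨mem_bFin.1 h1, h2, ?_⟩
    simp only [hf]
    rw [Finset.sum_eq_single_of_mem l₀ hl₀ fun l hl hne =>
      Star.ind_ne fun hh => hne (hP.inj hl hl₀ hh.symm), Star.ind_self]
  intro η hη hs η' hη' hs' hfη
  have hN1 : η ∈ N := Finset.mem_filter.2 ⟨mem_bFin.2 hη, hs⟩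
  have hN2 : η' ∈ N := Finset.mem_filter.2 ⟨mem_bFin.2 hη', hs'⟩
  obtain ⟨l, hl, rfl⟩ : ∃ l ∈ Ro, η = p l := by
    by_contra h
    have : f η = 0 := Finset.sum_eq_zero fun l hl => Star.ind_ne fun hh => h ⟨l, hl, hh⟩
    omega
  set dx : ZMod (2 * M₀) → ℤ := fun a => if sgnA a = -1 then m (p l) a - β (p l) else 0 with hdx
  set dy : ZMod (2 * M₀) → ℤ := fun a => if sgnA a = -1 then m η' a - β η' else 0 with hdy
  have hev : ∀ χ ∈ N, ∀ i ∈ gens M₀,
      ev (m χ) i = ev (fun a => if sgnA a = -1 then m χ a - β χ else 0) i := by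
    intro χ hχ i hi
    rw [← add_zero (ev (fun a => if sgnA a = -1 then m χ a - β χ else 0) i),
      ← ev_class_const (β χ) (Or.inr rfl) hi, ev, ev, ev, ← Finset.sum_add_distrib]
    refine Finset.sum_congr rfl fun a _ => ?_
    rcases sgnA_eq a with h | h
    · simp [h, hR.neg_even_zero (Finset.mem_filter.1 hχ).2 h]
    · simp [h]
      ring
  have hsx : ∑ a, dx a = 2 * εo := by rw [hdx, hsum1 _ hN1, hfη, mul_one]
  have hsy : ∑ a, dy a = 2 * εo * f η' := hsum1 _ hN2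
  have hsgx : ∑ a, sgnA a * dx a = -∑ a, dx a := by
    rw [← Finset.sum_neg_distrib]
    exact Finset.sum_congr rfl fun a _ => by simp only [hdx]; split_ifs with h <;> simp [h]
  have hsgy : ∑ a, sgnA a * dy a = -∑ a, dy a := by
    rw [← Finset.sum_neg_distrib]
    exact Finset.sum_congr rfl fun a _ => by simp only [hdy]; split_ifs with h <;> simp [h]
  have hε2 : εo * εo = 1 := by rcases hP.εo_sign with h | h <;> rw [h] <;> norm_num
  have hpr : ∑ a, dx a * dy a = if η' = p l then 2 else 0 := by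
    rw [Finset.sum_congr rfl fun a (_ : a ∈ Finset.univ) => show dx a * dy a =
        if sgnA a = -1 then (m (p l) a - β (p l)) * (m η' a - β η') else 0 by
      simp only [hdx, hdy]; split_ifs <;> simp,
      c.sum_class _ (fun a => by rw [hR.symm (p l) a, hR.symm η' a]) (Or.inr rfl),
      if_neg (by norm_num), zero_add, Finset.sum_eq_single_of_mem l hl fun a ha hne => by
        rw [hd _ hN1 a ha, Star.ind_ne fun hh => hne (hP.inj ha hl hh.symm)]; ring,
      hd _ hN1 l hl, hd _ hN2 l hl, Star.ind_self, ind]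
    split_ifs <;> first | linear_combination (2 : ℤ) * hε2 | linear_combination (0 : ℤ) * hε2
  have hp := parseval dx dy
  have hg : Finset.univ = gens M₀ ∪ {0, (M₀ : ZMod (2 * M₀))} := by
    ext b
    simp [gens]
    tauto
  have hdis : Disjoint (gens M₀) ({0, (M₀ : ZMod (2 * M₀))} : Finset (ZMod (2 * M₀))) := by
    rw [Finset.disjoint_left]
    intro b hb hb'
    obtain ⟨h0, hM⟩ := mem_gens.1 hb
    simp [h0, hM] at hb'
  rw [hg, Finset.sum_union hdis, Finset.sum_pair hD.M_ne_zero.symm, ev_zero, ev_zero, ev_M, ev_M,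
    ← hg, hsgx, hsgy, map_intCast, map_intCast, hsx, hsy, hpr] at hp
  have hrot : ((2 * M₀ : ℕ) : ℂ) * ∑ i ∈ gens M₀, mU 2 P e (rot σ i) (p l) η' =
      ∑ i ∈ gens M₀, ev dx i * conj (ev dy i) := by
    rw [Finset.mul_sum]
    exact Finset.sum_congr rfl fun i hi => by
      rw [hR.sect i (mem_gens.1 hi).1 (mem_gens.1 hi).2, hev _ hN1 i hi, hev _ hN2 i hi]
  have houts : ∀ o ∈ O, mU 2 P e o (p l) η' = 0 := by
    intro o ho
    obtain ⟨a, -, ha0, ha⟩ := c.exists_outer_vec hO ho h4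
    have h := ha (p l) hη η' hη'
    have hz : p l ∉ hzFin B := fun h => by
      have := (mem_posRows.1 (c.hz_pos hR h)).2
      rw [hs] at this
      norm_num at this
    rw [ha0 _ (mem_bFin.2 hη) hz, Int.cast_zero, zero_mul] at h
    exact (mul_eq_zero.1 h).resolve_left (by norm_num)
  have hid := c.identity_split hO hη η'
  rw [Finset.sum_eq_zero houts, add_zero, hR.z_sect (p l) hη η', hs, hs',
    mU_one c.pM c.block c.isMax hη η'] at hid
  rw [c.mU_z_eq hR hη, hs, hs']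
  push_cast at hid hp hrot ⊢
  have hε2C : (εo : ℂ) * εo = 1 := by exact_mod_cast hε2
  by_cases heq : η' = p l
  · subst heq
    rw [if_pos rfl] at hid
    simp only [if_pos rfl] at hp
    rw [hfη]
    push_cast at hp ⊢
    rw [hfη] at hp
    push_cast at hp
    linear_combination (2 * (M₀ : ℂ)) * hid - (1 / 2 : ℂ) * hrot - (1 / 2 : ℂ) * hp + 4 * hε2C
  · rw [if_neg (Ne.symm heq)] at hid
    simp only [if_neg heq] at hp
    push_cast at hp
    linear_combination (2 * (M₀ : ℂ)) * hid - (1 / 2 : ℂ) * hrot - (1 / 2 : ℂ) * hp +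
      (4 * (f η' : ℂ)) * hε2C

theorem rotSect_of_parity (δ : ZMod (2 * M₀)) (hδ : δ = 0 ∨ δ = (M₀ : ZMod (2 * M₀))) :
    RotSect P e σ M₀ r δ fun η a => if δ = 0 then m η a else sgnA a * m η a := by
  have hD := c.data
  refine ⟨hδ, fun η a => ?_, fun i hi χ ψ => ?_⟩
  · simp only [hR.symm η a, hD.sgnA_r_mul]
  rcases hδ with rfl | rfl
  · simp only [if_true, add_zero]
    exact hR.sect i (mem_gens.1 hi).1 (mem_gens.1 hi).2 χ ψ
  · simp only [if_neg hD.M_ne_zero]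
    have hi' : i + (M₀ : ZMod (2 * M₀)) ∈ gens M₀ := by
      obtain ⟨h0, hM⟩ := mem_gens.1 hi
      exact mem_gens.2 ⟨fun h => hM (by linear_combination h - hD.M_double),
        fun h => h0 (by linear_combination h)⟩
    have e1 : ∀ f : ZMod (2 * M₀) → ℤ,
        ev f (i + (M₀ : ZMod (2 * M₀))) = ev (fun a => sgnA a * f a) i := fun f =>
      Finset.sum_congr rfl fun a _ => by
        rw [mul_add, AddChar.map_add_eq_mul, stdAddChar_mul_M]
        push_cast
        ring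
    rw [hR.sect _ (mem_gens.1 hi').1 (mem_gens.1 hi').2 χ ψ, e1, e1]

theorem exists_hData (hcen : σ ^ M₀ ∈ Subgroup.center G) {O : Finset G}
    (hO : IsOuter P e σ τ M₀ O) :
    ∃ δ mt W V₀ V₁ A U₀ U₁ w g₀ g₁,
      HData B P e σ M₀ r O δ mt W V₀ V₁ A U₀ U₁ w g₀ g₁ := by
  have hD := c.data
  obtain ⟨W, V₀, V₁, w, hP⟩ := c.exists_posData hR hcen hO
  obtain ⟨εe, qq, ee, ss, hpat⟩ := c.exists_pat hR hcen
  obtain ⟨hhz, h4⟩ := c.hz_eq_image hR hpat
  obtain ⟨A, hA⟩ := c.exists_coeff hR hcen hO hP.perpW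
  obtain ⟨U₀, hU₀⟩ := c.exists_coeff hR hcen hO hP.perp₀
  obtain ⟨U₁, hU₁⟩ := c.exists_coeff hR hcen hO hP.perp₁
  set S := posRows B sg with hS
  have hres : ∀ {v : IrrCharacter G → ℤ}, Perp B P e M₀ m sg O v → ∀ F : IrrCharacter G → ℂ,
      ∑ x ∈ bFin B, (v x : ℂ) * F x = ∑ x ∈ S, (v x : ℂ) * F x := fun hv F =>
    (Finset.sum_subset posRows_subset fun x _ hn => by
      rw [of_not_not fun h => hn (mem_posRows.2 (hv.supp x h)), Int.cast_zero, zero_mul]).symm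
  have hsymmS : ∀ {x}, x ∈ S → x ∈ B := fun hx => (mem_posRows.1 hx).1
  have hmix : ∀ η ∈ B, ∀ x ∈ S, ((4 * M₀ : ℕ) : ℂ) * w * mU 2 P e (σ ^ M₀) η x =
      (w : ℂ) * A η * W x + (M₀ : ℂ) * ((U₀ η : ℂ) * V₀ x + (U₁ η : ℂ) * V₁ x) := by
    intro η hη x hx
    rw [c.mU_z_pos_sum hR hη (hsymmS hx), hA η hη, hU₀ η hη, hU₁ η hη, hres hP.perpW,
      hres hP.perp₀, hres hP.perp₁]
    simp only [Finset.mul_sum, Finset.sum_mul, ← Finset.sum_add_distrib]
    refine Finset.sum_congr rfl fun y hy => ?_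
    have h := hP.formula y hy x hx
    push_cast at h ⊢
    rw [c.mU_z_pos hR hy hx]
    linear_combination (2 * mU 2 P e (σ ^ M₀) η y) * h
  have hform : ∀ η ∈ B, ∀ η' ∈ B, ((4 * M₀ : ℕ) : ℂ) * w * mU 2 P e (σ ^ M₀) η η' =
      ((w * A η * A η' + M₀ * (U₀ η * U₀ η' + U₁ η * U₁ η') : ℤ) : ℂ) := by
    intro η hη η' hη'
    push_cast
    rw [c.mU_z_pos_sum hR hη hη', hA η' hη', hU₀ η' hη', hU₁ η' hη', hres hP.perpW, hres hP.perp₀,
      hres hP.perp₁]
    simp only [Finset.mul_sum, ← Finset.sum_add_distrib]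
    refine Finset.sum_congr rfl fun x hx => ?_
    have h := hmix η hη x hx
    push_cast at h ⊢
    rw [c.mU_z_symm hR (hsymmS hx) hη']
    linear_combination (2 * mU 2 P e (σ ^ M₀) η' x) * h
  have hw0 : w ≠ 0 := by rcases hP.cases with h | h | h <;> omega
  have hM0 : (4 * M₀ : ℕ) ≠ 0 := by have := hD.two_le; omega
  have hgram : ∀ {v v' : IrrCharacter G → ℤ}, Perp B P e M₀ m sg O v → Perp B P e M₀ m sg O v' →
      ∀ g : ℤ, g * (M₀ : ℤ) * w = w * (∑ x ∈ S, v x * W x) * (∑ x ∈ S, v' x * W x) +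
        M₀ * ((∑ x ∈ S, v x * V₀ x) * (∑ x ∈ S, v' x * V₀ x) +
          (∑ x ∈ S, v x * V₁ x) * (∑ x ∈ S, v' x * V₁ x)) →
      4 * ∑ x ∈ bFin B, ∑ y ∈ bFin B, (v x : ℂ) * v' y * mU 2 P e (σ ^ M₀) x y = (g : ℂ) := by
    intro v v' hv hv' g hg
    have e1 : ∑ x ∈ bFin B, ∑ y ∈ bFin B, (v x : ℂ) * v' y * mU 2 P e (σ ^ M₀) x y =
        ∑ x ∈ S, ∑ y ∈ S, (v x : ℂ) * v' y * mU 2 P e (σ ^ M₀) x y := by
      rw [Finset.sum_congr rfl fun x (_ : x ∈ bFin B) => by
        rw [Finset.sum_congr rfl fun y _ => mul_assoc (v x : ℂ) _ _, ← Finset.mul_sum, hres hv'],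
        hres hv]
      exact Finset.sum_congr rfl fun x _ => by
        rw [Finset.mul_sum]
        exact Finset.sum_congr rfl fun y _ => by ring
    rw [e1]
    refine mul_left_cancel₀ (mul_ne_zero (Nat.cast_ne_zero.2 hM0 : ((4 * M₀ : ℕ) : ℂ) ≠ 0)
      (Int.cast_ne_zero.2 hw0 : (w : ℂ) ≠ 0)) ?_
    calc ((4 * M₀ : ℕ) : ℂ) * w * (4 * ∑ x ∈ S, ∑ y ∈ S, (v x : ℂ) * v' y * mU 2 P e (σ ^ M₀) x y)
        = 4 * ∑ x ∈ S, ∑ y ∈ S, (v x : ℂ) * v' y *
            ((w * W x * W y + M₀ * (V₀ x * V₀ y + V₁ x * V₁ y) : ℤ) : ℂ) := by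
          simp only [Finset.mul_sum]
          refine Finset.sum_congr rfl fun x hx => Finset.sum_congr rfl fun y hy => ?_
          rw [← hP.formula x hx y hy, c.mU_z_pos hR hx hy]
          ring
      _ = 4 * ((w * (∑ x ∈ S, v x * W x) * (∑ x ∈ S, v' x * W x) +
            M₀ * ((∑ x ∈ S, v x * V₀ x) * (∑ x ∈ S, v' x * V₀ x) +
              (∑ x ∈ S, v x * V₁ x) * (∑ x ∈ S, v' x * V₁ x)) : ℤ) : ℂ) := by
          push_cast
          simp only [Finset.sum_mul_sum, Finset.mul_sum, Finset.sum_mul, mul_add,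
            ← Finset.sum_add_distrib]
          rw [Finset.sum_comm]
          exact Finset.sum_congr rfl fun x _ => Finset.sum_congr rfl fun y _ => by ring
      _ = _ := by rw [← hg]; push_cast; ring
  have hW2 : ∀ f g : IrrCharacter G → ℤ, ∑ x ∈ S, f x * g x = ∑ x ∈ S, g x * f x := fun f g =>
    Finset.sum_congr rfl fun x _ => mul_comm _ _
  -- parity
  have hpar : O.card ≤ 1 → ∀ η ∈ B, Even (A η + U₀ η + U₁ η) := by
    intro hc η hη
    obtain ⟨H, hH, h2⟩ := hP.half hc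
    obtain ⟨kH, hkH⟩ := c.exists_coeff hR hcen hO hH
    refine ⟨kH η, ?_⟩
    have h : ((A η + U₀ η + U₁ η : ℤ) : ℂ) = ((kH η + kH η : ℤ) : ℂ) := by
      push_cast
      rw [hA η hη, hU₀ η hη, hU₁ η hη, hkH η hη, ← mul_add, ← mul_add, ← mul_add,
        ← Finset.sum_add_distrib, ← Finset.sum_add_distrib, ← Finset.sum_add_distrib]
      congr 1
      refine Finset.sum_congr rfl fun x _ => ?_
      have h2C : 2 * (H x : ℂ) = (W x : ℂ) + V₀ x + V₁ x := by exact_mod_cast h2 x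
      linear_combination (-(mU 2 P e (σ ^ M₀) η x)) * h2C
    exact_mod_cast h
  -- rows of sign one
  have hApos : ∀ η ∈ S, A η = W η := by
    intro η hη
    have h : ((4 * M₀ : ℕ) : ℂ) * w * (A η : ℂ) = ((4 * M₀ : ℕ) : ℂ) * w * (W η : ℂ) := by
      have e : ((4 * M₀ : ℕ) : ℂ) * w * (2 * ∑ y ∈ S, (W y : ℂ) * regDot 2 η.1 y.1) =
          2 * ((w * W η * ∑ x ∈ S, W x * W x + M₀ * (V₀ η * ∑ x ∈ S, W x * V₀ x +
            V₁ η * ∑ x ∈ S, W x * V₁ x) : ℤ) : ℂ) := by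
        push_cast
        simp only [Finset.mul_sum, ← Finset.sum_add_distrib]
        refine Finset.sum_congr rfl fun y hy => ?_
        have h := hP.formula η hη y hy
        push_cast at h
        linear_combination (2 * (W y : ℂ)) * h
      rw [hA η (hsymmS hη), hres hP.perpW,
        Finset.sum_congr rfl fun y hy => by rw [c.mU_z_pos hR hη hy], e, hP.WW, hP.WV₀, hP.WV₁]
      push_cast
      ring
    exact_mod_cast mul_left_cancel₀ (mul_ne_zero (Nat.cast_ne_zero.2 hM0)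
      (Int.cast_ne_zero.2 hw0)) h
  -- the shift
  obtain ⟨δ, hδ, hneg⟩ : ∃ δ : ZMod (2 * M₀), (δ = 0 ∨ δ = (M₀ : ZMod (2 * M₀))) ∧
      ∀ η ∈ B, sg η = -1 → (M₀ : ℤ) ∣ A η - ∑ a, (if δ = 0 then m η a else sgnA a * m η a) := by
    by_cases h4M : 4 ≤ M₀
    · obtain ⟨εo, p, f, hεo, hf01, ⟨p₀, hp₀, hp₀s, hfp₀⟩, hsum, hval⟩ := c.neg_rows hR h4M hO h4
      have key : ∀ η ∈ B, sg η = -1 → ∀ η' ∈ B, sg η' = -1 → f η = 1 →
          w * A η * A η' + M₀ * (U₀ η * U₀ η' + U₁ η * U₁ η') = 4 * w * f η' := by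
        intro η hη hs η' hη' hs' hfη
        have h := hform η hη η' hη'
        rw [mul_right_comm, hval η hη hs η' hη' hs' hfη] at h
        have h' : ((w * A η * A η' + M₀ * (U₀ η * U₀ η' + U₁ η * U₁ η') : ℤ) : ℂ) =
            ((4 * w * f η' : ℤ) : ℂ) := by rw [← h]; push_cast; ring
        exact_mod_cast h'
      have hzero : ∀ η ∈ B, sg η = -1 → f η = 1 → U₀ η = 0 ∧ U₁ η = 0 ∧ A η * A η = 4 := by
        intro η hη hs hfη
        have h := key η hη hs η hη hs hfη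
        rw [hfη, mul_one] at h
        have hM4 : (4 : ℤ) ≤ M₀ := by exact_mod_cast h4M
        rcases hP.cases with ⟨hc, rfl, -⟩ | ⟨hc, rfl, -, -, hV1⟩ | ⟨hc, rfl, hV0, hV1⟩
        · have hp := hpar (by omega) η hη
          by_cases hU : U₀ η * U₀ η + U₁ η * U₁ η = 0
          · obtain ⟨h0, h1⟩ := (add_eq_zero_iff_of_nonneg (mul_self_nonneg _) (mul_self_nonneg _)).1 hU
            rw [hU] at h
            exact ⟨mul_self_eq_zero.1 h0, mul_self_eq_zero.1 h1, by linarith⟩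
          · exfalso
            have h1 : 1 ≤ U₀ η * U₀ η + U₁ η * U₁ η := by
              have := add_nonneg (mul_self_nonneg (U₀ η)) (mul_self_nonneg (U₁ η))
              omega
            have hMU : 4 * (U₀ η * U₀ η + U₁ η * U₁ η) ≤
                (M₀ : ℤ) * (U₀ η * U₀ η + U₁ η * U₁ η) :=
              mul_le_mul_of_nonneg_right hM4 (by linarith)
            have hAA := mul_self_nonneg (A η)
            have h2 : U₀ η * U₀ η + U₁ η * U₁ η = 1 := by linarith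
            have h3 : A η = 0 := mul_self_eq_zero.1 (by rw [h2] at h hMU; linarith)
            obtain ⟨k, hk⟩ := hp
            rw [h3] at hk
            have e : (U₀ η + U₁ η) * (U₀ η + U₁ η) = 1 + 2 * (U₀ η * U₁ η) := by linarith
            rw [show U₀ η + U₁ η = 2 * k by linarith, show 2 * k * (2 * k) = 4 * (k * k) by ring] at e
            omega
        · have hU1 : U₁ η = 0 := by
            have h := hU₁ η hη
            simp [hV1] at h
            exact h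
          have hp := hpar (by omega) η hη
          by_cases hU : U₀ η = 0
          · rw [hU, hU1] at h
            exact ⟨hU, hU1, by linarith⟩
          · exfalso
            rw [hU1] at h hp
            have h1 : 1 ≤ U₀ η * U₀ η := by
              rcases (by omega : U₀ η ≤ -1 ∨ 1 ≤ U₀ η) with hh | hh <;> nlinarith
            have hMU : 4 * (U₀ η * U₀ η) ≤ (M₀ : ℤ) * (U₀ η * U₀ η) :=
              mul_le_mul_of_nonneg_right hM4 (by linarith)
            have hAA := mul_self_nonneg (A η)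
            simp only [mul_zero, add_zero] at h
            have hU2 : U₀ η * U₀ η ≤ 2 := by linarith
            have hU3 : U₀ η = 1 ∨ U₀ η = -1 := by
              have : U₀ η < 2 := by nlinarith
              have : -2 < U₀ η := by nlinarith
              omega
            have hA2 : A η * A η ≤ 2 := by linarith
            have hA3 : A η = 0 ∨ A η = 1 ∨ A η = -1 := Star.int_sq_le_three (by linarith)
            obtain ⟨k, hk⟩ := hp
            have h4d : (4 : ℤ) ∣ M₀ := by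
              obtain ⟨j, hj⟩ := hD.two_pow
              rcases j with _ | _ | j
              · simp at hj; omega
              · simp at hj; omega
              · exact ⟨2 ^ j, by rw [hj]; push_cast; ring⟩
            rcases hA3 with ha | ha | ha <;> rcases hU3 with hu | hu <;> rw [ha, hu] at hk h <;>
              norm_num at hk h <;> omega
        · have h0 : U₀ η = 0 := by have h := hU₀ η hη; simp [hV0] at h; exact h
          have h1 : U₁ η = 0 := by have h := hU₁ η hη; simp [hV1] at h; exact h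
          rw [h0, h1] at h
          exact ⟨h0, h1, by linarith⟩
      obtain ⟨hu0, hu1, hA2⟩ := hzero p₀ hp₀ hp₀s hfp₀
      have hAp : ∀ η ∈ B, sg η = -1 → A η = A p₀ * f η := by
        intro η hη hs
        have h := key p₀ hp₀ hp₀s η hη hs hfp₀
        rw [hu0, hu1] at h
        have h' : A p₀ * A η = 4 * f η := mul_left_cancel₀ hw0 (by linear_combination h)
        have h4' : 4 * A η = 4 * (A p₀ * f η) := by
          linear_combination (A p₀) * h' - (A η) * hA2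
        linarith
      have hp2 : A p₀ = 2 * εo ∨ A p₀ = -(2 * εo) := by
        have : (A p₀ - 2 * εo) * (A p₀ + 2 * εo) = 0 := by
          rcases hεo with h | h <;> rw [h] <;> linarith
        rcases mul_eq_zero.1 this with h | h
        exacts [Or.inl (by linarith), Or.inr (by linarith)]
      rcases hp2 with hp2 | hp2
      · refine ⟨0, Or.inl rfl, fun η hη hs => ?_⟩
        simp only [if_true]
        rw [hAp η hη hs, hp2, dvd_sub_comm]
        exact hsum η hη hs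
      · refine ⟨(M₀ : ZMod (2 * M₀)), Or.inr rfl, fun η hη hs => ?_⟩
        simp only [if_neg hD.M_ne_zero]
        rw [Finset.sum_congr rfl fun a _ => show sgnA a * m η a = -(m η a) by
          rcases sgnA_eq a with ha | ha
          · rw [hR.neg_even_zero hs ha]; ring
          · rw [ha]; ring, Finset.sum_neg_distrib, hAp η hη hs, hp2]
        convert hsum η hη hs using 1
        ring
    · refine ⟨0, Or.inl rfl, fun η hη hs => ?_⟩
      simp only [if_true]
      have hM2 : M₀ = 2 := by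
        obtain ⟨j, hj⟩ := hD.two_pow
        have := hD.two_le
        rcases j with _ | _ | j
        · omega
        · simpa using hj
        · exfalso; rw [hj, pow_succ, pow_succ] at h4M; have := Nat.one_le_two_pow (n := j); omega
      have hq : qq 0 ∈ hzFin B := hhz ▸ Finset.mem_image_of_mem qq (Finset.mem_univ 0)
      obtain ⟨hqB, hq0⟩ := mem_hzFin.1 hq
      obtain ⟨cc, hcc⟩ := exists_int_regDot c.pM Fact.out c.block hqB
      have hηz : blockHeight 2 B η.1 ≠ 0 := fun h => by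
        rw [c.sg_of_height_zero hR hη h] at hs
        norm_num at hs
      have hev : Even (cc η) := Int.not_odd_iff_even.1
        (mt (intCoeff_odd_iff c.pM c.block hqB hη hq0 (hcc η)).1 hηz)
      have hw1 : w = 1 := by rcases hP.cases with h | h | h <;> omega
      have hAq : Odd (A (qq 0)) := by
        rw [hApos _ (c.hz_pos hR hq)]
        exact (hP.odd_iff _ (c.hz_pos hR hq)).2 hq
      have h := hform η hη (qq 0) hqB
      have e := hcc η
      rw [c.pow_blockDefect] at e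
      rw [c.mU_z_eq hR hη, hs, c.sg_of_height_zero hR hqB hq0, regDot_comm Fact.out η (qq 0)] at h
      have h' : ((w * A η * A (qq 0) + M₀ * (U₀ η * U₀ (qq 0) + U₁ η * U₁ (qq 0)) : ℤ) : ℂ) =
          ((-(cc η) : ℤ) : ℂ) := by
        rw [← h, Int.cast_neg, hw1]
        push_cast at e ⊢
        linear_combination -e
      have h'' : w * A η * A (qq 0) + M₀ * (U₀ η * U₀ (qq 0) + U₁ η * U₁ (qq 0)) = -(cc η) := by
        exact_mod_cast h'
      rw [hw1, hM2] at h''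
      push_cast at h''
      have hAe : Even (A η) := by
        have h2 : Even (A η * A (qq 0)) := by
          obtain ⟨k, hk⟩ := hev
          exact ⟨-k - (U₀ η * U₀ (qq 0) + U₁ η * U₁ (qq 0)), by linarith⟩
        exact (Int.even_mul.1 h2).resolve_right (Int.not_even_iff_odd.2 hAq)
      have hme : Even (∑ a, m η a) := by
        refine ⟨∑ a ∈ clR M₀ r (-1), m η a, ?_⟩
        rw [Finset.sum_congr rfl fun a (_ : a ∈ (Finset.univ : Finset (ZMod (2 * M₀)))) =>
          show m η a = if sgnA a = -1 then m η a else 0 by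
            rcases sgnA_eq a with ha | ha
            · rw [if_neg (by rw [ha]; norm_num), hR.neg_even_zero hs ha]
            · rw [if_pos ha],
          c.sum_class _ (hR.symm η) (Or.inr rfl), if_neg (by norm_num), zero_add]
      obtain ⟨k, hk⟩ := hAe
      obtain ⟨k', hk'⟩ := hme
      exact ⟨k - k', by rw [hk, hk', hM2]; push_cast; ring⟩
  refine ⟨δ, fun η a => if δ = 0 then m η a else sgnA a * m η a, W, V₀, V₁, A, U₀, U₁, w, ?_⟩
  have hcong : ∀ η ∈ B, (M₀ : ℤ) ∣ A η - ∑ a, (if δ = 0 then m η a else sgnA a * m η a) := by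
    intro η hη
    rcases hR.sg_eq η with hs | hs
    · have hp : η ∈ S := mem_posRows.2 ⟨hη, hs⟩
      rw [hApos η hp, Finset.sum_congr rfl fun a _ =>
        show (if δ = 0 then m η a else sgnA a * m η a) = m η a by
          split_ifs
          · rfl
          · rcases sgnA_eq a with ha | ha
            · rw [ha, one_mul]
            · rw [hR.pos_odd_zero hp ha, mul_zero]]
      exact hP.cong η hp
    · exact hneg η hη hs
  have hsupp : ∀ x, W x ≠ 0 ∨ V₀ x ≠ 0 ∨ V₁ x ≠ 0 → x ∈ B := by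
    rintro x (h | h | h)
    exacts [(hP.perpW.supp x h).1, (hP.perp₀.supp x h).1, (hP.perp₁.supp x h).1]
  have hWV0' : ∑ x ∈ S, V₀ x * W x = 0 := by rw [hW2]; exact hP.WV₀
  have hWV1' : ∑ x ∈ S, V₁ x * W x = 0 := by rw [hW2]; exact hP.WV₁
  have hVV' : ∑ x ∈ S, V₁ x * V₀ x = 0 := by rw [hW2]; exact hP.VV
  have hWW := hgram hP.perpW hP.perpW (4 * M₀)
    (by rw [hP.WW, hP.WV₀, hP.WV₁]; ring)
  have hW0 := hgram hP.perpW hP.perp₀ 0
    (by rw [hP.WW, hP.WV₀, hP.WV₁, hWV0', hP.VV]; ring)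
  have hW1 := hgram hP.perpW hP.perp₁ 0
    (by rw [hP.WW, hP.WV₀, hP.WV₁, hWV1', hVV']; ring)
  have h01 := hgram hP.perp₀ hP.perp₁ 0
    (by rw [hWV0', hWV1', hP.VV, hVV']; ring)
  push_cast at hWW hW0 hW1 h01
  rcases hP.cases with ⟨hc, hw, h0, h1⟩ | ⟨hc, hw, hM4, h0, hV1⟩ | ⟨hc, hw, hV0, hV1⟩
  · exact ⟨4, 4, c.rotSect_of_parity hR δ hδ, hsupp, hA, hU₀, hU₁, hform,
      by push_cast; exact hWW, hW0, hW1, h01,
      hgram hP.perp₀ hP.perp₀ 4 (by rw [hWV0', hP.VV, h0, hw]; ring),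
      hgram hP.perp₁ hP.perp₁ 4 (by rw [hWV1', hVV', h1, hw]; ring), hcong, hpar,
      Or.inl ⟨hc, hw, rfl, rfl⟩⟩
  · exact ⟨8, 0, c.rotSect_of_parity hR δ hδ, hsupp, hA, hU₀, hU₁, hform,
      by push_cast; exact hWW, hW0, hW1, h01,
      hgram hP.perp₀ hP.perp₀ 8 (by rw [hWV0', hP.VV, h0, hw]; ring),
      hgram hP.perp₁ hP.perp₁ 0 (by simp [hV1]), hcong, hpar,
      Or.inr (Or.inl ⟨hc, hw, hM4, rfl, rfl⟩)⟩
  · exact ⟨0, 0, c.rotSect_of_parity hR δ hδ, hsupp, hA, hU₀, hU₁, hform,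
      by push_cast; exact hWW, hW0, hW1, h01,
      hgram hP.perp₀ hP.perp₀ 0 (by simp [hV0]),
      hgram hP.perp₁ hP.perp₁ 0 (by simp [hV1]), hcong, hpar,
      Or.inr (Or.inr ⟨hc, hw, rfl, rfl⟩)⟩

end Ctx

end Cfsg.Agent.TameBlock
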