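import Cfsg.Agent.Lib.BlocksX.KleinSections
import Cfsg.Agent.Lib.Blocks.ContributionCongr
import Cfsg.Agent.Lib.PrimeParts.Basic

/-!
# Central elements against contributions

For a central element `a` with local coefficients and a subsection `(x, b)` of `B`,
`p^d_b |G|⁻¹ Σ_{χ ∈ B} χ(a) conj (m(χ, ψ))` is a local integer.
-/

set_option autoImplicit false
set_option linter.unusedSectionVars false
set_option linter.style.haveILetI false

namespace Cfsg.Agent.TameBlock

open Cfsg Blocks MonoidAlgebra
open Cfsg.Agent.BrauerPairs (regDot exists_int_regDot)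
open scoped Classical ComplexConjugate

universe u

theorem memLocalRing_inv_card_sum {H : Type u} [Group H] [Fintype H] {M : Ideal AlgInt} [M.IsMaximal]
    (F : H → ℂ) (hF : ∀ g x : H, F (x * g * x⁻¹) = F g)
    (h : ∀ x : H, MemLocalRing M (F x / (Nat.card (Subgroup.centralizer ({x} : Set H)) : ℂ))) :
    MemLocalRing M ((Nat.card H : ℂ)⁻¹ * ∑ g, F g) := by
  haveI : Fintype (ConjClasses H) := Fintype.ofFinite _
  rw [← Finset.sum_fiberwise Finset.univ ConjClasses.mk F, Finset.mul_sum]
  refine MemLocalRing.sum _ fun C _ => ?_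
  obtain ⟨x, rfl⟩ := ConjClasses.mk_surjective C
  have hfib : ∀ g ∈ Finset.univ.filter (fun g => ConjClasses.mk g = ConjClasses.mk x),
      F g = F x := fun g hg => by
    obtain ⟨u, hu⟩ := isConj_iff.1 (ConjClasses.mk_eq_mk_iff_isConj.1 (Finset.mem_filter.1 hg).2).symm
    rw [← hu, hF]
  have hk : (Finset.univ.filter fun g => ConjClasses.mk g = ConjClasses.mk x).card =
      (Subgroup.centralizer ({x} : Set H)).index := by
    rw [← PrimeParts.ncard_carrier x, Set.ncard_eq_toFinset_card']
    congr 1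
    ext g
    simp [ConjClasses.mem_carrier_iff_mk_eq]
  rw [Finset.sum_congr rfl hfib, Finset.sum_const, nsmul_eq_mul, hk]
  have hi : ((Subgroup.centralizer ({x} : Set H)).index : ℂ) ≠ 0 :=
    Nat.cast_ne_zero.2 Subgroup.index_ne_zero_of_finite
  rw [show (Nat.card H : ℂ)⁻¹ * (((Subgroup.centralizer ({x} : Set H)).index : ℂ) * F x) =
      F x / (Nat.card (Subgroup.centralizer ({x} : Set H)) : ℂ) by
    rw [← (Subgroup.centralizer ({x} : Set H)).card_mul_index]
    push_cast
    field_simp]
  exact h x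

variable {G : Type u} [Group G] [Fintype G] {M : Ideal AlgInt} [M.IsMaximal] {p : ℕ}
  [hp : Fact p.Prime] {B : Set (IrrCharacter G)} {x : G}
  [Fintype (Subgroup.centralizer ({x} : Set G))]
  {b : Set (IrrCharacter (Subgroup.centralizer ({x} : Set G)))}

/-- `p^d_b |G|⁻¹ Σ_{χ ∈ B} χ(a) conj (m(χ, ψ))` is a local integer. -/
theorem memLocalRing_omega_contribution (hpM : (p : AlgInt) ∈ M) {k : ℕ} (hx : orderOf x = p ^ k)
    (hb : IsInducedBlock M (Subgroup.centralizer ({x} : Set G)) b B) (ψ : IrrCharacter G)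
    {a : MonoidAlgebra ℂ G} (ha : IsCentralElt a) (hS : SCoeff M a) :
    MemLocalRing M (((p ^ blockDefect p b : ℕ) : ℂ) / (Nat.card G : ℂ) *
      ∑ χ ∈ Finset.univ.filter (· ∈ B),
        χ.1 1 * omega χ.1 a * conj (contribution p b χ.1 ψ.1)) := by
  set d := blockDefect p b with hd
  set w : MonoidAlgebra ℂ G :=
    ∑ χ ∈ Finset.univ.filter (· ∈ B), omega χ.1 a • blockIdem ({χ} : Set (IrrCharacter G)) with hw
  have hwc : IsCentralElt w :=
    IsCentralElt.sum _ fun χ _ => IsCentralElt.smul _ (isCentralElt_blockIdem _)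
  have hwa : w = a * blockIdem B := by
    refine central_ext hwc (IsCentralElt.mul ha (isCentralElt_blockIdem B)) fun η => ?_
    rw [hw, omega_sum, omega_mul η ha, omega_blockIdem]
    simp only [omega_smul, omega_blockIdem, Set.mem_singleton_iff, mul_ite, mul_one, mul_zero,
      Finset.sum_ite_eq, Finset.mem_filter, Finset.mem_univ, true_and]
  have hwS : SCoeff M w := hwa ▸ SCoeff.mul hS (scoeff_blockIdem hb.2.1)
  have hcoeff : ∀ g, w.coeff g = (Nat.card G : ℂ)⁻¹ *
      ∑ χ ∈ Finset.univ.filter (· ∈ B), χ.1 1 * omega χ.1 a * conj (χ.1 g) := by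
    intro g
    simp only [hw, MonoidAlgebra.coeff_sum, MonoidAlgebra.coeff_smul, Finsupp.coe_finsetSum,
      Finset.sum_apply, Finsupp.coe_smul, Pi.smul_apply, smul_eq_mul, coeff_blockIdem, blockCoeff,
      finsum_mem_singleton, Finset.mul_sum]
    exact Finset.sum_congr rfl fun χ _ => by ring
  set T := Finset.univ.filter (· ∈ b)
  have hG0 : (Nat.card G : ℂ) ≠ 0 := Nat.cast_ne_zero.2 Nat.card_pos.ne'
  have hexp : ((p ^ d : ℕ) : ℂ) / (Nat.card G : ℂ) * ∑ χ ∈ Finset.univ.filter (· ∈ B),
        χ.1 1 * omega χ.1 a * conj (contribution p b χ.1 ψ.1) =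
      ∑ η ∈ T, classInner (secFun x ψ.1) η.1 * ((Nat.card (Subgroup.centralizer ({x} : Set G)) : ℂ)⁻¹ *
        ∑ s : Subgroup.centralizer ({x} : Set G), ((p ^ d : ℕ) : ℂ) * Char.regFun p η.1 s * w.coeff (x * (s : G))) := by
    have e : ∀ χ : IrrCharacter G, conj (contribution p b χ.1 ψ.1) =
        ∑ η ∈ T, classInner (secFun x ψ.1) η.1 * ((Nat.card (Subgroup.centralizer ({x} : Set G)) : ℂ)⁻¹ *
          ∑ s : Subgroup.centralizer ({x} : Set G), Char.regFun p η.1 s * conj (χ.1 (x * (s : G)))) := by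
      intro χ
      rw [conj_contribution hpM hb.1 χ ψ, contribution]
      refine Finset.sum_congr rfl fun η _ => ?_
      congr 1
      simp only [regDot, classInner, map_mul, map_sum, map_inv₀, map_natCast, Complex.conj_conj]
      congr 1
      refine Finset.sum_congr rfl fun s _ => ?_
      simp only [Char.regFun, secFun]
      split_ifs
      · simp
      · ring
    simp only [e, hcoeff, Finset.mul_sum]
    rw [Finset.sum_comm]
    refine Finset.sum_congr rfl fun η _ => ?_
    rw [Finset.sum_comm]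
    exact Finset.sum_congr rfl fun s _ => Finset.sum_congr rfl fun χ _ => by
      field_simp
  rw [hexp]
  refine MemLocalRing.sum _ fun η hη => MemLocalRing.mul ?_ ?_
  · obtain ⟨m, hm⟩ := Char.IsCharacter.exists_nat_classInner
      (Char.IsCharacter.restrict (Char.irr_isCharacter ψ) (Subgroup.centralizer ({x} : Set G))) (Char.irr_isCharacter η)
    rw [classInner_secFun, hm]
    exact MemLocalRing.mul (red_secScalar hpM hx η).1 (memLocalRing_natCast _)
  obtain ⟨n, hn⟩ := exists_int_regDot hpM hp.out hb.1 (Finset.mem_filter.1 hη).2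
  have hfs : ∀ t : Subgroup.centralizer ({x} : Set G), ∑ ν, (n ν : ℂ) * ν.1 t = ((p ^ d : ℕ) : ℂ) * Char.regFun p η.1 t := by
    intro t
    conv_rhs => rw [Char.eq_sum_classInner_smul (Char.isClassFunction_regFun p (irr_classFun η)),
      Finset.sum_apply, Finset.mul_sum]
    refine Finset.sum_congr rfl fun ν _ => ?_
    rw [← hn ν]
    show _ = _ * (regDot p η.1 ν.1 * ν.1 t)
    ring
  refine memLocalRing_inv_card_sum _ (fun s c => ?_) fun s => ?_
  · have hsc : x * ((c * s * c⁻¹ : Subgroup.centralizer ({x} : Set G)) : G) = (c : G) * (x * (s : G)) * (c : G)⁻¹ := by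
      have hc : x * (c : G) = (c : G) * x := (Subgroup.mem_centralizer_singleton_iff.1 c.2).symm
      simp only [Subgroup.coe_mul, Subgroup.coe_inv]
      rw [← mul_assoc, ← mul_assoc, hc]
      group
    rw [hsc, hwc, Char.isClassFunction_regFun p (irr_classFun η) s c]
  · have hmain := BlocksX.Klein.memLocalRing_div_centralizer (M := M) hpM (fun ν => (n ν : ℂ))
      (fun ν => memLocalRing_intCast _) (fun g hg => by
        rw [hfs g, Char.regFun, if_pos (not_not.1 hg), mul_zero]) s
    rw [hfs s] at hmain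
    rw [mul_div_right_comm]
    exact MemLocalRing.mul hmain (hwS _)

end Cfsg.Agent.TameBlock
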