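import Cfsg.Agent.Lib.TameBlock.HRows
import Cfsg.Agent.Lib.TameBlock.OmegaSum

/-!
# The exceptional shape does not occur

With `z` central the exceptional shape of the even class forces degrees `α, α, α, 2α, 3α` on the
rows of sign one, and an integral central element then gives `11 |G| / (192 α)` as a local integer,
which it is not.
-/

set_option autoImplicit false
set_option linter.unusedSectionVars false
set_option linter.style.haveILetI false

namespace Cfsg.Agent.TameBlock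

open Cfsg Blocks MonoidAlgebra
open Cfsg.Agent.BrauerPairs (blk blkG conjEl IsMax IsPair regDot regDot_comm)
open Cfsg.Agent.Blocks.NilRank
open Star (ind)
open ZMod (stdAddChar)
open scoped Classical ComplexConjugate

universe u

/-- `ζ^a + ζ^(r a)`. -/
noncomputable def psiR {N : ℕ} [NeZero N] (r : ℕ) (a : ZMod N) : ℂ :=
  stdAddChar a + stdAddChar ((r : ZMod N) * a)

variable {G : Type u} [Group G] [Fintype G] {M : Ideal AlgInt} [M.IsMaximal] [Fact (Nat.Prime 2)]
  [CharP (AlgInt ⧸ M) 2] {B : Set (IrrCharacter G)} {P : Subgroup G}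
  {e : MonoidAlgebra (AlgInt ⧸ M) G} {σ τ : G} {M₀ r : ℕ} [NeZero (2 * M₀)]

namespace Ctx

variable (c : Ctx M B P e σ τ M₀ r)
include c

theorem psiR_symm (a : ZMod (2 * M₀)) : psiR r ((r : ZMod (2 * M₀)) * a) = psiR r a := by
  rw [psiR, psiR, ← mul_assoc, c.data.r_sq, one_mul, add_comm]

theorem r_mul_even {a : ZMod (2 * M₀)} (ha : sgnA a = 1) : (r : ZMod (2 * M₀)) * a = -a := by
  have hD := c.data
  obtain ⟨k, hk⟩ : Even a.val := by
    by_contra h
    rw [sgnA, (Nat.not_even_iff_odd.1 h).neg_one_pow] at ha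
    norm_num at ha
  have hMa : (M₀ : ZMod (2 * M₀)) * a = 0 := by
    rw [← a.natCast_zmod_val, hk]
    push_cast
    linear_combination (k : ZMod (2 * M₀)) * hD.M_double
  rcases hD.r_add_one with ⟨h, -⟩ | ⟨h, -, -⟩
  · linear_combination a * h
  · linear_combination a * h + hMa

theorem psiR_add_M (a : ZMod (2 * M₀)) :
    psiR r (a + (M₀ : ZMod (2 * M₀))) = -psiR r a := by
  have h1 : (stdAddChar (M₀ : ZMod (2 * M₀)) : ℂ) = -1 := stdAddChar_M
  rw [psiR, psiR, mul_add, c.data.r_mul_M, AddChar.map_add_eq_mul, AddChar.map_add_eq_mul, h1]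
  ring

theorem sgnA_add_M (a : ZMod (2 * M₀)) : sgnA (a + (M₀ : ZMod (2 * M₀))) = sgnA a := by
  rw [sgnA_add, c.data.sgnA_M, mul_one]

theorem conj_psiR {a : ZMod (2 * M₀)} (ha : sgnA a = 1) : conj (psiR r a) = psiR r a := by
  rw [psiR, c.r_mul_even ha, map_add (starRingEnd ℂ), conj_stdAddChar, conj_stdAddChar, neg_neg,
    add_comm]

/-- A symmetric function summed over one class. -/
theorem sum_class {A : Type*} [AddCommGroup A] (F : ZMod (2 * M₀) → A)
    (hF : ∀ a, F ((r : ZMod (2 * M₀)) * a) = F a) {s : ℤ} (hs : s = 1 ∨ s = -1) :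
    ∑ a, (if sgnA a = s then F a else 0) =
      (if s = 1 then F 0 + F (M₀ : ZMod (2 * M₀)) else 0) +
        (∑ a ∈ clR M₀ r s, F a + ∑ a ∈ clR M₀ r s, F a) := by
  have hD := c.data
  rw [hD.sum_symm c (fun a => if sgnA a = s then F a else 0) fun a => by
    simp only [hD.sgnA_r_mul, hF]]
  refine congrArg₂ (· + ·) ?_ ?_
  · have h0 : sgnA (0 : ZMod (2 * M₀)) = 1 := by simp [sgnA]
    rw [h0, hD.sgnA_M]
    rcases hs with rfl | rfl <;> simp
  · rw [← Finset.sum_filter]
    rfl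

/-- `ev m 1` of a symmetric vector supported on one class. -/
theorem ev_one {d : ZMod (2 * M₀) → ℤ} (hd : ∀ a, d ((r : ZMod (2 * M₀)) * a) = d a) {s : ℤ}
    (hs : s = 1 ∨ s = -1) :
    ev (fun a => if sgnA a = s then d a else 0) 1 =
      (if s = 1 then (d 0 : ℂ) - d (M₀ : ZMod (2 * M₀)) else 0) +
        ∑ a ∈ clR M₀ r s, (d a : ℂ) * psiR r a := by
  have hD := c.data
  set f : ZMod (2 * M₀) → ℤ := fun a => if sgnA a = s then d a else 0 with hf
  have e1 : ev f (r : ZMod (2 * M₀)) = ev f 1 := by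
    conv_lhs => rw [← mul_one (r : ZMod (2 * M₀))]
    rw [ev_mul hD.r_sq]
    simp only [hf, hd, hD.sgnA_r_mul]
  have e2 : ev f 1 + ev f (r : ZMod (2 * M₀)) =
      ∑ a, (if sgnA a = s then (d a : ℂ) * psiR r a else 0) := by
    rw [ev, ev, ← Finset.sum_add_distrib]
    refine Finset.sum_congr rfl fun a _ => ?_
    simp only [hf]
    split_ifs with h
    · rw [psiR, mul_one, mul_comm a (r : ZMod (2 * M₀))]
      ring
    · simp
  rw [e1, c.sum_class _ (fun a => by rw [hd, c.psiR_symm]) hs] at e2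
  have h0 : psiR r (0 : ZMod (2 * M₀)) = 2 := by
    rw [psiR, mul_zero, AddChar.map_zero_eq_one]
    norm_num
  have hM : psiR r (M₀ : ZMod (2 * M₀)) = -2 := by
    rw [← zero_add (M₀ : ZMod (2 * M₀)), c.psiR_add_M, h0]
  rw [h0, hM] at e2
  rcases hs with rfl | rfl
  · rw [if_pos rfl] at e2 ⊢
    linear_combination e2 / 2
  · rw [if_neg (by norm_num)] at e2 ⊢
    linear_combination e2 / 2

/-- The power sums of `ζ^a + ζ^(-a)` over the even class. -/
theorem psi_sums (h8 : M₀ = 8) :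
    (∑ a ∈ clR M₀ r 1, psiR r a = 0) ∧ (∑ a ∈ clR M₀ r 1, psiR r a ^ 2 = 4) ∧
      ∑ a ∈ clR M₀ r 1, psiR r a ^ 3 = 0 := by
  have hD := c.data
  have hshift : ∀ n : ℕ, Odd n →
      ∑ a : ZMod (2 * M₀), (if sgnA a = 1 then psiR r a ^ n else 0) = 0 := by
    intro n hn
    have h := Fintype.sum_equiv (Equiv.addRight (M₀ : ZMod (2 * M₀)))
      (fun a => if sgnA (a + (M₀ : ZMod (2 * M₀))) = 1 then psiR r (a + (M₀ : ZMod (2 * M₀))) ^ n
        else 0) (fun a => if sgnA a = 1 then psiR r a ^ n else 0) fun a => rfl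
    simp only [c.sgnA_add_M, c.psiR_add_M, hn.neg_pow] at h
    have h2 : ∑ a : ZMod (2 * M₀), (if sgnA a = 1 then -psiR r a ^ n else 0) =
        -∑ a : ZMod (2 * M₀), (if sgnA a = 1 then psiR r a ^ n else 0) := by
      rw [← Finset.sum_neg_distrib]
      exact Finset.sum_congr rfl fun a _ => by split_ifs <;> simp
    rw [h2] at h
    linear_combination -h / 2
  have hodd : ∀ n : ℕ, Odd n → ∑ a ∈ clR M₀ r 1, psiR r a ^ n = 0 := by
    intro n hn
    have h := hshift n hn
    rw [c.sum_class _ (fun a => by rw [c.psiR_symm]) (Or.inl rfl), if_pos rfl] at h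
    have h0 : psiR r (M₀ : ZMod (2 * M₀)) ^ n = -(psiR r (0 : ZMod (2 * M₀)) ^ n) := by
      rw [← zero_add (M₀ : ZMod (2 * M₀)), c.psiR_add_M, hn.neg_pow]
    rw [h0] at h
    linear_combination h / 2
  refine ⟨by simpa using hodd 1 odd_one, ?_, hodd 3 (by decide)⟩
  -- the squares
  have hsq : ∀ a : ZMod (2 * M₀), sgnA a = 1 → psiR r a ^ 2 = 2 + psiR r (a + a) := by
    intro a ha
    have hr := c.r_mul_even ha
    rw [psiR, psiR, mul_add, hr, pow_two]
    have h1 : (stdAddChar a : ℂ) * stdAddChar (-a) = 1 := by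
      rw [← AddChar.map_add_eq_mul, add_neg_cancel, AddChar.map_zero_eq_one]
    rw [AddChar.map_add_eq_mul _ a a, AddChar.map_add_eq_mul _ (-a) (-a)]
    linear_combination 2 * h1
  have hz : ∑ a : ZMod (2 * M₀), (if sgnA a = 1 then psiR r (a + a) else 0) = 0 := by
    have h0 : ∀ t : ZMod (2 * M₀), t ≠ 0 → t ≠ (M₀ : ZMod (2 * M₀)) →
        ∑ a : ZMod (2 * M₀), (if sgnA a = 1 then (stdAddChar (a * t) : ℂ) else 0) = 0 := by
      intro t ht htM
      have h := ev_class_const 1 (Or.inl rfl) (mem_gens.2 ⟨ht, htM⟩)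
      rw [ev] at h
      exact (Finset.sum_congr rfl fun a _ => by split_ifs <;> simp).trans h
    have h2 : (2 : ZMod (2 * M₀)) ≠ 0 ∧ (2 : ZMod (2 * M₀)) ≠ (M₀ : ZMod (2 * M₀)) := by
      subst h8
      decide
    have hne : -(2 : ZMod (2 * M₀)) ≠ 0 ∧ -(2 : ZMod (2 * M₀)) ≠ (M₀ : ZMod (2 * M₀)) := by
      subst h8
      decide
    rw [Finset.sum_congr rfl fun (a : ZMod (2 * M₀)) (_ : a ∈ Finset.univ) =>
        show (if sgnA a = 1 then psiR r (a + a) else 0) =
        (if sgnA a = 1 then (stdAddChar (a * 2) : ℂ) else 0) +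
          (if sgnA a = 1 then (stdAddChar (a * -2) : ℂ) else 0) by
      split_ifs with h
      · rw [psiR, show (r : ZMod (2 * M₀)) * (a + a) = a * -2 by
          rw [mul_add, c.r_mul_even h]; ring, show a + a = a * 2 by ring]
      · simp, Finset.sum_add_distrib, h0 2 h2.1 h2.2, h0 (-2) hne.1 hne.2, add_zero]
  rw [c.sum_class _ (fun a => by rw [← mul_add, c.psiR_symm]) (Or.inl rfl), if_pos rfl] at hz
  have h00 : psiR r ((0 : ZMod (2 * M₀)) + 0) = 2 := by
    rw [add_zero, psiR, mul_zero, AddChar.map_zero_eq_one]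
    norm_num
  have hMM : psiR r ((M₀ : ZMod (2 * M₀)) + (M₀ : ZMod (2 * M₀))) = 2 := by
    rw [hD.M_double, ← add_zero (0 : ZMod (2 * M₀)), h00]
  rw [h00, hMM] at hz
  rw [Finset.sum_congr rfl fun a ha => hsq a (mem_clR.1 ha).2, Finset.sum_add_distrib,
    Finset.sum_const, nsmul_eq_mul]
  have hcard : (clR M₀ r 1).card = 3 := by have := c.card_clR; omega
  rw [hcard]
  push_cast
  linear_combination hz / 2

theorem exists_psi_zero (h8 : M₀ = 8) : ∃ a ∈ clR M₀ r 1, psiR r a = 0 := by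
  have hD := c.data
  obtain ⟨hh0, hhM⟩ := hD.half_ne
  set h : ZMod (2 * M₀) := ((M₀ / 2 : ℕ) : ZMod (2 * M₀)) with hh
  have hs : sgnA h = 1 := by
    subst h8
    rw [hh]
    decide
  have hz : psiR r h = 0 := by
    rw [psiR, hD.r_mul_half, show -h = h + (M₀ : ZMod (2 * M₀)) by
      linear_combination -hD.half_add - hD.M_double, AddChar.map_add_eq_mul, stdAddChar_M]
    ring
  by_cases hlt : h.val < ((r : ZMod (2 * M₀)) * h).val
  · exact ⟨h, mem_clR.2 ⟨Finset.mem_filter.2 ⟨mem_gens.2 ⟨hh0, hhM⟩, hlt⟩, hs⟩, hz⟩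
  · refine ⟨(r : ZMod (2 * M₀)) * h, mem_clR.2 ⟨Finset.mem_filter.2
      ⟨(hD.r_mem_gens (mem_gens.2 ⟨hh0, hhM⟩)).1, ?_⟩, (hD.sgnA_r_mul h).trans hs⟩,
      (c.psiR_symm h).trans hz⟩
    rw [← mul_assoc, hD.r_sq, one_mul]
    exact lt_of_le_of_ne (not_lt.1 hlt) fun h' =>
      (hD.r_mem_gens (mem_gens.2 ⟨hh0, hhM⟩)).2 (ZMod.val_injective _ h')

variable {m : IrrCharacter G → ZMod (2 * M₀) → ℤ} {sg : IrrCharacter G → ℤ}
  (hR : RotParam B P e σ M₀ r m sg)
include hR

theorem not_exotic (hcen : σ ^ M₀ ∈ Subgroup.center G) {z₀ z₁ : ZMod (2 * M₀)}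
    (hz : z₀ = 0 ∧ z₁ = (M₀ : ZMod (2 * M₀)) ∨ z₀ = (M₀ : ZMod (2 * M₀)) ∧ z₁ = 0)
    {εe : ℤ} {q : ZMod (2 * M₀) → IrrCharacter G} {rr bb : IrrCharacter G} :
    ¬ Star.Exotic (posRows B sg) (clR M₀ r 1) (fun a x => m x z₀ - m x a)
      (fun a x => m x z₁ - m x a) εe q rr bb := by
  intro hE
  have hD := c.data
  have hpM := c.pM
  have h8 : M₀ = 8 := by have := c.card_clR; have := hE.card; omega
  set R := clR M₀ r 1 with hRdef
  have hcols := c.cols_of_rotParam hR
  have hs0 : sgnA z₀ = 1 ∧ sgnA z₁ = 1 := by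
    have h0 : sgnA (0 : ZMod (2 * M₀)) = 1 := by simp [sgnA]
    rcases hz with ⟨rfl, rfl⟩ | ⟨rfl, rfl⟩
    exacts [⟨h0, hD.sgnA_M⟩, ⟨hD.sgnA_M, h0⟩]
  have hε2 : (εe : ℂ) * εe = 1 := by
    rcases hE.εe_sign with h | h <;> rw [h] <;> norm_num
  have hpos : ∀ {χ}, χ ∈ posRows B sg → χ ∈ bFin B := fun h => posRows_subset h
  have hout : ∀ a b : ZMod (2 * M₀), sgnA a = 1 → sgnA b = 1 → ∀ χ ∈ bFin B,
      χ ∉ posRows B sg → m χ a = m χ b := fun a b ha hb χ hχ hn => by
    rw [hR.out_even χ hχ hn a ha, hR.out_even χ hχ hn b hb]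
  -- degrees
  set dg : IrrCharacter G → ℤ := fun χ => (Char.degree χ : ℤ) with hdg
  have hd1 : ∀ a ∈ R, ∑ l ∈ R, dg (q l) - dg (q a) - dg rr = 0 ∧ dg bb - dg (q a) - dg rr = 0 := by
    intro a ha
    have hsa := (mem_clR.1 ha).2
    have hεz : εe ≠ 0 := by rcases hE.εe_sign with h | h <;> omega
    constructor
    · have h := hcols.deg_sub (hs0.1.trans hsa.symm) (posRows B sg) posRows_subset
        (hout _ _ hs0.1 hsa)
      rw [Finset.sum_congr rfl fun χ hχ => by
        rw [hE.eqX a ha χ hχ, mul_left_comm, mul_sub (Char.degree χ : ℤ), mul_sub (Char.degree χ : ℤ),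
          Finset.mul_sum], ← Finset.mul_sum,
        Finset.sum_sub_distrib, Finset.sum_sub_distrib, Finset.sum_comm,
        Finset.sum_congr rfl fun l hl => Star.sum_mul_ind (hE.e_mem l hl) dg,
        Star.sum_mul_ind (hE.e_mem a ha) dg, Star.sum_mul_ind hE.r_mem dg] at h
      exact (mul_eq_zero.1 h).resolve_left hεz
    · have h := hcols.deg_sub (hs0.2.trans hsa.symm) (posRows B sg) posRows_subset
        (hout _ _ hs0.2 hsa)
      rw [Finset.sum_congr rfl fun χ hχ => by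
        rw [hE.eqY a ha χ hχ, mul_left_comm, mul_sub (Char.degree χ : ℤ), mul_sub (Char.degree χ : ℤ)],
        ← Finset.mul_sum,
        Finset.sum_sub_distrib, Finset.sum_sub_distrib,
        Star.sum_mul_ind hE.b_mem dg, Star.sum_mul_ind (hE.e_mem a ha) dg,
        Star.sum_mul_ind hE.r_mem dg] at h
      exact (mul_eq_zero.1 h).resolve_left hεz
  obtain ⟨a₀, ha₀, hψ0⟩ := c.exists_psi_zero h8
  set α := dg (q a₀) with hα
  have hdq : ∀ a ∈ R, dg (q a) = α := fun a ha => by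
    have := (hd1 a ha).1
    have := (hd1 a₀ ha₀).1
    linarith
  have hdr : dg rr = 2 * α := by
    have h := (hd1 a₀ ha₀).1
    rw [Finset.sum_congr rfl hdq, Finset.sum_const, hE.card] at h
    simp at h
    linarith
  have hdb : dg bb = 3 * α := by
    have := (hd1 a₀ ha₀).2
    linarith
  -- the values of the positive rows
  have hcl : ∀ a ∈ R, sgnA a = 1 := fun a ha => (mem_clR.1 ha).2
  have hfv : ∀ χ ∈ posRows B sg, ev (m χ) 1 =
      (εe : ℂ) * (if z₀ = 0 then 1 else -1) * (∑ l ∈ R, ((ind (q l) χ : ℤ) : ℂ) - (ind bb χ : ℤ)) +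
        (εe : ℂ) * ∑ a ∈ R, ((ind (q a) χ : ℤ) : ℂ) * psiR r a := by
    intro χ hχ
    set β : ℤ := m χ z₀ - εe * (∑ l ∈ R, ind (q l) χ - ind rr χ) with hβ
    have hg : (1 : ZMod (2 * M₀)) ∈ gens M₀ := mem_gens.2 ⟨by subst h8; decide, by subst h8; decide⟩
    have e0 : m χ z₀ - β = εe * (∑ l ∈ R, ind (q l) χ - ind rr χ) := by rw [hβ]; ring
    have ea : ∀ a ∈ R, m χ a - β = εe * ind (q a) χ := fun a ha => by
      have := hE.eqX a ha χ hχ
      rw [hβ]
      linear_combination -this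
    have e1 : m χ z₁ - β = εe * (ind bb χ - ind rr χ) := by
      have := hE.eqX a₀ ha₀ χ hχ
      have := hE.eqY a₀ ha₀ χ hχ
      rw [hβ]
      linarith
    rw [hR.ev_sub_const hχ β hg, c.ev_one (d := fun a => m χ a - β)
      (fun a => by simp only [hR.symm χ a]) (Or.inl rfl), if_pos rfl, Finset.mul_sum,
      Finset.sum_congr (rfl : clR M₀ r 1 = R) fun a ha => show ((m χ a - β : ℤ) : ℂ) * psiR r a =
        (εe : ℂ) * (((ind (q a) χ : ℤ) : ℂ) * psiR r a) by
          rw [ea a ha]; push_cast; ring]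
    refine congrArg₂ (· + ·) ?_ rfl
    rcases hz with ⟨h0, h1⟩ | ⟨h0, h1⟩
    · rw [if_pos h0, ← h0, ← h1, e0, e1]
      push_cast
      ring
    · rw [if_neg (h0 ▸ hD.M_ne_zero), ← h0, ← h1, e0, e1]
      push_cast
      ring
  set κ : ℂ := if z₀ = 0 then 1 else -1 with hκ
  have hκ2 : κ * κ = 1 := by rw [hκ]; split_ifs <;> norm_num
  have hκc : conj κ = κ := by rw [hκ]; split_ifs <;> simp
  have hfq : ∀ a ∈ R, ev (m (q a)) 1 = (εe : ℂ) * (κ + psiR r a) := fun a ha => by
    rw [hfv _ (hE.e_mem a ha), Finset.sum_eq_single_of_mem a ha,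
      Finset.sum_eq_single_of_mem a ha]
    · simp [Star.ind_ne (fun h : q a = bb => hE.disjb a ha h.symm)]
      ring
    · intro l hl hla
      rw [Star.ind_ne (fun h : q a = q l => hla (hE.inj hl ha h.symm))]
      simp
    · intro l hl hla
      rw [Star.ind_ne (fun h : q a = q l => hla (hE.inj hl ha h.symm))]
      simp
  have hfb : ev (m bb) 1 = -((εe : ℂ) * κ) := by
    rw [hfv _ hE.b_mem]
    have hzero : ∀ l ∈ R, ind (q l) bb = 0 := fun l hl => Star.ind_ne (hE.disjb l hl)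
    rw [Finset.sum_eq_zero fun l hl => by rw [hzero l hl]; simp,
      Finset.sum_eq_zero fun l hl => by rw [hzero l hl]; simp]
    simp
  have hf0 : ∀ χ ∈ posRows B sg, (∀ a ∈ R, χ ≠ q a) → χ ≠ bb → ev (m χ) 1 = 0 := by
    intro χ hχ h1 h2
    rw [hfv χ hχ, Finset.sum_eq_zero fun l hl => by rw [Star.ind_ne (h1 l hl)]; simp,
      Finset.sum_eq_zero fun l hl => by rw [Star.ind_ne (h1 l hl)]; simp, Star.ind_ne h2]
    simp
  -- the rows of height zero
  set T := insert bb (R.image q) with hT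
  have hbnot : bb ∉ R.image q := fun h => by
    obtain ⟨a, ha, hab⟩ := Finset.mem_image.1 h
    exact hE.disjb a ha hab.symm
  have hTcard : T.card = 4 := by
    rw [hT, Finset.card_insert_of_notMem hbnot, Finset.card_image_of_injOn hE.inj, hE.card]
  have hhzT : hzFin B ⊆ T := by
    intro χ hχ
    have hp := c.hz_pos hR hχ
    have hodd := c.hz_odd hR hχ
    have h1 := hE.eqX a₀ ha₀ χ hp
    have h2 := hE.eqY a₀ ha₀ χ hp
    by_contra hn
    have hb : ind bb χ = 0 := Star.ind_ne fun h => hn (by rw [h, hT]; exact Finset.mem_insert_self _ _)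
    have hq : ∀ a ∈ R, ind (q a) χ = 0 := fun a ha => Star.ind_ne fun h =>
      hn (by rw [h, hT]; exact Finset.mem_insert_of_mem (Finset.mem_image_of_mem q ha))
    rw [hb, hq a₀ ha₀] at h2
    rw [Finset.sum_eq_zero hq, hq a₀ ha₀] at h1
    obtain ⟨k, hk⟩ := hodd
    rcases hz with ⟨h, h'⟩ | ⟨h, h'⟩ <;> rw [h] at h1 <;> rw [h'] at h2 <;> omega
  have hhz : hzFin B = T := by
    refine Finset.eq_of_subset_of_card_le hhzT ?_
    rw [hTcard]
    obtain ⟨h4, hne⟩ := four_dvd_card_hzFin hpM c.block c.two_le_blockDefect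
    exact Nat.le_of_dvd (Nat.pos_of_ne_zero hne) h4
  -- the negative rows cancel
  obtain ⟨εo, p, hP⟩ := hcols.oddPat c
    (S := (bFin B).filter fun χ => sg χ = -1) (Finset.filter_subset _ _) (by omega)
    (fun χ hχ hn a ha => by
      rcases hR.sg_eq χ with h | h
      · exact hR.pos_odd_zero (mem_posRows.2 ⟨mem_bFin.1 hχ, h⟩) ha
      · exact absurd (Finset.mem_filter.2 ⟨hχ, h⟩) hn)
  set Ro := clR M₀ r (-1) with hRo
  obtain ⟨l₀, hl₀⟩ : Ro.Nonempty := by
    rw [← Finset.card_pos]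
    have h := c.card_clR
    rw [← hRo] at h
    omega
  have hdp : ∀ l ∈ Ro, dg (p l) = dg (p l₀) := by
    intro l hl
    have h := hcols.deg_sub ((mem_clR.1 hl).2.trans (mem_clR.1 hl₀).2.symm)
      ((bFin B).filter fun χ => sg χ = -1) (Finset.filter_subset _ _) (fun χ hχ hn => by
        rcases hR.sg_eq χ with h | h
        · rw [hR.pos_odd_zero (mem_posRows.2 ⟨mem_bFin.1 hχ, h⟩) (mem_clR.1 hl).2,
            hR.pos_odd_zero (mem_posRows.2 ⟨mem_bFin.1 hχ, h⟩) (mem_clR.1 hl₀).2]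
        · exact absurd (Finset.mem_filter.2 ⟨hχ, h⟩) hn)
    rw [Finset.sum_congr rfl fun χ hχ => by
      rw [hP.diff l hl l₀ hl₀ χ hχ, mul_left_comm, mul_sub], ← Finset.mul_sum,
      Finset.sum_sub_distrib, Star.sum_mul_ind (hP.p_mem l hl) dg,
      Star.sum_mul_ind (hP.p_mem l₀ hl₀) dg] at h
    have := (mul_eq_zero.1 h).resolve_left (by rcases hP.εo_sign with h | h <;> omega)
    linarith
  have hfn : ∀ χ ∈ bFin B, sg χ = -1 →
      ev (m χ) 1 = (εo : ℂ) * ∑ l ∈ Ro, ((ind (p l) χ : ℤ) : ℂ) * psiR r l := by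
    intro χ hχ hsχ
    have hmem : χ ∈ (bFin B).filter fun χ => sg χ = -1 := Finset.mem_filter.2 ⟨hχ, hsχ⟩
    set β : ℤ := m χ l₀ - εo * ind (p l₀) χ with hβ
    have hg : (1 : ZMod (2 * M₀)) ∈ gens M₀ := mem_gens.2 ⟨by subst h8; decide, by subst h8; decide⟩
    have hev : ev (m χ) 1 = ev (fun a => if sgnA a = -1 then m χ a - β else 0) 1 := by
      rw [← add_zero (ev (fun a => if sgnA a = -1 then m χ a - β else 0) 1),
        ← ev_class_const β (Or.inr rfl) hg, ev, ev, ev, ← Finset.sum_add_distrib]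
      refine Finset.sum_congr rfl fun a _ => ?_
      rcases sgnA_eq a with h | h
      · simp [h, hR.neg_even_zero hsχ h]
      · simp [h]
        ring
    rw [hev, c.ev_one (d := fun a => m χ a - β) (fun a => by simp only [hR.symm χ a]) (Or.inr rfl),
      if_neg (by norm_num), zero_add, Finset.mul_sum]
    refine Finset.sum_congr rfl fun a ha => ?_
    rw [show m χ a - β = εo * ind (p a) χ by
      rw [hβ]; linear_combination hP.diff a ha l₀ hl₀ χ hmem]
    push_cast
    ring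
  set Φ : IrrCharacter G → ℂ := fun χ => ev (m χ) 1 ^ 2 * conj (ev (m χ) 1) / χ.1 1 with hΦ
  have hneg : ∑ χ ∈ (bFin B).filter (fun χ => sg χ = -1), Φ χ = 0 := by
    have h1 : ∑ χ ∈ (bFin B).filter (fun χ => sg χ = -1), Φ χ = ∑ l ∈ Ro, Φ (p l) := by
      rw [← Finset.sum_image hP.inj]
      refine (Finset.sum_subset (fun χ hχ => ?_) fun χ hχ hn => ?_).symm
      · obtain ⟨l, hl, rfl⟩ := Finset.mem_image.1 hχ
        exact hP.p_mem l hl
      · obtain ⟨hχB, hsχ⟩ := Finset.mem_filter.1 hχ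
        have h0 : ev (m χ) 1 = 0 := by
          rw [hfn χ hχB hsχ, Finset.sum_eq_zero fun l hl => by
            rw [Star.ind_ne fun h => hn (by rw [h]; exact Finset.mem_image_of_mem p hl)]; simp, mul_zero]
        simp [hΦ, h0]
    have h2 : ∀ l ∈ Ro, Φ (p l) =
        (εo : ℂ) ^ 3 / (dg (p l₀) : ℂ) * (psiR r l ^ 2 * conj (psiR r l)) := by
      intro l hl
      obtain ⟨hB', hs'⟩ := Finset.mem_filter.1 (hP.p_mem l hl)
      have hv : ev (m (p l)) 1 = (εo : ℂ) * psiR r l := by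
        rw [hfn _ hB' hs', Finset.sum_eq_single_of_mem l hl fun l' hl' hne => by
          rw [Star.ind_ne fun h => hne (hP.inj hl' hl h.symm)]; simp]
        simp
      simp only [hΦ, hv, map_mul (starRingEnd ℂ), map_intCast, Char.apply_one_eq_degree]
      rw [show ((Char.degree (p l) : ℕ) : ℂ) = (dg (p l₀) : ℂ) by
        rw [← hdp l hl, hdg]; push_cast; rfl]
      ring
    rw [h1, Finset.sum_congr rfl h2, ← Finset.mul_sum]
    refine mul_eq_zero_of_right _ ?_
    have h3 := c.sum_class (fun a => psiR r a ^ 2 * conj (psiR r a))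
      (fun a => by rw [c.psiR_symm]) (Or.inr rfl)
    rw [if_neg (by norm_num), zero_add, ← hRo] at h3
    have h4 : ∑ a : ZMod (2 * M₀),
        (if sgnA a = -1 then psiR r a ^ 2 * conj (psiR r a) else 0) = 0 := by
      have h := Fintype.sum_equiv (Equiv.addRight (M₀ : ZMod (2 * M₀)))
        (fun a => if sgnA (a + (M₀ : ZMod (2 * M₀))) = -1 then
          psiR r (a + (M₀ : ZMod (2 * M₀))) ^ 2 * conj (psiR r (a + (M₀ : ZMod (2 * M₀)))) else 0)
        (fun a => if sgnA a = -1 then psiR r a ^ 2 * conj (psiR r a) else 0) fun a => rfl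
      simp only [c.sgnA_add_M, c.psiR_add_M, neg_sq, map_neg, mul_neg] at h
      have h' : ∑ a : ZMod (2 * M₀),
          (if sgnA a = -1 then -(psiR r a ^ 2 * conj (psiR r a)) else 0) =
          -∑ a : ZMod (2 * M₀), (if sgnA a = -1 then psiR r a ^ 2 * conj (psiR r a) else 0) := by
        rw [← Finset.sum_neg_distrib]
        exact Finset.sum_congr rfl fun a _ => by split_ifs <;> simp
      rw [h'] at h
      linear_combination -h / 2
    rw [h4] at h3
    linear_combination -h3 / 2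
  have hα0 : (α : ℂ) ≠ 0 := by
    rw [hα, hdg]
    simp only [Int.cast_natCast]
    exact Nat.cast_ne_zero.2 (Char.degree_pos (q a₀)).ne'
  have hTsub : T ⊆ posRows B sg := fun χ hχ => c.hz_pos hR (hhz ▸ hχ)
  have hposSum : ∑ χ ∈ posRows B sg, Φ χ = (εe : ℂ) * κ * 44 / (3 * α) := by
    rw [← Finset.sum_subset hTsub fun χ hχ hn => by
      have h0 := hf0 χ hχ (fun a ha h => hn (by
          rw [h, hT]; exact Finset.mem_insert_of_mem (Finset.mem_image_of_mem q ha)))
        (fun h => hn (by rw [h, hT]; exact Finset.mem_insert_self _ _))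
      simp [hΦ, h0],
      hT, Finset.sum_insert hbnot, Finset.sum_image hE.inj]
    obtain ⟨s1, s2, s3⟩ := c.psi_sums h8
    have hqv : ∀ a ∈ R, Φ (q a) = ((εe : ℂ) / α) *
        (κ + 3 * psiR r a + 3 * κ * psiR r a ^ 2 + psiR r a ^ 3) := by
      intro a ha
      have hdeg : ((Char.degree (q a) : ℕ) : ℂ) = (α : ℂ) := by
        rw [← hdq a ha, hdg]; push_cast; rfl
      simp only [hΦ, hfq a ha, map_mul (starRingEnd ℂ), map_add (starRingEnd ℂ), map_intCast, hκc,
        c.conj_psiR (hcl a ha), Char.apply_one_eq_degree, hdeg]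
      field_simp
      linear_combination ((εe : ℂ) * (κ + psiR r a) ^ 3) * hε2 +
        ((εe : ℂ) * κ + 3 * εe * psiR r a) * hκ2
    have hbv : Φ bb = -((εe : ℂ) * κ) / (3 * α) := by
      have hdeg : ((Char.degree bb : ℕ) : ℂ) = 3 * (α : ℂ) := by
        have : ((dg bb : ℤ) : ℂ) = ((3 * α : ℤ) : ℂ) := by rw [hdb]
        simpa [hdg] using this
      simp only [hΦ, hfb, map_neg, map_mul (starRingEnd ℂ), map_intCast, hκc,
        Char.apply_one_eq_degree, hdeg]
      field_simp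
      linear_combination -((εe : ℂ) * κ * (κ * κ)) * hε2 - ((εe : ℂ) * κ) * hκ2
    rw [hbv, Finset.sum_congr rfl hqv, ← Finset.mul_sum, Finset.sum_add_distrib,
      Finset.sum_add_distrib, Finset.sum_add_distrib, ← Finset.mul_sum, ← Finset.mul_sum, s1, s2,
      s3, Finset.sum_const, hE.card]
    simp only [nsmul_eq_mul]
    push_cast
    field_simp
    ring
  -- the central element
  obtain ⟨h10, h1M⟩ := mem_gens.1 (show (1 : ZMod (2 * M₀)) ∈ gens M₀ from
    mem_gens.2 ⟨by subst h8; decide, by subst h8; decide⟩)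
  set x := rot σ (1 : ZMod (2 * M₀)) with hx
  obtain ⟨j, hj⟩ := exists_orderOf_mem c.isMax.1.1.1 (hD.rot_mem (1 : ZMod (2 * M₀)))
  obtain ⟨-, hdef, -⟩ := c.exists_nested_rot h10 h1M
  have hind := isInducedBlock_eU hpM c.block c.isMax.1 (hD.rot_mem (1 : ZMod (2 * M₀)))
  obtain ⟨Z, hZc, hZS, hZ⟩ := exists_contribution_elt hpM hj hind.1 (q a₀)
  have hmain := memLocalRing_omega_contribution hpM hj hind (q a₀)
    (IsCentralElt.mul hZc hZc) (SCoeff.mul hZS hZS)
  have hN : ((2 * M₀ : ℕ) : ℂ) = 16 := by rw [h8]; norm_num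
  have hG0 : (Nat.card G : ℂ) ≠ 0 := Nat.cast_ne_zero.2 Nat.card_pos.ne'
  have hcψ : conj (ev (m (q a₀)) 1) = (εe : ℂ) * κ := by
    rw [hfq a₀ ha₀, hψ0, add_zero, map_mul (starRingEnd ℂ), map_intCast, hκc]
  have hterm : ∀ χ ∈ Finset.univ.filter (· ∈ B),
      χ.1 1 * omega χ.1 (Z * Z) * conj (contribution 2
        (blkSet M (Subgroup.centralizer ({x} : Set G)) (eU 2 P e x)) χ.1 (q a₀).1) =
        ((Nat.card G : ℂ) ^ 2 * ((εe : ℂ) * κ) / 4096) * Φ χ := by
    intro χ _
    have hc : contribution 2 (blkSet M (Subgroup.centralizer ({x} : Set G)) (eU 2 P e x))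
        χ.1 (q a₀).1 = ev (m χ) 1 * ((εe : ℂ) * κ) / 16 := by
      rw [← mU_eq_contribution, ← hN, ← hcψ, ← hR.sect 1 h10 h1M,
        mul_div_cancel_left₀ _ (Nat.cast_ne_zero.2 (NeZero.ne (2 * M₀)))]
    rw [omega_mul χ hZc, hZ, hc, hΦ]
    simp only [map_div₀, map_mul (starRingEnd ℂ), map_intCast, hκc, map_ofNat]
    have := irr_one_ne_zero χ
    field_simp
    linear_combination (εe * κ * 4096 * ev (m χ) 1 ^ 2 * conj (ev (m χ) 1) : ℂ) * (κ * κ * hε2 + hκ2)
  have hsplitB : ∑ χ ∈ Finset.univ.filter (· ∈ B), Φ χ = (εe : ℂ) * κ * 44 / (3 * α) := by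
    rw [show Finset.univ.filter (· ∈ B) = bFin B from rfl,
      ← Finset.sum_filter_add_sum_filter_not (bFin B) (fun χ => sg χ = 1),
      show (bFin B).filter (fun χ => ¬ sg χ = 1) = (bFin B).filter (fun χ => sg χ = -1) from
        Finset.filter_congr fun χ _ => ⟨fun h => (hR.sg_eq χ).resolve_left h,
          fun h h' => by rw [h] at h'; norm_num at h'⟩,
      hneg, add_zero]
    exact hposSum
  rw [Finset.sum_congr rfl hterm, ← Finset.mul_sum, hsplitB, hdef, hN] at hmain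
  have hval : (16 : ℂ) / (Nat.card G : ℂ) *
      (((Nat.card G : ℂ) ^ 2 * ((εe : ℂ) * κ) / 4096) * ((εe : ℂ) * κ * 44 / (3 * α))) =
      ((11 * Nat.card G : ℕ) : ℂ) / ((192 * Char.degree (q a₀) : ℕ) : ℂ) := by
    have hα' : (α : ℂ) = (Char.degree (q a₀) : ℂ) := by rw [hα, hdg]; push_cast; rfl
    have hd0 : (Char.degree (q a₀) : ℂ) ≠ 0 := Nat.cast_ne_zero.2 (Char.degree_pos _).ne'
    rw [hα']
    push_cast
    field_simp
    linear_combination (44 * 192 * 16 : ℂ) * (κ * κ * hε2 + hκ2)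
  rw [hval] at hmain
  rw [memLocalRing_natCast_div_iff hpM
    (mul_ne_zero (by norm_num) Nat.card_pos.ne')
    (mul_ne_zero (by norm_num) (Char.degree_pos _).ne')] at hmain
  have hva : (Char.degree (q a₀)).factorization 2 + 5 = (Nat.card G).factorization 2 := by
    have hmem : q a₀ ∈ hzFin B := by
      rw [hhz, hT]
      exact Finset.mem_insert_of_mem (Finset.mem_image_of_mem q ha₀)
    obtain ⟨hqB, hq0⟩ := mem_hzFin.1 hmem
    have h5 : blockDefect 2 B = 5 := Nat.pow_right_injective le_rfl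
      (show 2 ^ blockDefect 2 B = 2 ^ 5 by rw [c.pow_blockDefect, h8])
    have hv := Char.factorization_degree_of_height_zero hqB hq0
    rw [blockDefect, ← hv] at h5
    omega
  have e192 : (192 : ℕ).factorization 2 = 6 := by
    rw [show (192 : ℕ) = 2 ^ 6 * 3 by norm_num, Nat.factorization_mul (by norm_num) (by norm_num),
      Nat.Prime.factorization_pow Nat.prime_two]
    simp [Nat.factorization_eq_zero_of_not_dvd]
  have e11 : (11 : ℕ).factorization 2 = 0 :=
    Nat.factorization_eq_zero_of_not_dvd (by norm_num)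
  rw [Nat.factorization_mul (by norm_num) (Char.degree_pos _).ne',
    Nat.factorization_mul (by norm_num) Nat.card_pos.ne', Finsupp.coe_add, Finsupp.coe_add,
    Pi.add_apply, Pi.add_apply, e192, e11] at hmain
  omega

/-- The even class has the generic shape. -/
theorem exists_pat (hcen : σ ^ M₀ ∈ Subgroup.center G) :
    ∃ εe q ee s, Pat (posRows B sg) M₀ r m εe ee q s := by
  rcases (c.cols_of_rotParam hR).evenPat c posRows_subset hR.out_even with
    ⟨εe, ee, q, s, h⟩ | ⟨εe, ee, q₁, q₂, h | h⟩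
  · exact ⟨εe, q, ee, s, h⟩
  · exact absurd h (c.not_exotic hR hcen (Or.inl ⟨rfl, rfl⟩))
  · exact absurd h (c.not_exotic hR hcen (Or.inr ⟨rfl, rfl⟩))

end Ctx

end Cfsg.Agent.TameBlock
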