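import Cfsg.Agent.Lib.TameBlock.HExotic

/-!
# The rows of sign one

With `z` central the rows of sign one are `q 0, …, q 3` (height zero) and the `M₀/2 - 1` rows `e a`;
`4 M₀ ⟨x°, y⟩` on them is given by integral vectors `W`, `V₀`, `V₁`.
-/

set_option autoImplicit false
set_option linter.unusedSectionVars false
set_option linter.style.haveILetI false

namespace Cfsg.Agent.TameBlock

open Cfsg Blocks MonoidAlgebra
open Cfsg.Agent.BrauerPairs (blk blkG conjEl IsMax IsPair regDot regDot_comm)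
open Cfsg.Agent.Blocks.NilRank
open Star (ind)
open scoped Classical ComplexConjugate

universe u

theorem exists_pairing : ∀ x y : Fin 4 → Bool,
    (Finset.univ.filter fun k => x k = true).card = 2 →
    (Finset.univ.filter fun k => y k = true).card = 2 →
    (y = x ∨ (Finset.univ.filter fun k => x k = y k).card = 2) →
    ∃ π ∈ ({1, Equiv.swap 1 2, Equiv.swap 1 3} : Finset (Equiv.Perm (Fin 4))),
      x (π 0) ≠ x (π 1) ∧ x (π 2) ≠ x (π 3) ∧ y (π 0) ≠ y (π 1) ∧ y (π 2) ≠ y (π 3) := by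
  decide

/-- Two orthogonal balanced sign vectors split the four places into two pairs. -/
theorem exists_pairing_int (x y : Fin 4 → ℤ) (hx : ∀ k, x k = 1 ∨ x k = -1)
    (hy : ∀ k, y k = 1 ∨ y k = -1) (hx0 : ∑ k, x k = 0) (hy0 : ∑ k, y k = 0)
    (h : y = x ∨ ∑ k, x k * y k = 0) :
    ∃ π : Equiv.Perm (Fin 4), x (π 0) + x (π 1) = 0 ∧ x (π 2) + x (π 3) = 0 ∧
      y (π 0) + y (π 1) = 0 ∧ y (π 2) + y (π 3) = 0 := by
  have hcnt : ∀ z : Fin 4 → ℤ, (∀ k, z k = 1 ∨ z k = -1) → ∑ k, z k = 0 →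
      (Finset.univ.filter fun k => decide (z k = 1) = true).card = 2 := by
    intro z hz hz0
    rw [Finset.card_filter, Fin.sum_univ_four]
    rw [Fin.sum_univ_four] at hz0
    rcases hz 0 with a | a <;> rcases hz 1 with b | b <;> rcases hz 2 with c | c <;>
      rcases hz 3 with d | d <;> simp [a, b, c, d] at hz0 ⊢
  have hag : y = x ∨
      (Finset.univ.filter fun k => decide (x k = 1) = decide (y k = 1)).card = 2 := by
    refine h.imp_right fun h0 => ?_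
    rw [Finset.card_filter, Fin.sum_univ_four]
    rw [Fin.sum_univ_four] at h0
    rcases hx 0 with a | a <;> rcases hx 1 with b | b <;> rcases hx 2 with c | c <;>
      rcases hx 3 with d | d <;> rcases hy 0 with a' | a' <;> rcases hy 1 with b' | b' <;>
      rcases hy 2 with c' | c' <;> rcases hy 3 with d' | d' <;>
      simp [a, b, c, d, a', b', c', d'] at h0 ⊢
  obtain ⟨π, -, h1, h2, h3, h4⟩ := exists_pairing (fun k => decide (x k = 1))
    (fun k => decide (y k = 1)) (hcnt x hx hx0) (hcnt y hy hy0)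
    (hag.imp_left fun h => by rw [h])
  have key : ∀ z : Fin 4 → ℤ, (∀ k, z k = 1 ∨ z k = -1) → ∀ i j,
      decide (z i = 1) ≠ decide (z j = 1) → z i + z j = 0 := by
    intro z hz i j hne
    rcases hz i with a | a <;> rcases hz j with b | b <;> rw [a, b] at hne ⊢ <;> simp at hne ⊢
  exact ⟨π, key x hx _ _ h1, key x hx _ _ h2, key y hy _ _ h3, key y hy _ _ h4⟩

section Vec

variable {ι : Type*} {M₀ r : ℕ} [NeZero (2 * M₀)]

/-- The vector with value `cE` at every `e a` and `cq k` at `q k`. -/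
noncomputable def vecP (M₀ r : ℕ) [NeZero (2 * M₀)] (e : ZMod (2 * M₀) → ι) (q : Fin 4 → ι)
    (cE : ℤ) (cq : Fin 4 → ℤ) (x : ι) : ℤ :=
  cE * ∑ a ∈ clR M₀ r 1, ind (e a) x + ∑ k, cq k * ind (q k) x

namespace Pat

variable {S : Finset ι} {m : ι → ZMod (2 * M₀) → ℤ} {εe : ℤ} {e : ZMod (2 * M₀) → ι}
  {q : Fin 4 → ι} {s : Fin 4 → ℤ} (h : Pat S M₀ r m εe e q s)
include h

theorem ind_q (k l : Fin 4) : ind (q k) (q l) = if l = k then 1 else 0 := by
  by_cases hkl : l = k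
  · rw [if_pos hkl, hkl, Star.ind_self]
  · rw [if_neg hkl, Star.ind_ne fun hh => hkl (h.q_inj hh)]

theorem ind_q_e (k : Fin 4) {a : ZMod (2 * M₀)} (ha : a ∈ clR M₀ r 1) :
    ind (q k) (e a) = 0 := Star.ind_ne fun hh => h.disj a ha k hh.symm

theorem ind_e_q (k : Fin 4) {a : ZMod (2 * M₀)} (ha : a ∈ clR M₀ r 1) :
    ind (e a) (q k) = 0 := Star.ind_ne (h.disj a ha k)

theorem sum_ind_e {b : ZMod (2 * M₀)} (hb : b ∈ clR M₀ r 1) :
    ∑ a ∈ clR M₀ r 1, ind (e a) (e b) = 1 := by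
  rw [Finset.sum_eq_single_of_mem b hb fun a ha hne =>
    Star.ind_ne fun hh => hne (h.inj ha hb hh.symm), Star.ind_self]

theorem vecP_q (cE : ℤ) (cq : Fin 4 → ℤ) (l : Fin 4) : vecP M₀ r e q cE cq (q l) = cq l := by
  rw [vecP, Finset.sum_eq_zero fun a ha => h.ind_e_q l ha, mul_zero, zero_add]
  simp [h.ind_q]

theorem vecP_e (cE : ℤ) (cq : Fin 4 → ℤ) {b : ZMod (2 * M₀)} (hb : b ∈ clR M₀ r 1) :
    vecP M₀ r e q cE cq (e b) = cE := by
  rw [vecP, h.sum_ind_e hb, Finset.sum_eq_zero fun k _ => by rw [h.ind_q_e k hb, mul_zero]]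
  ring

theorem vecP_supp (cE : ℤ) (cq : Fin 4 → ℤ) {x : ι} (hx : vecP M₀ r e q cE cq x ≠ 0) : x ∈ S := by
  by_contra hS
  refine hx ?_
  rw [vecP, Finset.sum_eq_zero fun a ha => Star.ind_ne fun hh => hS (by rw [hh]; exact h.e_mem a ha),
    Finset.sum_eq_zero fun k _ => by
      rw [Star.ind_ne fun hh => hS (by rw [hh]; exact h.q_mem k), mul_zero]]
  ring

theorem sum_vecP_mul (cE : ℤ) (cq : Fin 4 → ℤ) (f : ι → ℤ) :
    ∑ x ∈ S, vecP M₀ r e q cE cq x * f x = cE * ∑ a ∈ clR M₀ r 1, f (e a) + ∑ k, cq k * f (q k) := by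
  simp only [vecP, add_mul, mul_assoc, Finset.sum_mul, Finset.sum_add_distrib]
  congr 1
  · rw [← Finset.mul_sum, Finset.sum_comm]
    congr 1
    exact Finset.sum_congr rfl fun a ha => Star.sum_ind_mul (h.e_mem a ha) f
  · rw [Finset.sum_comm]
    refine Finset.sum_congr rfl fun k _ => ?_
    rw [← Finset.mul_sum, Star.sum_ind_mul (h.q_mem k) f]

theorem base_zero {x : ι} (hx : x ∈ S) :
    m x 0 - (m x 0 - s 0 * ind (q 0) x - s 1 * ind (q 1) x) =
      vecP M₀ r e q 0 ![s 0, s 1, 0, 0] x := by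
  simp [vecP, Fin.sum_univ_four]
  ring

theorem base_M {x : ι} (hx : x ∈ S) :
    m x (M₀ : ZMod (2 * M₀)) - (m x 0 - s 0 * ind (q 0) x - s 1 * ind (q 1) x) =
      vecP M₀ r e q 0 ![0, 0, s 2, s 3] x := by
  have := h.zero_M x hx
  simp [vecP, Fin.sum_univ_four]
  linarith

theorem base_rep {x : ι} (hx : x ∈ S) {a : ZMod (2 * M₀)} (ha : a ∈ clR M₀ r 1) :
    m x a - (m x 0 - s 0 * ind (q 0) x - s 1 * ind (q 1) x) = εe * ind (e a) x := by
  have := h.zero_rep a ha x hx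
  linarith

theorem perm (hR : clR M₀ r 1 = ∅) (π : Equiv.Perm (Fin 4)) :
    ∃ s', Pat S M₀ r m εe e (q ∘ π) s' ∧
      ∀ k, ![1, 1, -1, -1] k * s' k = ![1, 1, -1, -1] (π k) * s (π k) := by
  set cf : Fin 4 → ℤ := ![1, 1, -1, -1] with hcf
  have hc2 : ∀ k, cf k * cf k = 1 := by intro k; fin_cases k <;> simp [hcf]
  refine ⟨fun k => cf k * (cf (π k) * s (π k)), ⟨h.εe_sign, by simp [hR], by simp [hR],
    h.q_inj.comp π.injective, fun k => h.q_mem _, fun k => ?_, by simp [hR], fun x hx => ?_,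
    by simp [hR]⟩, fun k => by rw [← mul_assoc, hc2, one_mul]⟩
  · have hs := h.s_sign (π k)
    have hk : ∀ j, cf j = 1 ∨ cf j = -1 := by intro j; fin_cases j <;> simp [hcf]
    rcases hk k with a | a <;> rcases hk (π k) with b | b <;> rcases hs with d | d <;>
      simp [a, b, d]
  · have e1 : ∀ (g : Fin 4 → ι) (t : Fin 4 → ℤ),
        t 0 * ind (g 0) x + t 1 * ind (g 1) x - t 2 * ind (g 2) x - t 3 * ind (g 3) x =
          ∑ k, cf k * t k * ind (g k) x := fun g t => by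
      simp [hcf, Fin.sum_univ_four]
      ring
    rw [h.zero_M x hx, e1 q s, e1 (q ∘ π) fun k => cf k * (cf (π k) * s (π k)), ← Equiv.sum_comp π]
    refine Finset.sum_congr rfl fun k _ => ?_
    show cf (π k) * s (π k) * ind (q (π k)) x = _
    rw [← mul_assoc (cf k), hc2, one_mul]
    rfl

end Pat

end Vec

variable {G : Type u} [Group G] [Fintype G] {M : Ideal AlgInt} [M.IsMaximal] [Fact (Nat.Prime 2)]
  [CharP (AlgInt ⧸ M) 2] {B : Set (IrrCharacter G)} {P : Subgroup G}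
  {e : MonoidAlgebra (AlgInt ⧸ M) G} {σ τ : G} {M₀ r : ℕ} [NeZero (2 * M₀)]
  {m : IrrCharacter G → ZMod (2 * M₀) → ℤ} {sg : IrrCharacter G → ℤ}

/-- An integral vector orthogonal to the rotation columns and to the outer subsections. -/
structure Perp (B : Set (IrrCharacter G)) (P : Subgroup G) (e : MonoidAlgebra (AlgInt ⧸ M) G)
    (M₀ : ℕ) [NeZero (2 * M₀)] (m : IrrCharacter G → ZMod (2 * M₀) → ℤ) (sg : IrrCharacter G → ℤ)
    (O : Finset G) (v : IrrCharacter G → ℤ) : Prop where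
  supp : ∀ x, v x ≠ 0 → x ∈ B ∧ sg x = 1
  rot : ∀ i ∈ gens M₀, ∑ x ∈ bFin B, (v x : ℂ) * ev (m x) i = 0
  out : ∀ y ∈ O, ∀ ψ ∈ B, ∑ x ∈ bFin B, (v x : ℂ) * mU 2 P e y x ψ = 0

/-- The rows of sign one. -/
structure PosData (B : Set (IrrCharacter G)) (P : Subgroup G) (e : MonoidAlgebra (AlgInt ⧸ M) G)
    (M₀ : ℕ) [NeZero (2 * M₀)] (m : IrrCharacter G → ZMod (2 * M₀) → ℤ) (sg : IrrCharacter G → ℤ)
    (O : Finset G) (W V₀ V₁ : IrrCharacter G → ℤ) (w : ℤ) : Prop where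
  perpW : Perp B P e M₀ m sg O W
  perp₀ : Perp B P e M₀ m sg O V₀
  perp₁ : Perp B P e M₀ m sg O V₁
  half : O.card ≤ 1 → ∃ H : IrrCharacter G → ℤ, Perp B P e M₀ m sg O H ∧
    ∀ x, 2 * H x = W x + V₀ x + V₁ x
  formula : ∀ x ∈ posRows B sg, ∀ y ∈ posRows B sg,
    ((4 * M₀ : ℕ) : ℂ) * w * regDot 2 x.1 y.1 =
      ((w * W x * W y + M₀ * (V₀ x * V₀ y + V₁ x * V₁ y) : ℤ) : ℂ)
  WW : ∑ x ∈ posRows B sg, W x * W x = 2 * M₀
  WV₀ : ∑ x ∈ posRows B sg, W x * V₀ x = 0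
  WV₁ : ∑ x ∈ posRows B sg, W x * V₁ x = 0
  VV : ∑ x ∈ posRows B sg, V₀ x * V₁ x = 0
  cases : (O.card = 0 ∧ w = 1 ∧ ∑ x ∈ posRows B sg, V₀ x * V₀ x = 2 ∧
        ∑ x ∈ posRows B sg, V₁ x * V₁ x = 2) ∨
      (O.card = 1 ∧ w = 2 ∧ 4 ≤ M₀ ∧ ∑ x ∈ posRows B sg, V₀ x * V₀ x = 4 ∧ ∀ x, V₁ x = 0) ∨
      (O.card = 2 ∧ w = 1 ∧ (∀ x, V₀ x = 0) ∧ ∀ x, V₁ x = 0)
  cong : ∀ x ∈ posRows B sg, (M₀ : ℤ) ∣ W x - ∑ a, m x a
  odd_iff : ∀ x ∈ posRows B sg, Odd (W x) ↔ x ∈ hzFin B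

namespace Ctx

variable (c : Ctx M B P e σ τ M₀ r) (hR : RotParam B P e σ M₀ r m sg)
include c hR

theorem hz_eq_image {εe : ℤ} {ee : ZMod (2 * M₀) → IrrCharacter G} {q : Fin 4 → IrrCharacter G}
    {s : Fin 4 → ℤ} (h : Pat (posRows B sg) M₀ r m εe ee q s) :
    hzFin B = Finset.univ.image q ∧ (hzFin B).card = 4 := by
  have hsub : hzFin B ⊆ Finset.univ.image q := by
    intro χ hχ
    by_contra hn
    have hz := h.zero_M χ (c.hz_pos hR hχ)
    have e0 : ∀ k, ind (q k) χ = 0 := fun k => Star.ind_ne fun hh =>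
      hn (by rw [hh]; exact Finset.mem_image_of_mem q (Finset.mem_univ k))
    simp only [e0, mul_zero, add_zero, sub_zero] at hz
    obtain ⟨k, hk⟩ := c.hz_odd hR hχ
    omega
  have hcard : (Finset.univ.image q).card = 4 := by
    rw [Finset.card_image_of_injective _ h.q_inj, Finset.card_univ, Fintype.card_fin]
  obtain ⟨h4, hne⟩ := four_dvd_card_hzFin c.pM c.block c.two_le_blockDefect
  have heq := Finset.eq_of_subset_of_card_le hsub
    (hcard.le.trans (Nat.le_of_dvd (Nat.pos_of_ne_zero hne) h4))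
  exact ⟨heq, heq ▸ hcard⟩

/-- The outer vectors respect the pairs of the shape. -/
theorem exists_pat_outer (hcen : σ ^ M₀ ∈ Subgroup.center G) {O : Finset G}
    (hO : IsOuter P e σ τ M₀ O) :
    ∃ (εe : ℤ) (ee : ZMod (2 * M₀) → IrrCharacter G) (q : Fin 4 → IrrCharacter G) (s : Fin 4 → ℤ)
      (a : G → IrrCharacter G → ℤ),
      Pat (posRows B sg) M₀ r m εe ee q s ∧ (hzFin B = Finset.univ.image q) ∧
      ∀ y ∈ O, (∀ k, a y (q k) = 1 ∨ a y (q k) = -1) ∧
        (∀ x ∈ bFin B, x ∉ hzFin B → a y x = 0) ∧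
        (∀ x ∈ B, ∀ ψ ∈ B, 4 * mU 2 P e y x ψ = (a y x : ℂ) * a y ψ) ∧
        s 0 * a y (q 0) + s 1 * a y (q 1) = 0 ∧ s 2 * a y (q 2) + s 3 * a y (q 3) = 0 := by
  have hD := c.data
  obtain ⟨εe, q, ee, s, hP⟩ := c.exists_pat hR hcen
  obtain ⟨hhz, h4⟩ := c.hz_eq_image hR hP
  have hex : ∀ y, ∃ a : IrrCharacter G → ℤ, y ∈ O → (∀ χ ∈ hzFin B, a χ = 1 ∨ a χ = -1) ∧
      (∀ χ ∈ bFin B, χ ∉ hzFin B → a χ = 0) ∧
      ∀ χ ∈ B, ∀ ψ ∈ B, 4 * mU 2 P e y χ ψ = (a χ : ℂ) * a ψ := fun y => by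
    by_cases hy : y ∈ O
    · obtain ⟨a, h⟩ := c.exists_outer_vec hO hy h4
      exact ⟨a, fun _ => h⟩
    · exact ⟨0, fun h => absurd h hy⟩
  choose a ha using hex
  have hqz : ∀ k, q k ∈ hzFin B := fun k => hhz ▸ Finset.mem_image_of_mem q (Finset.mem_univ k)
  have haq : ∀ y ∈ O, ∀ k, a y (q k) = 1 ∨ a y (q k) = -1 := fun y hy k => (ha y hy).1 _ (hqz k)
  have hperp : ∀ y ∈ O, ∀ z w' : ZMod (2 * M₀), sgnA z = sgnA w' →
      ∑ χ ∈ bFin B, a y χ * (m χ z - m χ w') = 0 := by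
    intro y hy z w' hzw
    have hq0 : q 0 ∈ B := (mem_hzFin.1 (hqz 0)).1
    have hne : a y (q 0) ≠ 0 := by rcases haq y hy 0 with h | h <;> omega
    have h := perp_dotc (c.outer_perp hR hO hy (ha y hy).2.2 hq0 hne) (adm_sub hzw)
    rw [← h]
    exact Finset.sum_congr rfl fun χ _ => by rw [dotc_sub]
  have hsum : ∀ y ∈ O, ∀ (f : IrrCharacter G → ℤ),
      ∑ χ ∈ bFin B, a y χ * f χ = ∑ k, a y (q k) * f (q k) := by
    intro y hy f
    rw [← Finset.sum_image (f := fun χ => a y χ * f χ) fun k _ l _ hkl => hP.q_inj hkl, ← hhz]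
    exact (Finset.sum_subset (Finset.filter_subset _ _) fun χ hχ hn => by
      rw [(ha y hy).2.1 χ hχ hn, zero_mul]).symm
  by_cases h4M : 4 ≤ M₀
  · obtain ⟨b, hb⟩ := Finset.card_pos.1 (c.odd_card_clR h4M).pos
    have hb1 := (mem_clR.1 hb).2
    have h0 : sgnA (0 : ZMod (2 * M₀)) = 1 := by simp [sgnA]
    refine ⟨εe, ee, q, s, a, hP, hhz, fun y hy =>
      ⟨haq y hy, (ha y hy).2.1, (ha y hy).2.2, ?_, ?_⟩⟩
    · have h := hperp y hy 0 b (h0.trans hb1.symm)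
      rw [hsum y hy, Fin.sum_univ_four] at h
      simp only [hP.zero_rep b hb _ (hP.q_mem _), hP.ind_e_q _ hb, hP.ind_q, Fin.reduceEq, if_false,
        if_true] at h
      linear_combination h
    · have h := hperp y hy (M₀ : ZMod (2 * M₀)) b (hD.sgnA_M.trans hb1.symm)
      rw [hsum y hy, Fin.sum_univ_four] at h
      have e1 : ∀ k, m (q k) (M₀ : ZMod (2 * M₀)) - m (q k) b =
          (m (q k) 0 - m (q k) b) - (m (q k) 0 - m (q k) (M₀ : ZMod (2 * M₀))) := fun k => by ring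
      simp only [e1, hP.zero_rep b hb _ (hP.q_mem _), hP.zero_M _ (hP.q_mem _), hP.ind_e_q _ hb,
        hP.ind_q, Fin.reduceEq, if_false, if_true] at h
      linear_combination h
  · have hR1 : clR M₀ r 1 = ∅ := Finset.card_eq_zero.1 (by
      have := c.card_clR
      obtain ⟨j, hj⟩ := hD.two_pow
      omega)
    set cf : Fin 4 → ℤ := ![1, 1, -1, -1] with hcf
    let x : G → Fin 4 → ℤ := fun y k => cf k * s k * a y (q k)
    have hx1 : ∀ y ∈ O, ∀ k, x y k = 1 ∨ x y k = -1 := by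
      intro y hy k
      have hs := hP.s_sign k
      have hk : cf k = 1 ∨ cf k = -1 := by fin_cases k <;> simp [hcf]
      rcases hk with a1 | a1 <;> rcases hs with b1 | b1 <;> rcases haq y hy k with c1 | c1 <;>
        simp [x, a1, b1, c1]
    have hx0 : ∀ y ∈ O, ∑ k, x y k = 0 := by
      intro y hy
      have h := hperp y hy 0 (M₀ : ZMod (2 * M₀)) (by rw [hD.sgnA_M]; simp [sgnA])
      rw [hsum y hy, Fin.sum_univ_four] at h
      simp only [hP.zero_M _ (hP.q_mem _), hP.ind_q, Fin.reduceEq, if_false, if_true] at h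
      simp [x, hcf, Fin.sum_univ_four]
      linear_combination h
    have hxy : ∀ y ∈ O, ∀ y' ∈ O, y ≠ y' → ∑ k, x y k * x y' k = 0 := by
      intro y hy y' hy' hne
      have hne1 : a y (q 0) ≠ 0 := by rcases haq y hy 0 with h | h <;> omega
      have hne2 : a y' (q 0) ≠ 0 := by rcases haq y' hy' 0 with h | h <;> omega
      have h := c.outer_orth hO hy hy' hne (ha y hy).2.2 (ha y' hy').2.2 (mem_hzFin.1 (hqz 0)).1
        hne1 hne2
      rw [hsum y hy] at h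
      rw [← h]
      refine Finset.sum_congr rfl fun k _ => ?_
      have h2 : (cf k * s k) * (cf k * s k) = 1 := by
        have hk : cf k = 1 ∨ cf k = -1 := by fin_cases k <;> simp [hcf]
        rcases hk with a1 | a1 <;> rcases hP.s_sign k with b1 | b1 <;> simp [a1, b1]
      simp only [x]
      linear_combination (a y (q k) * a y' (q k)) * h2
    obtain ⟨π, hπ⟩ : ∃ π : Equiv.Perm (Fin 4),
        ∀ y ∈ O, x y (π 0) + x y (π 1) = 0 ∧ x y (π 2) + x y (π 3) = 0 := by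
      have hsubO : O ⊆ {τ, τ * σ} := fun y hy => by simpa using hO.sub y hy
      rcases O.eq_empty_or_nonempty with rfl | ⟨y₁, hy₁⟩
      · exact ⟨1, by simp⟩
      obtain ⟨y₂, hy₂, hy12⟩ : ∃ y₂ ∈ O, ∀ y ∈ O, y = y₁ ∨ y = y₂ := by
        by_cases hex : ∃ y₂ ∈ O, y₂ ≠ y₁
        · obtain ⟨y₂, hy₂, hne⟩ := hex
          refine ⟨y₂, hy₂, fun y hy => ?_⟩
          have h1 := hsubO hy₁
          have h2 := hsubO hy₂
          have h3 := hsubO hy
          simp only [Finset.mem_insert, Finset.mem_singleton] at h1 h2 h3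
          rcases h1 with h1 | h1 <;> rcases h2 with h2 | h2 <;> rcases h3 with h3 | h3
          all_goals first
            | exact Or.inl (h3.trans h1.symm)
            | exact Or.inr (h3.trans h2.symm)
            | exact absurd (h2.trans h1.symm) hne
        · exact ⟨y₁, hy₁, fun y hy => Or.inl (by
            by_contra h
            exact hex ⟨y, hy, h⟩)⟩
      obtain ⟨π, h1, h2, h3, h4⟩ := exists_pairing_int (x y₁) (x y₂) (hx1 _ hy₁) (hx1 _ hy₂)
        (hx0 _ hy₁) (hx0 _ hy₂) (by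
          by_cases h : y₁ = y₂
          · exact Or.inl (by rw [h])
          · exact Or.inr (hxy _ hy₁ _ hy₂ h))
      refine ⟨π, fun y hy => ?_⟩
      rcases hy12 y hy with rfl | rfl
      exacts [⟨h1, h2⟩, ⟨h3, h4⟩]
    obtain ⟨s', hP', hs'⟩ := hP.perm hR1 π
    refine ⟨εe, ee, q ∘ π, s', a, hP', (c.hz_eq_image hR hP').1, fun y hy =>
      ⟨fun k => haq y hy (π k), (ha y hy).2.1, (ha y hy).2.2, ?_, ?_⟩⟩
    · obtain ⟨h1, -⟩ := hπ y hy
      simp only [x] at h1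
      rw [← hs' 0, ← hs' 1] at h1
      simpa [Function.comp] using h1
    · obtain ⟨-, h2⟩ := hπ y hy
      simp only [x] at h2
      rw [← hs' 2, ← hs' 3] at h2
      simp [hcf, Function.comp] at h2 ⊢
      linarith

/-- Rows of sign one: their `2 ⟨x°, y⟩` and the classification. -/
theorem pos_mem {O : Finset G} (hO : IsOuter P e σ τ M₀ O) {εe : ℤ}
    {ee : ZMod (2 * M₀) → IrrCharacter G} {q : Fin 4 → IrrCharacter G} {s : Fin 4 → ℤ}
    {a : G → IrrCharacter G → ℤ} (hP : Pat (posRows B sg) M₀ r m εe ee q s)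
    (hhz : hzFin B = Finset.univ.image q)
    (ha : ∀ y ∈ O, (∀ x ∈ bFin B, x ∉ hzFin B → a y x = 0) ∧
      ∀ x ∈ B, ∀ ψ ∈ B, 4 * mU 2 P e y x ψ = (a y x : ℂ) * a y ψ)
    {x : IrrCharacter G} (hx : x ∈ posRows B sg) :
    (∃ k, x = q k) ∨ ∃ b ∈ clR M₀ r 1, x = ee b := by
  by_contra hn
  push Not at hn
  obtain ⟨hxB, hxs⟩ := mem_posRows.1 hx
  have e0 : ∀ k, ind (q k) x = 0 := fun k => Star.ind_ne (hn.1 k)
  have e1 : ∀ b ∈ clR M₀ r 1, ind (ee b) x = 0 := fun b hb => Star.ind_ne (hn.2 b hb)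
  set β := m x 0 - s 0 * ind (q 0) x - s 1 * ind (q 1) x with hβ
  have hd : ∀ b, sgnA b = 1 → m x b - β = 0 := by
    intro b hb
    have hsum := c.sum_class (fun b => ((m x b - β) * (m x b - β) : ℤ))
      (fun b => by simp only [hR.symm x b]) (s := 1) (Or.inl rfl)
    rw [if_pos rfl, hP.base_zero hx, hP.base_M hx, Finset.sum_congr rfl fun b (hb : b ∈ clR M₀ r 1) => by
      rw [hP.base_rep hx hb, e1 b hb, mul_zero, mul_zero], Finset.sum_const_zero] at hsum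
    simp only [vecP, e0, mul_zero, Finset.sum_const_zero, add_zero, zero_mul] at hsum
    have hnn : ∀ b ∈ (Finset.univ : Finset (ZMod (2 * M₀))),
        0 ≤ (if sgnA b = 1 then (m x b - β) * (m x b - β) else 0) := fun b _ => by
      split_ifs <;> simp [mul_self_nonneg]
    have h := (Finset.sum_eq_zero_iff_of_nonneg hnn).1 hsum b (Finset.mem_univ b)
    rw [if_pos hb] at h
    exact mul_self_eq_zero.1 h
  obtain ⟨χ₀, hχ₀, h0⟩ := Blocks.exists_height_zero c.pM c.block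
  refine c.regDot_ne_zero hxB hχ₀ h0 ?_
  have hev : ∀ i ∈ gens M₀, mU 2 P e (rot σ i) x χ₀ = 0 := by
    intro i hi
    obtain ⟨h0', hM'⟩ := mem_gens.1 hi
    refine (mul_eq_zero.1 (?_ : ((2 * M₀ : ℕ) : ℂ) * mU 2 P e (rot σ i) x χ₀ = 0)).resolve_left
      (Nat.cast_ne_zero.2 (NeZero.ne _))
    rw [hR.sect i h0' hM', hR.ev_sub_const hx β hi,
      show (fun b => if sgnA b = 1 then m x b - β else 0) = fun _ => (0 : ℤ) from funext fun b => by
        by_cases hb : sgnA b = 1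
        · rw [if_pos hb, hd b hb]
        · rw [if_neg hb]]
    simp [ev]
  have hxz : x ∉ hzFin B := fun h => by
    rw [hhz] at h
    obtain ⟨k, -, hk⟩ := Finset.mem_image.1 h
    exact hn.1 k hk.symm
  have hne : x ≠ χ₀ := fun h => hxz (h ▸ mem_hzFin.2 ⟨hχ₀, h0⟩)
  have hid := c.identity_split hO hxB χ₀
  rw [if_neg hne, Finset.sum_eq_zero hev, Finset.sum_eq_zero fun y hy => (mul_eq_zero.1
      (show (4 : ℂ) * mU 2 P e y x χ₀ = 0 by
        rw [(ha y hy).2 x hxB χ₀ hχ₀, (ha y hy).1 x (mem_bFin.2 hxB) hxz, Int.cast_zero,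
          zero_mul])).resolve_left (by norm_num),
    hR.z_sect x hxB χ₀, hxs, c.sg_of_height_zero hR hχ₀ h0, mU_one c.pM c.block c.isMax hxB χ₀,
    regDot_comm Fact.out x χ₀] at hid
  push_cast at hid
  linear_combination hid / 2

end Ctx

end Cfsg.Agent.TameBlock
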