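import Cfsg.Agent.Lib.TameBlock.HPos

/-!
# The vectors on the rows of sign one

`Ctx.exists_posData`: `4 M₀ w ⟨x°, y⟩ = w W x W y + M₀ (V₀ x V₀ y + V₁ x V₁ y)` on the rows of sign
one, with the three cases given by the number of classes outside the rotations.
-/

set_option autoImplicit false
set_option linter.unusedSectionVars false
set_option linter.style.haveILetI false

namespace Cfsg.Agent.TameBlock

open Cfsg Blocks MonoidAlgebra
open Cfsg.Agent.BrauerPairs (blk blkG conjEl IsMax IsPair regDot regDot_comm)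
open Cfsg.Agent.Blocks.NilRank
open Star (ind)
open scoped Classical ComplexConjugate

universe u

variable {G : Type u} [Group G] [Fintype G] {M : Ideal AlgInt} [M.IsMaximal] [Fact (Nat.Prime 2)]
  [CharP (AlgInt ⧸ M) 2] {B : Set (IrrCharacter G)} {P : Subgroup G}
  {e : MonoidAlgebra (AlgInt ⧸ M) G} {σ τ : G} {M₀ r : ℕ} [NeZero (2 * M₀)]
  {m : IrrCharacter G → ZMod (2 * M₀) → ℤ} {sg : IrrCharacter G → ℤ}

theorem exists_card_cases {α : Type*} (O : Finset α) (h : O.card ≤ 2) :
    O = ∅ ∨ (∃ y, O = {y}) ∨ ∃ y y', y ≠ y' ∧ O = {y, y'} := by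
  have : O.card = 0 ∨ O.card = 1 ∨ O.card = 2 := by omega
  rcases this with h | h | h
  · exact Or.inl (Finset.card_eq_zero.1 h)
  · exact Or.inr (Or.inl (Finset.card_eq_one.1 h))
  · obtain ⟨y, y', hne, he⟩ := Finset.card_eq_two.1 h
    exact Or.inr (Or.inr ⟨y, y', hne, he⟩)

theorem IsOuter.card_le {P : Subgroup G} {e : MonoidAlgebra (AlgInt ⧸ M) G} {σ τ : G} {M₀ : ℕ}
    {O : Finset G} (hO : IsOuter P e σ τ M₀ O) : O.card ≤ 2 :=
  (Finset.card_le_card (fun y hy => by simpa using hO.sub y hy :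
    O ⊆ ({τ, τ * σ} : Finset G))).trans Finset.card_le_two

namespace Ctx

variable (c : Ctx M B P e σ τ M₀ r) (hR : RotParam B P e σ M₀ r m sg)
include c hR

theorem exists_posData (hcen : σ ^ M₀ ∈ Subgroup.center G) {O : Finset G}
    (hO : IsOuter P e σ τ M₀ O) : ∃ W V₀ V₁ w, PosData B P e M₀ m sg O W V₀ V₁ w := by
  have hD := c.data
  obtain ⟨εe, ee, q, s, a, hP, hhz, ha⟩ := c.exists_pat_outer hR hcen hO
  set S := posRows B sg with hS
  set R := clR M₀ r 1 with hRR
  have hcls : ∀ x ∈ S, (∃ k, x = q k) ∨ ∃ b ∈ R, x = ee b := fun x hx =>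
    c.pos_mem hR hO hP hhz (fun y hy => ⟨(ha y hy).2.1, (ha y hy).2.2.1⟩) hx
  have hs2 : ∀ k, s k * s k = 1 := fun k => by rcases hP.s_sign k with h | h <;> rw [h] <;> norm_num
  have hε2 : εe * εe = 1 := by rcases hP.εe_sign with h | h <;> rw [h] <;> norm_num
  have hSB : ∀ {x}, x ∈ S → x ∈ B ∧ sg x = 1 := fun hx => mem_posRows.1 hx
  have hsubS : S ⊆ bFin B := posRows_subset
  set β : IrrCharacter G → ℤ := fun x => m x 0 - s 0 * ind (q 0) x - s 1 * ind (q 1) x with hβ
  -- perpendicular vectors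
  have haE : ∀ y ∈ O, ∀ b ∈ R, a y (ee b) = 0 := fun y hy b hb => by
    refine (ha y hy).2.1 _ (hsubS (hP.e_mem b hb)) fun h => ?_
    rw [hhz] at h
    obtain ⟨k, -, hk⟩ := Finset.mem_image.1 h
    exact hP.disj b hb k hk
  have hperp : ∀ (cE : ℤ) (cq : Fin 4 → ℤ), cq 0 * s 0 + cq 1 * s 1 = cE * εe →
      cq 2 * s 2 + cq 3 * s 3 = cE * εe →
      (∀ y ∈ O, ∑ k, cq k * a y (q k) = 0) →
      Perp B P e M₀ m sg O (vecP M₀ r ee q cE cq) := by
    intro cE cq h01 h23 hout
    have hsupp : ∀ x, vecP M₀ r ee q cE cq x ≠ 0 → x ∈ S := fun x hx => hP.vecP_supp cE cq hx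
    have hres : ∀ f : IrrCharacter G → ℂ,
        ∑ x ∈ bFin B, (vecP M₀ r ee q cE cq x : ℂ) * f x =
          ∑ x ∈ S, (vecP M₀ r ee q cE cq x : ℂ) * f x := fun f =>
      (Finset.sum_subset hsubS fun x _ hn => by
        rw [of_not_not fun h => hn (hsupp x h), Int.cast_zero, zero_mul]).symm
    refine ⟨fun x hx => hSB (hsupp x hx), fun i hi => ?_, fun y hy ψ hψ => ?_⟩
    · rw [hres, Finset.sum_congr rfl fun x hx => by rw [hR.ev_sub_const hx (β x) hi]]
      have hval : ∀ b, sgnA b = 1 →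
          ∑ x ∈ S, vecP M₀ r ee q cE cq x * (m x b - β x) = cE * εe := by
        intro b hb
        have hb0 : ∑ x ∈ S, vecP M₀ r ee q cE cq x * (m x 0 - β x) = cE * εe := by
          rw [Finset.sum_congr rfl fun x hx => by rw [hβ, hP.base_zero hx], hP.sum_vecP_mul,
            Finset.sum_eq_zero fun b hb => hP.vecP_e 0 _ hb, Fin.sum_univ_four]
          simp only [hP.vecP_q, Matrix.cons_val]
          linear_combination h01
        have hbM : ∑ x ∈ S, vecP M₀ r ee q cE cq x * (m x (M₀ : ZMod (2 * M₀)) - β x) = cE * εe := by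
          rw [Finset.sum_congr rfl fun x hx => by rw [hβ, hP.base_M hx], hP.sum_vecP_mul,
            Finset.sum_eq_zero fun b hb => hP.vecP_e 0 _ hb, Fin.sum_univ_four]
          simp only [hP.vecP_q, Matrix.cons_val]
          linear_combination h23
        have hrep : ∀ b ∈ R, ∑ x ∈ S, vecP M₀ r ee q cE cq x * (m x b - β x) = cE * εe := by
          intro b hb
          rw [Finset.sum_congr rfl fun x hx => by rw [hβ, hP.base_rep hx hb], hP.sum_vecP_mul,
            Finset.sum_eq_zero (s := (Finset.univ : Finset (Fin 4))) fun k _ => by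
              rw [hP.ind_e_q k hb, mul_zero, mul_zero],
            ← Finset.mul_sum, Finset.sum_eq_single_of_mem b hb fun b' hb' hne =>
              Star.ind_ne fun h => hne (hP.inj hb' hb h), Star.ind_self]
          ring
        by_cases h0 : b = 0
        · rw [h0]; exact hb0
        by_cases hM : b = (M₀ : ZMod (2 * M₀))
        · rw [hM]; exact hbM
        have hg : b ∈ gens M₀ := mem_gens.2 ⟨h0, hM⟩
        by_cases hlt : b.val < ((r : ZMod (2 * M₀)) * b).val
        · exact hrep b (mem_clR.2 ⟨Finset.mem_filter.2 ⟨hg, hlt⟩, hb⟩)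
        · have hmem : (r : ZMod (2 * M₀)) * b ∈ R := by
            refine mem_clR.2 ⟨Finset.mem_filter.2 ⟨(hD.r_mem_gens hg).1, ?_⟩,
              (hD.sgnA_r_mul b).trans hb⟩
            rw [← mul_assoc, hD.r_sq, one_mul]
            exact lt_of_le_of_ne (not_lt.1 hlt) fun h =>
              (hD.r_mem_gens hg).2 (ZMod.val_injective _ h)
          have h := hrep _ hmem
          rw [Finset.sum_congr rfl fun x _ => by rw [hR.symm x b]] at h
          exact h
      have hlin : ∑ x ∈ S, (vecP M₀ r ee q cE cq x : ℂ) *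
          ev (fun b => if sgnA b = 1 then m x b - β x else 0) i =
          ev (fun b => if sgnA b = 1 then cE * εe else 0) i := by
        simp only [ev, Finset.mul_sum]
        rw [Finset.sum_comm]
        refine Finset.sum_congr rfl fun b _ => ?_
        by_cases hb : sgnA b = 1
        · simp only [if_pos hb]
          rw [← hval b hb, Int.cast_sum, Finset.sum_mul]
          exact Finset.sum_congr rfl fun x _ => by push_cast; ring
        · simp [if_neg hb]
      rw [hlin, ev_class_const _ (Or.inl rfl) hi]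
    · have h4 : (4 : ℂ) * ∑ x ∈ bFin B, (vecP M₀ r ee q cE cq x : ℂ) * mU 2 P e y x ψ =
          ((∑ x ∈ S, vecP M₀ r ee q cE cq x * a y x : ℤ) : ℂ) * a y ψ := by
        rw [hres, Finset.mul_sum, Int.cast_sum, Finset.sum_mul]
        refine Finset.sum_congr rfl fun x hx => ?_
        rw [mul_left_comm, (ha y hy).2.2.1 x (hSB hx).1 ψ hψ]
        push_cast
        ring
      rw [hP.sum_vecP_mul, Finset.sum_eq_zero fun b hb => haE y hy b hb, hout y hy] at h4
      simpa using h4
  -- the functions on the rows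
  set W := vecP M₀ r ee q (2 * εe) s with hW
  set Q₀ := vecP M₀ r ee q 0 ![s 0, -s 1, 0, 0] with hQ₀
  set Q₁ := vecP M₀ r ee q 0 ![0, 0, s 2, -s 3] with hQ₁
  have hext : ∀ (P' : IrrCharacter G → Prop), (∀ k, P' (q k)) → (∀ b ∈ R, P' (ee b)) →
      ∀ x ∈ S, P' x := by
    intro P' h1 h2 x hx
    rcases hcls x hx with ⟨k, rfl⟩ | ⟨b, hb, rfl⟩
    exacts [h1 k, h2 b hb]
  set t : G → ℤ := fun y => s 0 * a y (q 0) with ht
  set t' : G → ℤ := fun y => s 2 * a y (q 2) with ht'
  have hapos : ∀ y ∈ O, ∀ x ∈ S, a y x = t y * Q₀ x + t' y * Q₁ x := by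
    intro y hy
    obtain ⟨-, -, -, h01, h23⟩ := ha y hy
    refine hext _ (fun k => ?_) fun b hb => ?_
    · rw [hQ₀, hQ₁, hP.vecP_q, hP.vecP_q, ht, ht']
      fin_cases k <;> simp
      · linear_combination (-a y (q 0)) * hs2 0
      · linear_combination (s 1) * h01 - (a y (q 1)) * hs2 1
      · linear_combination (-a y (q 2)) * hs2 2
      · linear_combination (s 3) * h23 - (a y (q 3)) * hs2 3
    · rw [hQ₀, hQ₁, hP.vecP_e _ _ hb, hP.vecP_e _ _ hb, haE y hy b hb]
      ring
  have ht1 : ∀ y ∈ O, (t y = 1 ∨ t y = -1) ∧ (t' y = 1 ∨ t' y = -1) := by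
    intro y hy
    have h := (ha y hy).1
    constructor
    · rcases hP.s_sign 0 with u | u <;> rcases h 0 with v | v <;> simp [t, u, v]
    · rcases hP.s_sign 2 with u | u <;> rcases h 2 with v | v <;> simp [t', u, v]
  -- the master identity
  have hid : ∀ x ∈ S, ∀ y ∈ S, ((4 * M₀ : ℕ) : ℂ) * regDot 2 x.1 y.1 =
      (W x : ℂ) * W y + (M₀ : ℂ) * ((Q₀ x : ℂ) * Q₀ y + (Q₁ x : ℂ) * Q₁ y) -
        (M₀ : ℂ) / 2 * ∑ o ∈ O, (a o x : ℂ) * a o y := by
    intro x hx y hy
    obtain ⟨hxB, hxs⟩ := hSB hx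
    obtain ⟨hyB, hys⟩ := hSB hy
    set dx : ZMod (2 * M₀) → ℤ := fun b => if sgnA b = 1 then m x b - β x else 0 with hdx
    set dy : ZMod (2 * M₀) → ℤ := fun b => if sgnA b = 1 then m y b - β y else 0 with hdy
    have hrot : ((2 * M₀ : ℕ) : ℂ) * ∑ i ∈ gens M₀, mU 2 P e (rot σ i) x y =
        ((2 * M₀ : ℕ) : ℂ) * ((∑ b, dx b * dy b : ℤ) : ℂ) - 2 * ((∑ b, dx b : ℤ) : ℂ) * ((∑ b, dy b : ℤ) : ℂ) := by
      have hg : Finset.univ = gens M₀ ∪ {0, (M₀ : ZMod (2 * M₀))} := by
        ext b
        simp [gens]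
        tauto
      have hdis : Disjoint (gens M₀) ({0, (M₀ : ZMod (2 * M₀))} : Finset (ZMod (2 * M₀))) := by
        rw [Finset.disjoint_left]
        intro b hb hb'
        obtain ⟨h0, hM⟩ := mem_gens.1 hb
        simp [h0, hM] at hb'
      have hp := parseval dx dy
      rw [hg, Finset.sum_union hdis, Finset.sum_pair hD.M_ne_zero.symm, ev_zero, ev_zero, ev_M,
        ev_M, ← hg] at hp
      have hsgn : ∀ (d : ZMod (2 * M₀) → ℤ), (∀ b, sgnA b ≠ 1 → d b = 0) →
          ∑ b, sgnA b * d b = ∑ b, d b := fun d hd => Finset.sum_congr rfl fun b _ => by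
        by_cases hb : sgnA b = 1
        · rw [hb, one_mul]
        · rw [hd b hb, mul_zero]
      rw [hsgn dx fun b hb => if_neg hb, hsgn dy fun b hb => if_neg hb, map_intCast] at hp
      rw [Finset.mul_sum, Finset.sum_congr rfl fun i hi => by
        rw [hR.sect i (mem_gens.1 hi).1 (mem_gens.1 hi).2 x y, hR.ev_sub_const hx (β x) hi,
          hR.ev_sub_const hy (β y) hi]]
      linear_combination hp
    have hsumd : ∀ z ∈ S, ∑ b, (if sgnA b = 1 then m z b - β z else 0) = W z := by
      intro z hz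
      rw [c.sum_class _ (fun b => by rw [hR.symm z b]) (Or.inl rfl), if_pos rfl, hβ,
        hP.base_zero hz, hP.base_M hz,
        Finset.sum_congr rfl fun b (hb : b ∈ clR M₀ r 1) => hP.base_rep hz hb, ← Finset.mul_sum]
      simp [hW, vecP, Fin.sum_univ_four]
      ring
    have hprod : ∑ b, dx b * dy b =
        vecP M₀ r ee q 0 ![s 0, s 1, 0, 0] x * vecP M₀ r ee q 0 ![s 0, s 1, 0, 0] y +
          vecP M₀ r ee q 0 ![0, 0, s 2, s 3] x * vecP M₀ r ee q 0 ![0, 0, s 2, s 3] y +
          2 * ∑ b ∈ R, ind (ee b) x * ind (ee b) y := by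
      rw [Finset.sum_congr rfl fun b (_ : b ∈ Finset.univ) => show dx b * dy b =
          if sgnA b = 1 then (m x b - β x) * (m y b - β y) else 0 by
        simp only [hdx, hdy]; split_ifs <;> simp,
        c.sum_class _ (fun b => by rw [hR.symm x b, hR.symm y b]) (Or.inl rfl), if_pos rfl, hβ,
        hP.base_zero hx, hP.base_zero hy, hP.base_M hx, hP.base_M hy,
        Finset.sum_congr rfl fun b (hb : b ∈ clR M₀ r 1) => show _ = ind (ee b) x * ind (ee b) y by
          rw [hP.base_rep hx hb, hP.base_rep hy hb]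
          linear_combination (ind (ee b) x * ind (ee b) y) * hε2]
      ring
    have hδ : (if x = y then 1 else 0 : ℤ) =
        ∑ k, ind (q k) x * ind (q k) y + ∑ b ∈ R, ind (ee b) x * ind (ee b) y := by
      rcases hcls x hx with ⟨k, rfl⟩ | ⟨b, hb, rfl⟩
      · rw [Finset.sum_eq_zero (s := R) fun b hb => by rw [hP.ind_e_q k hb, zero_mul], add_zero,
          Finset.sum_eq_single_of_mem k (Finset.mem_univ _) fun l _ hl => by
            rw [hP.ind_q, if_neg (Ne.symm hl), zero_mul], Star.ind_self, one_mul, ind]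
        simp [eq_comm]
      · rw [Finset.sum_eq_zero (s := (Finset.univ : Finset (Fin 4))) fun k _ => by
            rw [hP.ind_q_e k hb, zero_mul], zero_add,
          Finset.sum_eq_single_of_mem b hb fun b' hb' hne => by
            rw [Star.ind_ne fun h => hne (hP.inj hb' hb h.symm), zero_mul], Star.ind_self, one_mul, ind]
        simp [eq_comm]
    have houts : ((4 : ℂ)) * ∑ o ∈ O, mU 2 P e o x y = ∑ o ∈ O, (a o x : ℂ) * a o y := by
      rw [Finset.mul_sum]
      exact Finset.sum_congr rfl fun o ho => (ha o ho).2.2.1 x hxB y hyB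
    have hsp := c.identity_split hO hxB y
    rw [hR.z_sect x hxB y, hxs, hys, mU_one c.pM c.block c.isMax hxB y] at hsp
    rw [show ∑ b, dx b = W x from hsumd x hx, show ∑ b, dy b = W y from hsumd y hy, hprod] at hrot
    have hδC : (if x = y then 1 else 0 : ℂ) =
        ((∑ k, ind (q k) x * ind (q k) y + ∑ b ∈ R, ind (ee b) x * ind (ee b) y : ℤ) : ℂ) := by
      rw [← hδ]; split_ifs <;> simp
    rw [hδC] at hsp
    have hpairs : (Q₀ x * Q₀ y + Q₁ x * Q₁ y : ℤ) =
        2 * ∑ k, ind (q k) x * ind (q k) y -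
          vecP M₀ r ee q 0 ![s 0, s 1, 0, 0] x * vecP M₀ r ee q 0 ![s 0, s 1, 0, 0] y -
          vecP M₀ r ee q 0 ![0, 0, s 2, s 3] x * vecP M₀ r ee q 0 ![0, 0, s 2, s 3] y := by
      simp [hQ₀, hQ₁, vecP, Fin.sum_univ_four]
      linear_combination 2 * (ind (q 0) x * ind (q 0) y) * hs2 0 +
        2 * (ind (q 1) x * ind (q 1) y) * hs2 1 + 2 * (ind (q 2) x * ind (q 2) y) * hs2 2 +
        2 * (ind (q 3) x * ind (q 3) y) * hs2 3
    have hpC : ((Q₀ x : ℂ) * Q₀ y + (Q₁ x : ℂ) * Q₁ y) =
        ((2 * ∑ k, ind (q k) x * ind (q k) y -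
          vecP M₀ r ee q 0 ![s 0, s 1, 0, 0] x * vecP M₀ r ee q 0 ![s 0, s 1, 0, 0] y -
          vecP M₀ r ee q 0 ![0, 0, s 2, s 3] x * vecP M₀ r ee q 0 ![0, 0, s 2, s 3] y : ℤ) : ℂ) := by
      rw [← hpairs]; push_cast; rfl
    rw [hpC]
    push_cast at hsp hrot ⊢
    linear_combination (2 * (M₀ : ℂ)) * hsp - (1 / 2 : ℂ) * hrot - ((M₀ : ℂ) / 2) * houts
  have dot : ∀ (cE : ℤ) (cq : Fin 4 → ℤ) (cE' : ℤ) (cq' : Fin 4 → ℤ),
      ∑ x ∈ S, vecP M₀ r ee q cE cq x * vecP M₀ r ee q cE' cq' x =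
        cE * cE' * R.card + ∑ k, cq k * cq' k := by
    intro cE cq cE' cq'
    rw [hP.sum_vecP_mul, Finset.sum_congr rfl fun b hb => hP.vecP_e cE' cq' hb,
      Finset.sum_congr rfl fun (k : Fin 4) (_ : k ∈ Finset.univ) =>
        show cq k * vecP M₀ r ee q cE' cq' (q k) = cq k * cq' k by rw [hP.vecP_q],
      Finset.sum_const, nsmul_eq_mul]
    ring
  have hWW : ∑ x ∈ S, W x * W x = 2 * M₀ := by
    rw [hW, dot, Fin.sum_univ_four, hs2, hs2, hs2, hs2]
    have h : (2 * R.card + 2 : ℤ) = M₀ := by exact_mod_cast c.card_clR.2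
    linear_combination (4 * (R.card : ℤ)) * hε2 + 2 * h
  have hcong : ∀ x ∈ S, (M₀ : ℤ) ∣ W x - ∑ b, m x b := by
    intro x hx
    refine ⟨-β x, ?_⟩
    have h1 : ∑ b : ZMod (2 * M₀), (if sgnA b = 1 then (1 : ℤ) else 0) = M₀ := by
      rw [c.sum_class (fun _ => (1 : ℤ)) (fun _ => rfl) (Or.inl rfl), if_pos rfl]
      have h : (2 * R.card + 2 : ℤ) = M₀ := by exact_mod_cast c.card_clR.2
      simp
      linarith
    have h2 : ∑ b, m x b = ∑ b, (if sgnA b = 1 then m x b - β x else 0) +
        β x * ∑ b : ZMod (2 * M₀), (if sgnA b = 1 then (1 : ℤ) else 0) := by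
      rw [Finset.mul_sum, ← Finset.sum_add_distrib]
      refine Finset.sum_congr rfl fun b _ => ?_
      rcases sgnA_eq b with hb | hb
      · simp [hb]
      · simp [hb, hR.pos_odd_zero hx hb]
    have h3 : ∑ b, (if sgnA b = 1 then m x b - β x else 0) = W x := by
      rw [c.sum_class _ (fun b => by rw [hR.symm x b]) (Or.inl rfl), if_pos rfl, hβ,
        hP.base_zero hx, hP.base_M hx,
        Finset.sum_congr rfl fun b (hb : b ∈ clR M₀ r 1) => hP.base_rep hx hb, ← Finset.mul_sum]
      simp [hW, vecP, Fin.sum_univ_four]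
      ring
    rw [h2, h1, h3]
    ring
  have hodd : ∀ x ∈ S, Odd (W x) ↔ x ∈ hzFin B := by
    refine hext (fun x => Odd (W x) ↔ x ∈ hzFin B) (fun k => ?_) fun b hb => ?_
    · rw [hW, hP.vecP_q, hhz]
      refine iff_of_true ?_ (Finset.mem_image_of_mem q (Finset.mem_univ k))
      rcases hP.s_sign k with h | h <;> rw [h] <;> decide
    · rw [hW, hP.vecP_e _ _ hb, hhz]
      refine iff_of_false (Int.not_odd_iff_even.2 (even_two_mul εe)) fun h => ?_
      obtain ⟨k, -, hk⟩ := Finset.mem_image.1 h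
      exact hP.disj b hb k hk
  have haW : ∀ y ∈ O, ∑ k, s k * a y (q k) = 0 := fun y hy => by
    obtain ⟨-, -, -, h01, h23⟩ := ha y hy
    rw [Fin.sum_univ_four]
    linear_combination h01 + h23
  have hperpW : Perp B P e M₀ m sg O W := by
    refine hperp _ _ ?_ ?_ haW
    · linear_combination hs2 0 + hs2 1 - 2 * hε2
    · linear_combination hs2 2 + hs2 3 - 2 * hε2
  have hperp0 : Perp B P e M₀ m sg O (fun _ => 0) :=
    ⟨fun x h => absurd rfl h, fun i _ => by simp, fun y _ ψ _ => by simp⟩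
  rcases exists_card_cases O hO.card_le with rfl | ⟨o, rfl⟩ | ⟨o, o', hne, rfl⟩
  · refine ⟨W, Q₀, Q₁, 1, hperpW,
      hperp _ _ (by simp; linear_combination hs2 0 - hs2 1) (by simp) (by simp),
      hperp _ _ (by simp) (by simp; linear_combination hs2 2 - hs2 3) (by simp),
      fun _ => ⟨vecP M₀ r ee q εe ![s 0, 0, s 2, 0],
        hperp _ _ (by simp; linear_combination hs2 0 - hε2)
          (by simp; linear_combination hs2 2 - hε2) (by simp), fun x => ?_⟩,
      fun x hx y hy => ?_, hWW, ?_, ?_, ?_, Or.inl ⟨Finset.card_empty, rfl, ?_, ?_⟩, hcong, hodd⟩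
    · simp [hW, hQ₀, hQ₁, vecP, Fin.sum_univ_four]
      ring
    · have h := hid x hx y hy
      simp at h
      push_cast
      rw [mul_one, one_mul]
      linear_combination h
    · rw [hW, hQ₀, dot, Fin.sum_univ_four]; simp; linear_combination hs2 0 - hs2 1
    · rw [hW, hQ₁, dot, Fin.sum_univ_four]; simp; linear_combination hs2 2 - hs2 3
    · rw [hQ₀, hQ₁, dot, Fin.sum_univ_four]; simp
    · rw [hQ₀, dot, Fin.sum_univ_four]; simp; linear_combination hs2 0 + hs2 1
    · rw [hQ₁, dot, Fin.sum_univ_four]; simp; linear_combination hs2 2 + hs2 3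
  · have ho : o ∈ ({o} : Finset G) := Finset.mem_singleton_self o
    obtain ⟨hta, htb⟩ := ht1 o ho
    set bb := t o * t' o with hbb
    have hb1 : bb = 1 ∨ bb = -1 := by
      rcases hta with u | u <;> rcases htb with v | v <;> simp [hbb, u, v]
    obtain ⟨-, -, -, h01, h23⟩ := ha o ho
    have htt : t o * t o = 1 ∧ t' o * t' o = 1 := by
      constructor
      · rcases hta with u | u <;> rw [u] <;> norm_num
      · rcases htb with u | u <;> rw [u] <;> norm_num
    set V := vecP M₀ r ee q 0 ![s 0, -s 1, -bb * s 2, bb * s 3] with hV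
    have hVeq : ∀ x, V x = Q₀ x - bb * Q₁ x := fun x => by
      simp [hV, hQ₀, hQ₁, vecP, Fin.sum_univ_four]
      ring
    have hform : ∀ x ∈ S, ∀ y ∈ S, ((4 * M₀ : ℕ) : ℂ) * 2 * regDot 2 x.1 y.1 =
        2 * ((W x : ℂ) * W y) + (M₀ : ℂ) * ((V x : ℂ) * V y) := by
      intro x hx y hy
      have h := hid x hx y hy
      rw [Finset.sum_singleton, hapos o ho x hx, hapos o ho y hy] at h
      rw [hVeq x, hVeq y]
      have e1 : (t o : ℂ) * t o = 1 := by exact_mod_cast htt.1
      have e2 : (t' o : ℂ) * t' o = 1 := by exact_mod_cast htt.2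
      have e3 : (bb : ℂ) = (t o : ℂ) * t' o := by rw [hbb]; push_cast; rfl
      push_cast at h ⊢
      rw [e3]
      linear_combination 2 * h - (M₀ : ℂ) * ((Q₀ x : ℂ) * Q₀ y) * e1 -
        (M₀ : ℂ) * ((Q₁ x : ℂ) * Q₁ y) * ((t' o : ℂ) * t' o * e1 + 2 * e2)
    have h4M : 4 ≤ M₀ := by
      by_contra hlt
      have hM2 : M₀ = 2 := by
        obtain ⟨j, hj⟩ := hD.two_pow
        have := hD.two_le
        rcases j with _ | _ | j
        · omega
        · simpa using hj
        · exfalso; rw [hj, pow_succ, pow_succ] at hlt; have := Nat.one_le_two_pow (n := j); omega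
      have hq : q 0 ∈ hzFin B := hhz ▸ Finset.mem_image_of_mem q (Finset.mem_univ 0)
      obtain ⟨hqB, hq0⟩ := mem_hzFin.1 hq
      obtain ⟨cc, hcc⟩ := BrauerPairs.exists_int_regDot c.pM Fact.out c.block hqB
      have hodd' : Odd (cc (q 0)) := (intCoeff_odd_iff c.pM c.block hqB hqB hq0 (hcc _)).2 hq0
      have h := hform (q 0) (hP.q_mem 0) (q 0) (hP.q_mem 0)
      have e := hcc (q 0)
      rw [c.pow_blockDefect] at e
      rw [mul_right_comm, e, hW, hV, hP.vecP_q, hP.vecP_q] at h
      have h' : cc (q 0) * 2 = 2 * (s 0 * s 0) + (M₀ : ℤ) * (s 0 * s 0) := by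
        simp at h
        exact_mod_cast h
      rw [hs2, hM2] at h'
      obtain ⟨k, hk⟩ := hodd'
      omega
    refine ⟨W, V, fun _ => 0, 2, hperpW, hperp _ _ (by simp; linear_combination hs2 0 - hs2 1)
      (by simp; linear_combination (-bb) * hs2 2 + bb * hs2 3) ?_, hperp0, fun _ => ?_,
      fun x hx y hy => ?_, hWW, ?_, by simp, by simp,
      Or.inr (Or.inl ⟨Finset.card_singleton o, rfl, h4M, ?_, fun _ => rfl⟩), hcong, hodd⟩
    · intro y hy
      rw [Finset.mem_singleton.1 hy, Fin.sum_univ_four]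
      simp
      have h2 := htt.2
      simp only [hbb, ht, ht'] at h2 ⊢
      linear_combination (-1 : ℤ) * h01 +
        (s 0 * a o (q 0) * (s 2 * a o (q 2))) * h23 - 2 * (s 0 * a o (q 0)) * h2
    · rcases hb1 with hb | hb
      · refine ⟨vecP M₀ r ee q εe ![s 0, 0, 0, s 3],
          hperp _ _ (by simp; linear_combination hs2 0 - hε2)
            (by simp; linear_combination hs2 3 - hε2) ?_, fun x => ?_⟩
        · intro y hy
          rw [Finset.mem_singleton.1 hy, Fin.sum_univ_four]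
          simp
          have : t o = t' o := by
            rcases hta with u | u <;> rcases htb with v | v <;>
              simp [hbb, u, v] at hb ⊢
          simp only [ht, ht'] at this
          linear_combination h23 + this
        · simp [hW, hV, hb, vecP, Fin.sum_univ_four]
          ring
      · refine ⟨vecP M₀ r ee q εe ![s 0, 0, s 2, 0],
          hperp _ _ (by simp; linear_combination hs2 0 - hε2)
            (by simp; linear_combination hs2 2 - hε2) ?_, fun x => ?_⟩
        · intro y hy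
          rw [Finset.mem_singleton.1 hy, Fin.sum_univ_four]
          simp
          have : t o = -t' o := by
            rcases hta with u | u <;> rcases htb with v | v <;>
              simp [hbb, u, v] at hb ⊢
          simp only [ht, ht'] at this
          linear_combination this
        · simp [hW, hV, hb, vecP, Fin.sum_univ_four]
          ring
    · have h := hform x hx y hy
      push_cast at h ⊢
      linear_combination h
    · rw [hW, hV, dot, Fin.sum_univ_four]
      simp
      linear_combination hs2 0 - hs2 1 - bb * hs2 2 + bb * hs2 3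
    · have hbsq : bb * bb = 1 := by rcases hb1 with u | u <;> rw [u] <;> norm_num
      rw [hV, dot, Fin.sum_univ_four]
      simp
      linear_combination hs2 0 + hs2 1 + bb * bb * hs2 2 + bb * bb * hs2 3 + 2 * hbsq
  · have ho : o ∈ ({o, o'} : Finset G) := by simp
    have ho' : o' ∈ ({o, o'} : Finset G) := by simp
    obtain ⟨hu, hu'⟩ := ht1 o ho
    obtain ⟨hv, hv'⟩ := ht1 o' ho'
    have hq0 : q 0 ∈ B := (hSB (hP.q_mem 0)).1
    have horth := c.outer_orth hO ho ho' hne (ha o ho).2.2.1 (ha o' ho').2.2.1 hq0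
      (by rcases (ha o ho).1 0 with h | h <;> omega) (by rcases (ha o' ho').1 0 with h | h <;> omega)
    rw [← Finset.sum_subset hsubS fun x hxB hn => by
        rw [(ha o ho).2.1 x hxB fun h => hn (c.hz_pos hR h), zero_mul],
      Finset.sum_congr rfl fun x hx => show a o x * a o' x =
        (t o * t o') * (Q₀ x * Q₀ x) + (t' o * t' o') * (Q₁ x * Q₁ x) +
          (t o * t' o' + t' o * t o') * (Q₀ x * Q₁ x) by
        rw [hapos o ho x hx, hapos o' ho' x hx]; ring,
      Finset.sum_add_distrib, Finset.sum_add_distrib, ← Finset.mul_sum, ← Finset.mul_sum,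
      ← Finset.mul_sum, hQ₀, hQ₁, dot, dot, dot, Fin.sum_univ_four, Fin.sum_univ_four,
      Fin.sum_univ_four] at horth
    simp [hs2] at horth
    have hform : ∀ x ∈ S, ∀ y ∈ S,
        ((4 * M₀ : ℕ) : ℂ) * regDot 2 x.1 y.1 = (W x : ℂ) * W y := by
      intro x hx y hy
      have h := hid x hx y hy
      rw [Finset.sum_pair hne, hapos o ho x hx, hapos o ho y hy, hapos o' ho' x hx,
        hapos o' ho' y hy] at h
      push_cast at h ⊢
      rcases hu with a1 | a1 <;> rcases hu' with a2 | a2 <;> rcases hv with a3 | a3 <;>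
        rcases hv' with a4 | a4 <;> rw [a1, a2, a3, a4] at h horth <;>
        first
          | omega
          | (push_cast at h; linear_combination h)
    refine ⟨W, fun _ => 0, fun _ => 0, 1, hperpW, hperp0, hperp0,
      fun h => absurd h (by rw [Finset.card_pair hne]; norm_num), fun x hx y hy => ?_, hWW, by simp,
      by simp, by simp, Or.inr (Or.inr ⟨Finset.card_pair hne, rfl, fun _ => rfl, fun _ => rfl⟩),
      hcong, hodd⟩
    have h := hform x hx y hy
    push_cast at h ⊢
    linear_combination h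

end Ctx

end Cfsg.Agent.TameBlock
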