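import Cfsg.Agent.Lib.TameBlock.Integral

/-!
# The rows of a block with central involution

`posRows B sg`: the rows of sign one. The rows of height zero are among them and have
`m χ 0 + m χ M₀` odd.
-/

set_option autoImplicit false
set_option linter.unusedSectionVars false
set_option linter.style.haveILetI false

namespace Cfsg.Agent.TameBlock

open Cfsg Blocks MonoidAlgebra
open Cfsg.Agent.BrauerPairs (blk blkG conjEl IsMax IsPair regDot regDot_comm)
open Cfsg.Agent.Blocks.NilRank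
open Star (ind)
open ZMod (stdAddChar)
open scoped Classical ComplexConjugate

universe u

variable {G : Type u} [Group G] [Fintype G]

/-- The rows of sign one. -/
noncomputable def posRows (B : Set (IrrCharacter G)) (sg : IrrCharacter G → ℤ) :
    Finset (IrrCharacter G) :=
  (bFin B).filter fun χ => sg χ = 1

theorem mem_posRows {B : Set (IrrCharacter G)} {sg : IrrCharacter G → ℤ} {χ : IrrCharacter G} :
    χ ∈ posRows B sg ↔ χ ∈ B ∧ sg χ = 1 := by simp [posRows, mem_bFin]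

theorem posRows_subset {B : Set (IrrCharacter G)} {sg : IrrCharacter G → ℤ} :
    posRows B sg ⊆ bFin B := Finset.filter_subset _ _

/-- A constant on one parity class has no generic Fourier coefficient. -/
theorem ev_class_const {M₀ : ℕ} [NeZero (2 * M₀)] (β : ℤ) {s : ℤ} (hs : s = 1 ∨ s = -1)
    {i : ZMod (2 * M₀)} (hi : i ∈ gens M₀) :
    ev (fun a => if sgnA a = s then β else 0) i = 0 := by
  obtain ⟨h0, hM⟩ := mem_gens.1 hi
  have e1 : ∑ a : ZMod (2 * M₀), (stdAddChar (a * i) : ℂ) = 0 := by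
    rw [Finset.sum_congr rfl fun a _ => by rw [mul_comm a i], sum_stdAddChar_mul, if_neg h0]
  have e2 : ∑ a : ZMod (2 * M₀), (sgnA a : ℂ) * (stdAddChar (a * i) : ℂ) = 0 := by
    rw [Finset.sum_congr rfl fun a _ => by
      rw [← stdAddChar_mul_M, ← AddChar.map_add_eq_mul, ← mul_add,
        mul_comm a ((M₀ : ZMod (2 * M₀)) + i)],
      sum_stdAddChar_mul, if_neg]
    intro h
    refine hM ?_
    have hdd : (M₀ : ZMod (2 * M₀)) + M₀ = 0 := by
      rw [← Nat.cast_add, ← two_mul M₀, ZMod.natCast_self]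
    linear_combination h - hdd
  calc ev (fun a => if sgnA a = s then β else 0) i
      = (β : ℂ) / 2 * (∑ a : ZMod (2 * M₀), (stdAddChar (a * i) : ℂ) +
          (s : ℂ) * ∑ a : ZMod (2 * M₀), (sgnA a : ℂ) * (stdAddChar (a * i) : ℂ)) := by
        rw [ev, Finset.mul_sum, ← Finset.sum_add_distrib, Finset.mul_sum]
        refine Finset.sum_congr rfl fun a _ => ?_
        rcases hs with rfl | rfl <;> rcases sgnA_eq a with h | h <;> simp [h] <;> ring
    _ = 0 := by rw [e1, e2]; ring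

variable {M : Ideal AlgInt} [M.IsMaximal] [Fact (Nat.Prime 2)] [CharP (AlgInt ⧸ M) 2]
  {B : Set (IrrCharacter G)} {P : Subgroup G} {e : MonoidAlgebra (AlgInt ⧸ M) G} {σ τ : G}
  {M₀ r : ℕ} [NeZero (2 * M₀)]

/-- An integral vector orthogonal to the columns is orthogonal to the admissible combinations. -/
theorem perp_dotc {v : IrrCharacter G → ℤ} {m : IrrCharacter G → ZMod (2 * M₀) → ℤ}
    (h : ∀ i ∈ gens M₀, ∑ χ ∈ bFin B, (v χ : ℂ) * ev (m χ) i = 0)
    {c : ZMod (2 * M₀) → ℤ} (hc : Adm c) : ∑ χ ∈ bFin B, v χ * dotc c (m χ) = 0 := by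
  have h' : ((2 * M₀ : ℕ) : ℂ) * ∑ χ ∈ bFin B, (v χ : ℂ) * (dotc c (m χ) : ℂ) = 0 := by
    rw [Finset.mul_sum, Finset.sum_congr rfl fun χ _ => by
      rw [mul_left_comm, dotc_eq_sum hc, Finset.mul_sum], Finset.sum_comm]
    refine Finset.sum_eq_zero fun i hi => ?_
    rw [Finset.sum_congr rfl fun χ _ => (mul_assoc _ _ _).symm, ← Finset.sum_mul, h i hi, zero_mul]
  have h'' := (mul_eq_zero.1 h').resolve_left (Nat.cast_ne_zero.2 (NeZero.ne _))
  exact_mod_cast h''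

namespace RotParam

variable {m : IrrCharacter G → ZMod (2 * M₀) → ℤ} {sg : IrrCharacter G → ℤ}
  (hR : RotParam B P e σ M₀ r m sg)
include hR

theorem sg_eq (χ : IrrCharacter G) : sg χ = 1 ∨ sg χ = -1 :=
  Int.isUnit_iff.1 (IsUnit.of_mul_eq_one _ (hR.sg_sq χ))

theorem out_even : ∀ χ ∈ bFin B, χ ∉ posRows B sg → ∀ a, sgnA a = 1 → m χ a = 0 := by
  intro χ hχ hn a ha
  by_contra hne
  refine hn (mem_posRows.2 ⟨mem_bFin.1 hχ, ?_⟩)
  rw [← hR.sep χ a hne, ha]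

theorem pos_odd_zero {χ : IrrCharacter G} (hχ : χ ∈ posRows B sg) {a : ZMod (2 * M₀)}
    (ha : sgnA a = -1) : m χ a = 0 := by
  by_contra hne
  have h := hR.sep χ a hne
  rw [ha, (mem_posRows.1 hχ).2] at h
  norm_num at h

theorem neg_even_zero {χ : IrrCharacter G} (hχ : sg χ = -1) {a : ZMod (2 * M₀)}
    (ha : sgnA a = 1) : m χ a = 0 := by
  by_contra hne
  have h := hR.sep χ a hne
  rw [ha, hχ] at h
  norm_num at h

/-- The column of a positive row only sees differences. -/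
theorem ev_sub_const {χ : IrrCharacter G} (hχ : χ ∈ posRows B sg) (β : ℤ) {i : ZMod (2 * M₀)}
    (hi : i ∈ gens M₀) :
    ev (m χ) i = ev (fun a => if sgnA a = 1 then m χ a - β else 0) i := by
  rw [← add_zero (ev (fun a => if sgnA a = 1 then m χ a - β else 0) i),
    ← ev_class_const β (Or.inl rfl) hi, ev, ev, ev, ← Finset.sum_add_distrib]
  refine Finset.sum_congr rfl fun a _ => ?_
  rcases sgnA_eq a with h | h
  · simp [h]
    ring
  · simp [h, hR.pos_odd_zero hχ h]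

end RotParam

namespace Ctx

variable (c : Ctx M B P e σ τ M₀ r) {m : IrrCharacter G → ZMod (2 * M₀) → ℤ}
  {sg : IrrCharacter G → ℤ} (hR : RotParam B P e σ M₀ r m sg)
include c hR

theorem cols_of_rotParam : Cols B M₀ r m := hR.rotSect.cols c

theorem hz_pos {χ : IrrCharacter G} (hχ : χ ∈ hzFin B) : χ ∈ posRows B sg :=
  mem_posRows.2 ⟨(mem_hzFin.1 hχ).1, c.sg_of_height_zero hR (mem_hzFin.1 hχ).1 (mem_hzFin.1 hχ).2⟩

/-- A row of height zero has `m χ 0 + m χ M₀` odd. -/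
theorem hz_odd {χ : IrrCharacter G} (hχ : χ ∈ hzFin B) :
    Odd (m χ 0 + m χ (M₀ : ZMod (2 * M₀))) := by
  have hD := c.data
  have hpM := c.pM
  obtain ⟨hB, h0⟩ := mem_hzFin.1 hχ
  obtain ⟨hh0, hhM⟩ := hD.half_ne
  set hh : ZMod (2 * M₀) := ((M₀ / 2 : ℕ) : ZMod (2 * M₀)) with hhh
  have hsgn : ∀ a : ZMod (2 * M₀), sgnA a = 1 →
      ∃ t : ℤ, (t = 1 ∨ t = -1) ∧ (stdAddChar (a * hh) : ℂ) = t := by
    intro a ha
    have h2 : (stdAddChar (a * hh) : ℂ) * stdAddChar (a * hh) = 1 := by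
      rw [← AddChar.map_add_eq_mul, ← mul_add, hD.half_add, stdAddChar_mul_M, ha, Int.cast_one]
    rcases mul_self_eq_one_iff.1 h2 with h | h
    · exact ⟨1, Or.inl rfl, by rw [h, Int.cast_one]⟩
    · exact ⟨-1, Or.inr rfl, by rw [h]; norm_num⟩
  have hex : ∀ a, ∃ z : ℤ, (m χ a : ℂ) * stdAddChar (a * hh) = z ∧ ∃ k, z = m χ a + 2 * k := by
    intro a
    rcases sgnA_eq a with ha | ha
    · obtain ⟨t, ht, hta⟩ := hsgn a ha
      refine ⟨m χ a * t, by rw [hta]; push_cast; rfl, ?_⟩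
      rcases ht with rfl | rfl
      · exact ⟨0, by ring⟩
      · exact ⟨-m χ a, by ring⟩
    · exact ⟨0, by rw [hR.pos_odd_zero (c.hz_pos hR hχ) ha]; simp,
        0, by rw [hR.pos_odd_zero (c.hz_pos hR hχ) ha]; ring⟩
  choose z hz k hk using hex
  set I : ℤ := ∑ a, z a with hI
  have hev : ev (m χ) hh = (I : ℂ) := by
    rw [ev, hI, Int.cast_sum]
    exact Finset.sum_congr rfl fun a _ => hz a
  have hoddI : Odd I := by
    rw [← Int.not_even_iff_odd, even_iff_two_dvd]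
    intro hdvd
    obtain ⟨-, hdef, -⟩ := c.exists_nested_rot hh0 hhM
    obtain ⟨j, hj⟩ := exists_orderOf_mem c.isMax.1.1.1 (hD.rot_mem hh)
    refine not_memLocalIdeal_contribution hpM hj
      (isInducedBlock_eU hpM c.block c.isMax.1 (hD.rot_mem hh)) hB h0 hB h0 ?_
    rw [← mU_eq_contribution, hdef, hR.sect hh hh0 hhM χ χ, hev, map_intCast, ← Int.cast_mul]
    exact (memLocalIdeal_intCast_iff hpM _).2 (dvd_mul_of_dvd_left (by exact_mod_cast hdvd) _)
  have hpar : (2 : ℤ) ∣ I - (m χ 0 + m χ (M₀ : ZMod (2 * M₀))) := by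
    have hs : (2 : ℤ) ∣ I - ∑ a, m χ a := by
      rw [hI, ← Finset.sum_sub_distrib]
      exact Finset.dvd_sum fun a _ => ⟨k a, by rw [hk a]; ring⟩
    have hsum := hD.sum_symm c (m χ) (hR.symm χ)
    obtain ⟨j, hj⟩ := hs
    exact ⟨j + ∑ a ∈ pairReps M₀ r, m χ a, by linarith⟩
  rw [Int.odd_iff] at hoddI ⊢
  omega

/-- The outer vectors are orthogonal to the rotation columns. -/
theorem outer_perp {O : Finset G} (hO : IsOuter P e σ τ M₀ O) {y : G} (hy : y ∈ O)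
    {a : IrrCharacter G → ℤ}
    (ha : ∀ χ ∈ B, ∀ ψ ∈ B, 4 * mU 2 P e y χ ψ = (a χ : ℂ) * a ψ)
    {χ : IrrCharacter G} (hχ : χ ∈ B) (hne : a χ ≠ 0) :
    ∀ i ∈ gens M₀, ∑ ψ ∈ bFin B, (a ψ : ℂ) * ev (m ψ) i = 0 := by
  intro i hi
  obtain ⟨h0, hM⟩ := mem_gens.1 hi
  have h := hR.rotSect.orth_other c hi (c.outer_mem hO hy)
    (fun h => c.not_fus_rot_outer h0 hM hO hy (by rw [add_zero] at h; exact h.symm)) hχ
  refine (mul_eq_zero.1 (?_ : (a χ : ℂ) * ∑ ψ ∈ bFin B, (a ψ : ℂ) * ev (m ψ) i = 0)).resolve_left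
    (Int.cast_ne_zero.2 hne)
  rw [← mul_zero (4 : ℂ), ← h, Finset.mul_sum, Finset.mul_sum]
  refine Finset.sum_congr rfl fun ψ hψ => ?_
  rw [← mul_assoc, ← ha χ hχ ψ (mem_bFin.1 hψ), mul_assoc]

omit hR in
/-- Two outer vectors are orthogonal. -/
theorem outer_orth {O : Finset G} (hO : IsOuter P e σ τ M₀ O) {y y' : G} (hy : y ∈ O) (hy' : y' ∈ O)
    (hne : y ≠ y') {a a' : IrrCharacter G → ℤ}
    (ha : ∀ χ ∈ B, ∀ ψ ∈ B, 4 * mU 2 P e y χ ψ = (a χ : ℂ) * a ψ)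
    (ha' : ∀ χ ∈ B, ∀ ψ ∈ B, 4 * mU 2 P e y' χ ψ = (a' χ : ℂ) * a' ψ)
    {χ : IrrCharacter G} (hχ : χ ∈ B) (h1 : a χ ≠ 0) (h2 : a' χ ≠ 0) :
    ∑ ψ ∈ bFin B, a ψ * a' ψ = 0 := by
  have h := orth c.pM c.block c.isMax (c.outer_mem hO hy) (c.outer_mem hO hy')
    (fun h => hne (hO.inj y hy y' hy' h)) hχ hχ
  have h' : (a χ : ℂ) * a' χ * ((∑ ψ ∈ bFin B, a ψ * a' ψ : ℤ) : ℂ) = 0 := by
    rw [← mul_zero ((4 : ℂ) * 4), ← h, Int.cast_sum, Finset.mul_sum, Finset.mul_sum]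
    refine Finset.sum_congr rfl fun ψ hψ => ?_
    have e1 := ha χ hχ ψ (mem_bFin.1 hψ)
    have e2 := ha' ψ (mem_bFin.1 hψ) χ hχ
    push_cast
    linear_combination (-(a' ψ : ℂ) * a' χ) * e1 - (4 * mU 2 P e y χ ψ) * e2
  exact_mod_cast (mul_eq_zero.1 h').resolve_left
    (mul_ne_zero (Int.cast_ne_zero.2 h1) (Int.cast_ne_zero.2 h2))

end Ctx

end Cfsg.Agent.TameBlock
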