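import Cfsg.Agent.Lib.TameBlock.Outer
import Cfsg.Agent.Lib.BlocksX.KleinSections
import Cfsg.Agent.Lib.PrimeParts.Basic

/-!
# An integrality criterion

With `z` central: an integral combination of characters of sign one, orthogonal to the rotation
columns and to the outer subsections, vanishes off the sections of `1` and `z`; hence twice its
inner product with any `χ°` is an integer.
-/

set_option autoImplicit false
set_option linter.unusedSectionVars false
set_option linter.style.haveILetI false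

namespace Cfsg.Agent.TameBlock

open Cfsg Blocks MonoidAlgebra
open Cfsg.Agent.BrauerPairs (blk blkG conjEl IsMax IsPair regDot regDot_comm exists_int_regDot)
open Cfsg.Agent.Blocks.NilRank
open scoped Classical ComplexConjugate

universe u

variable {G : Type u} [Group G] [Fintype G] {M : Ideal AlgInt} [M.IsMaximal]

/-- Two-element variant of `BlocksX.Klein.memLocalRing_div_centralizer`: `z` is a central
involution acting trivially on the combination, which vanishes outside the sections of `1`, `z`. -/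
theorem memLocalRing_two_div_centralizer [Fact (Nat.Prime 2)] (hpM : ((2 : ℕ) : AlgInt) ∈ M)
    (a : IrrCharacter G → ℂ) (ha : ∀ ν, MemLocalRing M (a ν)) {z : G}
    (hz : ∀ g : G, g * z = z * g) (hz2 : z * z = 1) (hz1 : z ≠ 1)
    (hza : ∀ g : G, ∑ ν, a ν * ν.1 (z * g) = ∑ ν, a ν * ν.1 g)
    (h0 : ∀ g : G, ¬ IsPRegular 2 g → ¬ IsPRegular 2 (z * g) → ∑ ν, a ν * ν.1 g = 0)
    {x : G} (hx : IsPRegular 2 x) :
    MemLocalRing M (2 * (∑ ν, a ν * ν.1 x) /
      (Nat.card (Subgroup.centralizer ({x} : Set G)) : ℂ)) := by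
  haveI := Fintype.ofFinite (Subgroup.centralizer ({x} : Set G))
  set C := Subgroup.centralizer ({x} : Set G) with hC
  have hzC : z ∈ C := Subgroup.mem_centralizer_singleton_iff.2 (hz x).symm
  set zC : C := ⟨z, hzC⟩ with hzC'
  have hzord : orderOf zC = 2 := by
    refine orderOf_eq_prime (Subtype.ext ?_) fun h => hz1 (congrArg Subtype.val h)
    show (zC : G) ^ 2 = 1
    rw [pow_two]
    exact hz2
  obtain ⟨Q⟩ := (inferInstance : Nonempty (Sylow 2 C))
  have hzQ : zC ∈ (Q : Subgroup C) := by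
    haveI : (Subgroup.zpowers zC).Normal := ⟨fun n hn g => by
      obtain ⟨i, rfl⟩ := Subgroup.mem_zpowers_iff.1 hn
      refine Subgroup.mem_zpowers_iff.2 ⟨i, ?_⟩
      have hc : Commute g zC := Subtype.ext (hz g)
      rw [(hc.zpow_right i).eq, mul_inv_cancel_right]⟩
    have hp : IsPGroup 2 (Subgroup.zpowers zC) :=
      IsPGroup.of_card (n := 1) (by rw [Nat.card_zpowers, hzord, pow_one])
    obtain ⟨Q', hQ'⟩ := hp.exists_le_sylow
    obtain ⟨g, rfl⟩ := MulAction.exists_smul_eq C Q' Q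
    have hmem : zC ∈ (Q' : Subgroup C) := hQ' (Subgroup.mem_zpowers zC)
    rw [Sylow.coe_subgroup_smul, Subgroup.mem_pointwise_smul_iff_inv_smul_mem]
    convert hmem using 1
    show (MulAut.conj g)⁻¹ zC = zC
    rw [MulAut.inv_def, MulAut.conj_symm_apply]
    have hc : Commute g zC := Subtype.ext (hz g)
    rw [mul_assoc, hc.symm.eq, inv_mul_cancel_left]
  haveI := Fintype.ofFinite (Q : Subgroup C)
  have hexp : ∀ (ν : IrrCharacter G) (c : C), ν.1 (x * c) =
      ∑ η : IrrCharacter C, secScalar η * classInner (fun k : C => ν.1 k) η.1 * η.1 c := fun ν c => by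
    have h := congrFun (Char.eq_sum_classInner_smul
      (isClassFunction_secFun (x := x) ν.1 (irr_classFun ν))) c
    refine h.trans ?_
    simp [Finset.sum_apply, classInner_secFun]
    rfl
  have hloc : ∀ ν : IrrCharacter G, MemLocalRing M
      ((Nat.card (Q : Subgroup C) : ℂ)⁻¹ * ∑ q : (Q : Subgroup C), ν.1 (x * ((q : C) : G))) := by
    intro ν
    simp only [hexp, Finset.sum_comm (s := (Finset.univ : Finset (Q : Subgroup C))), ← Finset.mul_sum]
    rw [Finset.mul_sum]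
    refine MemLocalRing.sum _ fun η _ => ?_
    obtain ⟨m, hm⟩ := Char.IsCharacter.exists_nat_classInner
      (Char.IsCharacter.restrict (Char.irr_isCharacter ν) C) (Char.irr_isCharacter η)
    obtain ⟨n, hn⟩ := BlocksX.Klein.classInner_eq_nat
      (Char.IsCharacter.restrict (Char.irr_isCharacter η) (Q : Subgroup C))
    rw [show (Nat.card (Q : Subgroup C) : ℂ)⁻¹ * (secScalar η *
        classInner (fun k : C => ν.1 k) η.1 * ∑ q : (Q : Subgroup C), η.1 q) =
      secScalar η * (m : ℂ) * (n : ℂ) by rw [← hn, hm]; ring]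
    exact memLocalRing_of_isIntegral
      (((BlocksX.Klein.isIntegral_secScalar η).mul
        (map_natCast (algebraMap ℤ ℂ) m ▸ isIntegral_algebraMap)).mul
        (map_natCast (algebraMap ℤ ℂ) n ▸ isIntegral_algebraMap))
  set zQ : (Q : Subgroup C) := ⟨zC, hzQ⟩ with hzQ'
  have hne : (1 : (Q : Subgroup C)) ≠ zQ := fun h =>
    hz1 (congrArg (fun q : (Q : Subgroup C) => ((q : C) : G)) h.symm)
  have hreg : ∀ q : (Q : Subgroup C), IsPRegular 2 (x * ((q : C) : G)) → q = 1 := by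
    intro q hr
    obtain ⟨j, hj⟩ := Q.2 q
    have hqp : ∃ k, orderOf ((q : C) : G) = 2 ^ k := by
      obtain ⟨i, -, hi⟩ := (Nat.dvd_prime_pow Nat.prime_two).1 (orderOf_dvd_of_pow_eq_one hj)
      exact ⟨i, by rw [Subgroup.orderOf_coe, Subgroup.orderOf_coe, hi]⟩
    have hc : Commute ((q : C) : G) x := Subgroup.mem_centralizer_singleton_iff.1 (q : C).2
    rw [← hc.eq] at hr
    have hone : IsPPart 2 (((q : C) : G) * x) 1 :=
      ⟨_, one_mul _, Commute.one_left _, ⟨0, by simp⟩, hr⟩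
    exact Subtype.ext (Subtype.ext (IsPPart.unique (isPPart_mul hc hqp hx) hone))
  have hvan : ∀ q : (Q : Subgroup C), q ≠ 1 ∧ q ≠ zQ →
      ∑ ν, a ν * ν.1 (x * ((q : C) : G)) = 0 := by
    rintro q ⟨hq1, hqz⟩
    refine h0 _ (fun hr => hq1 (hreg q hr)) fun hr => hqz ?_
    have e : z * (x * ((q : C) : G)) = x * (((zQ * q : (Q : Subgroup C)) : C) : G) := by
      rw [← mul_assoc, ← hz x, mul_assoc]
      rfl
    rw [e] at hr
    have h1 := hreg _ hr
    have h2 : zQ * zQ = 1 := Subtype.ext (Subtype.ext hz2)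
    calc q = zQ * zQ * q := by rw [h2, one_mul]
      _ = zQ := by rw [mul_assoc, h1, mul_one]
  have hval : 2 * (∑ ν, a ν * ν.1 x) / (Nat.card (Q : Subgroup C) : ℂ) = ∑ ν, a ν *
      ((Nat.card (Q : Subgroup C) : ℂ)⁻¹ * ∑ q : (Q : Subgroup C), ν.1 (x * ((q : C) : G))) := by
    rw [div_eq_inv_mul, Finset.sum_congr (s₁ := (Finset.univ : Finset (IrrCharacter G))) rfl
      fun ν _ => (mul_left_comm (a ν) (Nat.card (Q : Subgroup C) : ℂ)⁻¹ _)]
    rw [← Finset.mul_sum]
    congr 1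
    symm
    rw [Finset.sum_congr rfl fun ν _ => Finset.mul_sum _ _ _, Finset.sum_comm,
      Finset.sum_eq_add_of_mem (1 : (Q : Subgroup C)) zQ (Finset.mem_univ _) (Finset.mem_univ _) hne
        fun q _ hq => hvan q hq, two_mul]
    refine congrArg₂ (· + ·) ?_ ?_
    · simp
    · rw [← hza x]
      exact Finset.sum_congr rfl fun ν _ => by rw [← hz x]
  have hidx : ¬ 2 ∣ (Q : Subgroup C).index := Q.not_dvd_index
  rw [← (Q : Subgroup C).card_mul_index, Nat.cast_mul, ← div_div, hval, div_eq_mul_inv]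
  exact MemLocalRing.mul (MemLocalRing.sum _ fun ν _ => MemLocalRing.mul (ha ν) (hloc ν))
    (memLocalRing_inv_natCast hpM hidx)

variable [Fact (Nat.Prime 2)] [CharP (AlgInt ⧸ M) 2] {B : Set (IrrCharacter G)} {P : Subgroup G}
  {e : MonoidAlgebra (AlgInt ⧸ M) G} {σ τ : G} {M₀ r : ℕ}

namespace Ctx

variable (c : Ctx M B P e σ τ M₀ r) [NeZero (2 * M₀)]
include c

/-- An orthogonal combination of sign one has integral doubled inner products with `η°`. -/
theorem exists_int_two_regDot (hcen : σ ^ M₀ ∈ Subgroup.center G)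
    {m : IrrCharacter G → ZMod (2 * M₀) → ℤ} {sg : IrrCharacter G → ℤ}
    (hR : RotParam B P e σ M₀ r m sg) {O : Finset G} (hO : IsOuter P e σ τ M₀ O)
    {v : IrrCharacter G → ℤ} (hv : ∀ χ, v χ ≠ 0 → χ ∈ B ∧ sg χ = 1)
    (hrot : ∀ i ∈ gens M₀, ∑ χ ∈ bFin B, (v χ : ℂ) * ev (m χ) i = 0)
    (hout : ∀ y ∈ O, ∀ ψ ∈ B, ∑ χ ∈ bFin B, (v χ : ℂ) * mU 2 P e y χ ψ = 0)
    {η : IrrCharacter G} (hη : η ∈ B) :
    ∃ k : ℤ, 2 * ∑ χ ∈ bFin B, (v χ : ℂ) * regDot 2 η.1 χ.1 = (k : ℂ) := by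
  have hD := c.data
  have hpM := c.pM
  set z := σ ^ M₀ with hzdef
  have hzt : ∀ g : G, g * z = z * g := fun g => Subgroup.mem_center_iff.1 hcen g
  have hGz : Subgroup.centralizer ({z} : Set G) = ⊤ :=
    eq_top_iff.2 fun x _ => Subgroup.mem_centralizer_singleton_iff.2 (hzt x)
  set f : G → ℂ := fun g => ∑ χ, (v χ : ℂ) * χ.1 g with hf
  have hzf : ∀ g, f (z * g) = f g := fun g => Finset.sum_congr rfl fun χ _ => by
    by_cases h : v χ = 0
    · simp [h]
    · obtain ⟨hχ, hs⟩ := hv χ h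
      rw [apply_zmul hGz, c.zScal_eq_sg hcen hR hχ, hs, Int.cast_one, one_mul]
  have hG0 : (Nat.card G : ℂ) ≠ 0 := Nat.cast_ne_zero.2 Nat.card_pos.ne'
  have hinner : ∀ F : IrrCharacter G → G → ℂ,
      ∑ g, (∑ χ, (v χ : ℂ) * F χ g) * conj (f g) =
      (Nat.card G : ℂ) * ∑ χ, ∑ ψ, (v χ : ℂ) * v ψ * classInner (F χ) ψ.1 := by
    intro F
    simp only [hf, classInner, Finset.sum_mul, map_sum, Finset.mul_sum, map_mul, map_intCast]
    rw [Finset.sum_comm]
    conv_rhs => rw [Finset.sum_comm]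
    refine Finset.sum_congr rfl fun χ _ => ?_
    rw [Finset.sum_comm]
    refine Finset.sum_congr rfl fun ψ _ => Finset.sum_congr rfl fun g _ => ?_
    field_simp
  have hB : ∀ χ, v χ ≠ 0 → χ ∈ B := fun χ h => (hv χ h).1
  have hquad : ∀ F : IrrCharacter G → IrrCharacter G → ℂ,
      ∑ χ, ∑ ψ, (v χ : ℂ) * v ψ * F χ ψ = ∑ χ ∈ bFin B, ∑ ψ ∈ bFin B, (v χ : ℂ) * v ψ * F χ ψ := by
    intro F
    symm
    refine (Finset.sum_congr rfl fun χ _ => Finset.sum_subset (Finset.subset_univ _) fun ψ _ hψ => ?_).trans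
      (Finset.sum_subset (Finset.subset_univ _) fun χ _ hχ => ?_)
    · simp [of_not_not (mt (hB ψ) (mt mem_bFin.2 hψ))]
    · simp [of_not_not (mt (hB χ) (mt mem_bFin.2 hχ))]
  have hquad1 : ∑ χ ∈ bFin B, ∑ ψ ∈ bFin B, (v χ : ℂ) * v ψ * (if χ = ψ then 1 else 0) =
      2 * ∑ χ ∈ bFin B, ∑ ψ ∈ bFin B, (v χ : ℂ) * v ψ * regDot 2 χ.1 ψ.1 := by
    have hrot0 : ∀ i ∈ gens M₀,
        ∑ χ ∈ bFin B, ∑ ψ ∈ bFin B, (v χ : ℂ) * v ψ * mU 2 P e (rot σ i) χ ψ = 0 := by
      intro i hi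
      refine (mul_eq_zero.1 ?_).resolve_left (Nat.cast_ne_zero.2 (NeZero.ne (2 * M₀)) :
        ((2 * M₀ : ℕ) : ℂ) ≠ 0)
      rw [Finset.mul_sum]
      obtain ⟨h0, hM⟩ := mem_gens.1 hi
      calc ∑ χ ∈ bFin B, ((2 * M₀ : ℕ) : ℂ) *
            ∑ ψ ∈ bFin B, (v χ : ℂ) * v ψ * mU 2 P e (rot σ i) χ ψ
          = ∑ χ ∈ bFin B, (v χ : ℂ) * ev (m χ) i *
              ∑ ψ ∈ bFin B, (v ψ : ℂ) * conj (ev (m ψ) i) := by
            refine Finset.sum_congr rfl fun χ _ => ?_
            rw [Finset.mul_sum, Finset.mul_sum]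
            refine Finset.sum_congr rfl fun ψ _ => ?_
            rw [mul_left_comm, hR.sect i h0 hM χ ψ]
            ring
        _ = 0 := by rw [← Finset.sum_mul, hrot i hi, zero_mul]
    have hO0 : ∀ y ∈ O, ∑ χ ∈ bFin B, ∑ ψ ∈ bFin B, (v χ : ℂ) * v ψ * mU 2 P e y χ ψ = 0 := by
      intro y hy
      rw [Finset.sum_comm]
      refine Finset.sum_eq_zero fun ψ hψ => ?_
      rw [Finset.sum_congr rfl fun χ _ => show (v χ : ℂ) * v ψ * mU 2 P e y χ ψ =
        (v ψ : ℂ) * ((v χ : ℂ) * mU 2 P e y χ ψ) by ring, ← Finset.mul_sum,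
        hout y hy ψ (mem_bFin.1 hψ), mul_zero]
    have hstep : ∀ χ ∈ bFin B, ∀ ψ ∈ bFin B, (v χ : ℂ) * v ψ * (if χ = ψ then 1 else 0) =
        2 * ((v χ : ℂ) * v ψ * regDot 2 χ.1 ψ.1) +
          ((1 / 2 : ℂ) * ∑ i ∈ gens M₀, (v χ : ℂ) * v ψ * mU 2 P e (rot σ i) χ ψ +
            ∑ y ∈ O, (v χ : ℂ) * v ψ * mU 2 P e y χ ψ) := by
      intro χ hχ ψ hψ
      by_cases h : v χ = 0
      · simp [h]
      by_cases h' : v ψ = 0
      · simp [h']
      rw [← c.identity_split hO (mem_bFin.1 hχ) ψ, hR.z_sect χ (mem_bFin.1 hχ) ψ, (hv χ h).2,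
        (hv ψ h').2, mU_one hpM c.block c.isMax (mem_bFin.1 hχ) ψ, ← Finset.mul_sum, ← Finset.mul_sum]
      push_cast
      ring
    rw [Finset.sum_congr rfl fun χ hχ => Finset.sum_congr rfl fun ψ hψ => hstep χ hχ ψ hψ]
    have hA : ∑ χ ∈ bFin B, ∑ ψ ∈ bFin B,
        ∑ i ∈ gens M₀, (v χ : ℂ) * v ψ * mU 2 P e (rot σ i) χ ψ = 0 := by
      rw [Finset.sum_congr rfl fun χ (_ : χ ∈ bFin B) => Finset.sum_comm, Finset.sum_comm]
      exact Finset.sum_eq_zero hrot0
    have hC : ∑ χ ∈ bFin B, ∑ ψ ∈ bFin B, ∑ y ∈ O, (v χ : ℂ) * v ψ * mU 2 P e y χ ψ = 0 := by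
      rw [Finset.sum_congr rfl fun χ (_ : χ ∈ bFin B) => Finset.sum_comm, Finset.sum_comm]
      exact Finset.sum_eq_zero hO0
    simp only [Finset.mul_sum] at hA hC ⊢
    simp only [Finset.sum_add_distrib, ← Finset.mul_sum] at hA hC ⊢
    rw [hA, hC]
    ring
  have hvan : ∀ g, ¬ IsPRegular 2 g → ¬ IsPRegular 2 (z * g) → f g = 0 := by
    have htot : ∑ g, f g * conj (f g) =
        (Nat.card G : ℂ) * ∑ χ ∈ bFin B, ∑ ψ ∈ bFin B, (v χ : ℂ) * v ψ * (if χ = ψ then 1 else 0) := by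
      rw [show ∑ g, f g * conj (f g) = ∑ g, (∑ χ, (v χ : ℂ) * χ.1 g) * conj (f g) from rfl,
        hinner (fun χ => χ.1), hquad]
      simp only [Char.classInner_irr]
    have hregsum : ∑ g ∈ Finset.univ.filter (IsPRegular 2), f g * conj (f g) =
        (Nat.card G : ℂ) * ∑ χ ∈ bFin B, ∑ ψ ∈ bFin B, (v χ : ℂ) * v ψ * regDot 2 χ.1 ψ.1 := by
      rw [← hquad,
        show ∑ χ, ∑ ψ, (v χ : ℂ) * v ψ * regDot 2 χ.1 ψ.1 =
          ∑ χ, ∑ ψ, (v χ : ℂ) * v ψ * classInner (Char.regFun 2 χ.1) ψ.1 from rfl,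
        ← hinner (fun χ => Char.regFun 2 χ.1), Finset.sum_filter]
      refine Finset.sum_congr rfl fun g _ => ?_
      by_cases hg : IsPRegular 2 g
      · have hg' : ¬ 2 ∣ orderOf g := hg
        simp [hg, Char.regFun, hg', hf]
      · have hg' : 2 ∣ orderOf g := not_not.1 hg
        simp [hg, Char.regFun, hg']
    have hzsum : ∑ g ∈ Finset.univ.filter (fun g => IsPRegular 2 (z * g)), f g * conj (f g) =
        ∑ g ∈ Finset.univ.filter (IsPRegular 2), f g * conj (f g) := by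
      refine Finset.sum_equiv (Equiv.mulLeft z) (fun g => ?_) fun g _ => ?_
      · simp
      · simp [hzf]
    have hdisj : Disjoint (Finset.univ.filter (IsPRegular 2 : G → Prop))
        (Finset.univ.filter fun g => IsPRegular 2 (z * g)) := by
      rw [Finset.disjoint_left]
      intro g hg hg'
      simp only [Finset.mem_filter, Finset.mem_univ, true_and] at hg hg'
      have hpp : IsPPart 2 (z * g) z :=
        isPPart_mul (hzt g).symm ⟨1, by rw [hD.orderOf_z, pow_one]⟩ hg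
      have hone : IsPPart 2 (z * g) 1 := ⟨_, one_mul _, Commute.one_left _, ⟨0, by simp⟩, hg'⟩
      exact hD.z_ne (IsPPart.unique hpp hone)
    set U := Finset.univ.filter (IsPRegular 2 : G → Prop) ∪
      Finset.univ.filter fun g => IsPRegular 2 (z * g) with hU
    have hsplit : ∑ g ∈ Finset.univ \ U, f g * conj (f g) + ∑ g ∈ U, f g * conj (f g) =
        ∑ g, f g * conj (f g) := Finset.sum_sdiff (Finset.subset_univ U)
    have hUval : ∑ g ∈ U, f g * conj (f g) =
        ∑ g ∈ Finset.univ.filter (IsPRegular 2), f g * conj (f g) +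
          ∑ g ∈ Finset.univ.filter (fun g => IsPRegular 2 (z * g)), f g * conj (f g) :=
      Finset.sum_union hdisj
    rw [hUval, hzsum, hregsum, htot, hquad1] at hsplit
    have h0 : ∑ g ∈ Finset.univ \ U, f g * conj (f g) = 0 := by linear_combination hsplit
    simp only [Complex.mul_conj, ← Complex.ofReal_sum, Complex.ofReal_eq_zero] at h0
    intro g hg hg'
    exact Complex.normSq_eq_zero.1 ((Finset.sum_eq_zero_iff_of_nonneg fun g _ =>
      Complex.normSq_nonneg (f g)).1 h0 g (by simp [hU, hg, hg']))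
  -- the inner product, class by class
  set F : G → ℂ := fun g => if IsPRegular 2 g then f g * conj (η.1 g) else 0 with hF
  have hFclass : ∀ g x : G, F (x * g * x⁻¹) = F g := by
    intro g x
    have hr : IsPRegular 2 (x * g * x⁻¹) ↔ IsPRegular 2 g := by
      unfold IsPRegular
      rw [show x * g * x⁻¹ = MulAut.conj x g from rfl, MulEquiv.orderOf_eq]
    simp only [hF, hr, hf]
    split_ifs with h
    · rw [irr_classFun η, Finset.sum_congr rfl fun χ _ => by rw [irr_classFun χ]]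
    · rfl
  have hc : ∑ χ ∈ bFin B, (v χ : ℂ) * regDot 2 η.1 χ.1 = (Nat.card G : ℂ)⁻¹ * ∑ g, F g := by
    rw [Finset.sum_congr rfl fun χ _ => by rw [regDot_comm Fact.out η χ],
      Finset.sum_subset (Finset.subset_univ (bFin B)) fun χ _ hχ => by
        simp [of_not_not (mt (hB χ) (mt mem_bFin.2 hχ))]]
    simp only [regDot, classInner, hF, hf, Finset.mul_sum, Finset.sum_mul]
    rw [Finset.sum_comm]
    refine Finset.sum_congr rfl fun g _ => ?_
    by_cases hg : IsPRegular 2 g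
    · have hg' : ¬ 2 ∣ orderOf g := hg
      simp only [Char.regFun, if_neg hg', if_pos hg, Finset.sum_mul, Finset.mul_sum]
      exact Finset.sum_congr rfl fun χ _ => by ring
    · have hg' : 2 ∣ orderOf g := not_not.1 hg
      simp [Char.regFun, hg', hg]
  have hloc : MemLocalRing M (2 * ∑ χ ∈ bFin B, (v χ : ℂ) * regDot 2 η.1 χ.1) := by
    haveI : Fintype (ConjClasses G) := Fintype.ofFinite _
    rw [hc, ← Finset.sum_fiberwise Finset.univ ConjClasses.mk F, Finset.mul_sum, Finset.mul_sum]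
    refine MemLocalRing.sum _ fun C _ => ?_
    obtain ⟨x, rfl⟩ := ConjClasses.mk_surjective C
    have hfib : ∀ g ∈ Finset.univ.filter (fun g => ConjClasses.mk g = ConjClasses.mk x),
        F g = F x := fun g hg => by
      obtain ⟨u, hu⟩ := isConj_iff.1 (ConjClasses.mk_eq_mk_iff_isConj.1 (Finset.mem_filter.1 hg).2).symm
      rw [← hu, hFclass]
    rw [Finset.sum_congr rfl hfib, Finset.sum_const, nsmul_eq_mul]
    by_cases hx : IsPRegular 2 x
    swap
    · simp [hF, hx, memLocalRing_zero]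
    set Cx := Subgroup.centralizer ({x} : Set G)
    have hk : (Finset.univ.filter fun g => ConjClasses.mk g = ConjClasses.mk x).card = Cx.index := by
      rw [← PrimeParts.ncard_carrier x, Set.ncard_eq_toFinset_card']
      congr 1
      ext g
      simp [ConjClasses.mem_carrier_iff_mk_eq]
    have hmain := memLocalRing_two_div_centralizer hpM (fun χ => (v χ : ℂ))
      (fun χ => memLocalRing_intCast _) hzt hD.z_sq hD.z_ne hzf hvan hx
    have hη : MemLocalRing M (conj (η.1 x)) := by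
      rw [Char.IsCharacter.conj_apply (Char.irr_isCharacter η)]
      exact memLocalRing_of_isIntegral (CharInt.isIntegral_char (Char.irr_isCharacter η) _)
    have hi : (Cx.index : ℂ) ≠ 0 := Nat.cast_ne_zero.2 Subgroup.index_ne_zero_of_finite
    have heq : 2 * ((Nat.card G : ℂ)⁻¹ *
        ((Finset.univ.filter fun g => ConjClasses.mk g = ConjClasses.mk x).card * F x)) =
        2 * (∑ χ, (v χ : ℂ) * χ.1 x) / (Nat.card Cx : ℂ) * conj (η.1 x) := by
      rw [hk, ← Cx.card_mul_index, show F x = f x * conj (η.1 x) from if_pos hx]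
      push_cast
      field_simp
      simp only [hf]
      ring
    rw [heq]
    exact MemLocalRing.mul hmain hη
  -- the denominators are powers of two
  obtain ⟨n, hn⟩ := exists_int_regDot hpM Fact.out c.block hη
  set d := blockDefect 2 B
  set W : ℤ := 2 * ∑ χ ∈ bFin B, v χ * n χ with hW
  have hWd : 2 * ∑ χ ∈ bFin B, (v χ : ℂ) * regDot 2 η.1 χ.1 = (W : ℂ) / ((2 ^ d : ℕ) : ℂ) := by
    rw [eq_div_iff (Nat.cast_ne_zero.2 (pow_ne_zero d two_ne_zero)), hW]
    push_cast
    rw [mul_assoc, Finset.sum_mul]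
    congr 1
    refine Finset.sum_congr rfl fun χ _ => ?_
    rw [← hn χ]
    push_cast
    ring
  rw [hWd, Char.memLocalRing_intCast_div_iff hpM W (pow_ne_zero d two_ne_zero),
    Nat.Prime.factorization_pow Nat.prime_two, Finsupp.single_eq_same] at hloc
  obtain ⟨k, hk⟩ := hloc
  refine ⟨k, ?_⟩
  rw [hWd, hk]
  push_cast
  field_simp

end Ctx

end Cfsg.Agent.TameBlock
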