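import Cfsg.Agent.Lib.TameBlock.Proj
import Cfsg.Agent.Lib.DihedralDefect.Local
import Cfsg.Agent.Lib.BrauerPairs.InducedIn

/-!
# Subsections seen inside the centralizer of an element of the defect group

For `x ∈ P` fully centralized, the block `b` at `x` has a maximal pair on `C_P(x)` below `(P, e)`;
the subsections at `u` with `C(u) ≤ C(x)` and their contributions come from `b`.
-/

set_option autoImplicit false
set_option linter.unusedSectionVars false
set_option linter.style.haveILetI false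

namespace Cfsg.Agent.TameBlock

open Cfsg Blocks MonoidAlgebra
open Cfsg.Agent.BrauerPairs (blk blkG IsBlockIdem br conjEl conjPair IsMax PLE IsPair IsPairOf incl
  inclPair hasBlocks isBlockIdem_blkG mapBlock)
open Cfsg.Agent.Blocks.NilRank
open Cfsg.Agent.DihedralDefect (cenIso)
open scoped Classical ComplexConjugate

universe u

variable {G : Type u} [Group G] [Fintype G] {M : Ideal AlgInt} [M.IsMaximal] {p : ℕ}
  [hp : Fact p.Prime] [CharP (AlgInt ⧸ M) p] {B : Set (IrrCharacter G)} {P : Subgroup G}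
  {e : MonoidAlgebra (AlgInt ⧸ M) G}

/-- `(Q, e')` is a maximal pair of the block `b` of `H` compatible with `(P, e)`. -/
structure Nested (p : ℕ) (P : Subgroup G) (e : MonoidAlgebra (AlgInt ⧸ M) G) (H : Subgroup G)
    (b : Set (IrrCharacter H)) (Q : Subgroup H) (e' : MonoidAlgebra (AlgInt ⧸ M) H) : Prop where
  block : IsPBlock M b
  isMax : IsMax p (blkG M b) (Q, e')
  mem : ∀ u ∈ Q, (u : G) ∈ P
  eU_incl : ∀ u ∈ Q, Subgroup.centralizer ({(u : G)} : Set G) ≤ H →
    eU p P e (u : G) = incl H (AlgInt ⧸ M) (eU p Q e' u)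

/-- A fully centralized element. -/
theorem nested_of_full (hB : IsPBlock M B) (ha : IsMax p (blkG M B) (P, e)) {x : G}
    (hx : x ∈ P) (hfull : ∀ v ∈ P, Fus p P e x v →
      Nat.card (P ⊓ Subgroup.centralizer ({v} : Set G) : Subgroup G) ≤
        Nat.card (P ⊓ Subgroup.centralizer ({x} : Set G) : Subgroup G)) :
    IsDefectGroup p M (blkSet M (Subgroup.centralizer ({x} : Set G)) (eU p P e x))
        ((P ⊓ Subgroup.centralizer ({x} : Set G)).subgroupOf (Subgroup.centralizer ({x} : Set G))) ∧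
      ∃ e' : MonoidAlgebra (AlgInt ⧸ M) (Subgroup.centralizer ({x} : Set G)),
        Nested p P e (Subgroup.centralizer ({x} : Set G))
          (blkSet M (Subgroup.centralizer ({x} : Set G)) (eU p P e x))
          ((P ⊓ Subgroup.centralizer ({x} : Set G)).subgroupOf (Subgroup.centralizer ({x} : Set G)))
          e' := by
  have hblk : ∀ H : Subgroup G, BrauerPairs.HasBlocks (AlgInt ⧸ M) H := fun H => hasBlocks M H
  have hBi := isBlockIdem_blkG hB
  obtain ⟨hb, hbe⟩ := blkSet_spec (isBlockIdem_eU ha.1.1 hx)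
  have hC := centralizer_zpowers_eq (x := x)
  set H := Subgroup.centralizer ({x} : Set G) with hH
  set R := P ⊓ H with hR
  have hD : BrauerPairs.DefectIn p H (eU p P e x) R := by
    have h := (BrauerPairs.forall_centralizer_le_iff hblk hBi ha (eU_spec ha.1.1 hx)).1
      fun g hg => by
        rw [map_conj_zpowers, centralizer_zpowers_eq, centralizer_zpowers_eq]
        have hle := (BrauerPairs.bhom_iff hblk ha.1.1 (eU_spec ha.1.1 hx) g).1 hg
        have hv : g * x * g⁻¹ ∈ P :=
          BrauerPairs.PLE.le hle ⟨x, Subgroup.mem_zpowers x, rfl⟩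
        refine hfull _ hv ⟨g, rfl, (eU_eq ha.1.1 hv ?_).symm⟩
        rwa [show conjPair g (Subgroup.zpowers x, eU p P e x) =
          (Subgroup.zpowers (g * x * g⁻¹), conjEl g (eU p P e x)) from
            Prod.ext (map_conj_zpowers g x) rfl] at hle
    rwa [hC] at h
  refine ⟨(BrauerPairs.isDefectGroup_subgroupOf_iff hb inf_le_right).2 (by rwa [hbe]), ?_⟩
  obtain ⟨fR, hfR⟩ := BrauerPairs.exists_ple hblk ha.1.1 R inf_le_left
  have hpR := hfR.isPair_left ha.1.1
  have hxR : Subgroup.zpowers x ≤ R :=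
    Subgroup.zpowers_le.2 ⟨hx, Subgroup.mem_centralizer_singleton_iff.2 rfl⟩
  obtain ⟨fx, hfx⟩ := BrauerPairs.exists_ple hblk hpR (Subgroup.zpowers x) hxR
  have hfxe : eU p P e x = fx := eU_eq ha.1.1 hx (hfx.trans hfR)
  have hstep := PLE.step_of_le_normalizer hblk hfx (hfx.isPair_left hpR)
    ((inf_le_right : R ≤ H).trans (hC.ge.trans (Subgroup.centralizer_le_normalizer _)))
  have hbrR : br R (eU p P e x) * fR = fR := hfxe ▸ hstep.2.2.2.2.2
  obtain ⟨c, hc, rfl⟩ := BrauerPairs.exists_eq_blk (Subgroup.centralizer (R : Set G)) hpR.2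
  have hCle : Subgroup.centralizer (R : Set G) ≤ H := fun v hv =>
    Subgroup.mem_centralizer_singleton_iff.2
      (Subgroup.mem_centralizer_iff.1 hv x (hxR (Subgroup.mem_zpowers x))).symm
  obtain ⟨e', he', hinc⟩ := BrauerPairs.exists_maximalPair_sub hb (by rwa [hbe]) hCle hc
    (by rwa [hbe])
  obtain ⟨-, hmax'⟩ := (BrauerPairs.isMaximalBrauerPair_iff hb).1 he'
  refine ⟨_, hb, hmax', fun u hu => (Subgroup.mem_subgroupOf.1 hu).1, fun u hu hCu => ?_⟩
  have hu' : (u : G) ∈ P := (Subgroup.mem_subgroupOf.1 hu).1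
  refine eU_eq ha.1.1 hu' ?_
  have hzu : (Subgroup.zpowers u).map H.subtype = Subgroup.zpowers (u : G) :=
    H.subtype.map_zpowers u
  have h := PLE.of_incl (H := H) (eU_spec hmax'.1.1 hu) (by
    show Subgroup.centralizer (((Subgroup.zpowers u).map H.subtype : Subgroup G) : Set G) ≤ H
    rwa [hzu, centralizer_zpowers_eq])
  simp only [inclPair] at h
  rw [hzu, Subgroup.map_subgroupOf_eq_of_le (inf_le_right : R ≤ H), hinc] at h
  exact h.trans hfR

namespace Nested

variable {H : Subgroup G} {b : Set (IrrCharacter H)} {Q : Subgroup H}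
  {e' : MonoidAlgebra (AlgInt ⧸ M) H} (hN : Nested p P e H b Q e')
include hN

theorem blkSet_eq {u : H} (hu : u ∈ Q) (hC : Subgroup.centralizer ({(u : G)} : Set G) ≤ H) :
    blkSet M (Subgroup.centralizer ({(u : G)} : Set G)) (eU p P e (u : G)) =
      mapBlock (cenIso hC) (blkSet M (Subgroup.centralizer ({u} : Set H)) (eU p Q e' u)) := by
  obtain ⟨h1, h2⟩ := blkSet_spec (isBlockIdem_eU hN.isMax.1.1 hu)
  conv_lhs => rw [hN.eU_incl u hu hC, ← h2, ← DihedralDefect.blk_mapBlock_cenIso hC]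
  exact blkSet_blk (BrauerPairs.isPBlock_mapBlock _ h1)

theorem blockRank_eq {u : H} (hu : u ∈ Q) (hC : Subgroup.centralizer ({(u : G)} : Set G) ≤ H) :
    blockRank p (blkSet M (Subgroup.centralizer ({(u : G)} : Set G)) (eU p P e (u : G))) =
      blockRank p (blkSet M (Subgroup.centralizer ({u} : Set H)) (eU p Q e' u)) := by
  rw [hN.blkSet_eq hu hC, Watanabe.blockRank_mapBlock]

/-- Contributions inside `H`. -/
theorem mU_eq (hpM : (p : AlgInt) ∈ M) {u : H} (hu : u ∈ Q)
    (hC : Subgroup.centralizer ({(u : G)} : Set G) ≤ H) (χ ψ : IrrCharacter G) :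
    mU p P e (u : G) χ ψ = ∑ η ∈ bFin b, ∑ η' ∈ bFin b,
      classInner (fun h : H => χ.1 h) η.1 * conj (classInner (fun h : H => ψ.1 h) η'.1) *
        mU p Q e' u η η' := by
  set b' := blkSet M (Subgroup.centralizer ({u} : Set H)) (eU p Q e' u) with hb'
  have hind : IsInducedBlock M (Subgroup.centralizer ({u} : Set H)) b' b :=
    isInducedBlock_eU hpM hN.block hN.isMax.1 hu
  obtain ⟨k, hk⟩ := exists_orderOf_mem hN.isMax.1.1.1 hu
  have hexp : ∀ φ : IrrCharacter G, (fun h : H => φ.1 h) =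
      ∑ η : IrrCharacter H, classInner (fun h : H => φ.1 h) η.1 • η.1 := fun φ =>
    Char.eq_sum_classInner_smul (Char.IsCharacter.isClassFunction
      (Char.IsCharacter.restrict (Char.irr_isCharacter φ) H))
  have hzero : ∀ η η' : IrrCharacter H, η ∉ b → mU p Q e' u η η' = 0 := by
    intro η η' hη
    have hnot : ¬ IsInducedBlock M (Subgroup.centralizer ({u} : Set H)) b' (blockOf M η.1) :=
      fun h => hη (by
        rw [IsInducedBlock.unique hind h]; exact BrauerPairs.mem_blockOf_self η)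
    unfold mU sectF
    rw [finsum_eq_sum_of_fintype]
    refine mul_eq_zero_of_right _ (Finset.sum_eq_zero fun s _ => ?_)
    split_ifs with hs
    · have h0 := second_main_centralizer (p := p) hpM ⟨k, hk⟩ hind.1 hnot
        (h := (⟨u, Subgroup.mem_centralizer_singleton_iff.2 rfl⟩ * s :
          Subgroup.centralizer ({u} : Set H)))
        (isPPart_mul (Subgroup.mem_centralizer_singleton_iff.1 s.2).symm ⟨k, hk⟩
          (by rw [IsPRegular, Subgroup.orderOf_coe]; exact hs))
      simp only [Subgroup.coe_mul] at h0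
      rw [h0, zero_mul]
    · rfl
  have hzero' : ∀ η η' : IrrCharacter H, η' ∉ b → mU p Q e' u η η' = 0 := fun η η' hη' => by
    rw [← conj_mU hpM hN.isMax.1.1 hu, hzero η' η hη', map_zero]
  rw [mU, hN.blkSet_eq hu hC, DihedralDefect.sectF_cenIso hC, hexp χ, hexp ψ,
    DihedralDefect.sectF_sum]
  refine (Finset.sum_subset (Finset.subset_univ (bFin b)) fun η _ hη => ?_).symm.trans
    (Finset.sum_congr rfl fun η hη => ?_)
  · exact Finset.sum_eq_zero fun η' _ =>
      mul_eq_zero_of_right _ (hzero η η' (mt mem_bFin.2 hη))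
  refine (Finset.sum_subset (Finset.subset_univ (bFin b)) fun η' _ hη' => ?_).symm.trans
    (Finset.sum_congr rfl fun η' _ => ?_)
  · exact mul_eq_zero_of_right _ (hzero' η η' (mt mem_bFin.2 hη'))
  · rw [← hexp χ, ← hexp ψ]
    rfl

/-- A conjugation inside `H` seen in `G` comes from `H`. -/
theorem fus_sub {u v : H} (hu : u ∈ Q) (hv : v ∈ Q)
    (hCu : Subgroup.centralizer ({(u : G)} : Set G) ≤ H) {g : G} (hg : g ∈ H)
    (huv : g * (u : G) * g⁻¹ = v) (he : conjEl g (eU p P e u) = eU p P e v) :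
    Fus p Q e' u v := by
  have hCv : Subgroup.centralizer ({(v : G)} : Set G) ≤ H := fun c hc => by
    rw [← huv, mem_centralizer_conj] at hc
    simpa [mul_assoc] using mul_mem (mul_mem hg (hCu hc)) (inv_mem hg)
  rw [hN.eU_incl u hu hCu, hN.eU_incl v hv hCv] at he
  exact ⟨⟨g, hg⟩, Subtype.ext huv,
    BrauerPairs.incl_injective H ((BrauerPairs.conjEl_incl (⟨g, hg⟩ : H) _).trans he)⟩

/-- Conjugate subsections of `H` are conjugate in `G`. -/
theorem fus_sup {u v : H} (hu : u ∈ Q) (hv : v ∈ Q)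
    (hCu : Subgroup.centralizer ({(u : G)} : Set G) ≤ H) (h : Fus p Q e' u v) :
    Fus p P e (u : G) (v : G) := by
  obtain ⟨g, rfl, he⟩ := h
  have hCv : Subgroup.centralizer ({((g * u * g⁻¹ : H) : G)} : Set G) ≤ H := fun c hc => by
    simp only [Subgroup.coe_mul, Subgroup.coe_inv] at hc
    rw [mem_centralizer_conj] at hc
    simpa [mul_assoc] using mul_mem (mul_mem g.2 (hCu hc)) (inv_mem g.2)
  refine ⟨g, rfl, ?_⟩
  rw [hN.eU_incl u hu hCu, hN.eU_incl _ hv hCv, ← BrauerPairs.conjEl_incl, he]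

end Nested

end Cfsg.Agent.TameBlock
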