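import Cfsg.Agent.Lib.TameBlock.Group
import Cfsg.Agent.Lib.TameBlock.Nest
import Cfsg.Agent.Lib.TameBlock.Criterion

/-!
# The subsections of a block with quaternion or semidihedral defect group

The classes of subsections are: `1`, `z`, the `M₀ - 1` pairs of generic rotations, and at most two
classes outside the rotations; all but the first two have rank one.
-/

set_option autoImplicit false
set_option linter.unusedSectionVars false
set_option linter.style.haveILetI false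

namespace Cfsg.Agent.TameBlock

open Cfsg Blocks MonoidAlgebra
open Cfsg.Agent.BrauerPairs (blk blkG conjEl IsMax IsPair hasBlocks isBlockIdem_blkG)
open Cfsg.Agent.Blocks.NilRank
open scoped Classical ComplexConjugate

universe u

variable {G : Type u} [Group G] [Fintype G] {M : Ideal AlgInt} [M.IsMaximal]
  [Fact (Nat.Prime 2)] [CharP (AlgInt ⧸ M) 2]

/-- A block with a maximal pair on a quaternion or semidihedral group. -/
structure Ctx (M : Ideal AlgInt) [M.IsMaximal] (B : Set (IrrCharacter G)) (P : Subgroup G)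
    (e : MonoidAlgebra (AlgInt ⧸ M) G) (σ τ : G) (M₀ r : ℕ) : Prop where
  modular : IsPModular 2 M
  block : IsPBlock M B
  isMax : IsMax 2 (blkG M B) (P, e)
  data : TData P σ τ M₀ r

/-- The element of order four in the cyclic subgroup. -/
def wElt (σ : G) (M₀ : ℕ) : G := rot σ ((M₀ / 2 : ℕ) : ZMod (2 * M₀))

/-- The exponents of the generic rotations. -/
noncomputable def gens (M₀ : ℕ) [NeZero (2 * M₀)] : Finset (ZMod (2 * M₀)) :=
  Finset.univ.filter fun i => i ≠ 0 ∧ i ≠ (M₀ : ZMod (2 * M₀))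

/-- The pairs of generic rotations. -/
noncomputable def pairReps (M₀ r : ℕ) [NeZero (2 * M₀)] : Finset (ZMod (2 * M₀)) :=
  (gens M₀).filter fun i => i.val < ((r : ZMod (2 * M₀)) * i).val

/-- The representatives. -/
noncomputable def repSet (σ : G) (M₀ r : ℕ) [NeZero (2 * M₀)] (O : Finset G) : Finset G :=
  ({1, σ ^ M₀} : Finset G) ∪ ((pairReps M₀ r).image (rot σ) ∪ O)

/-- Representatives of the classes outside the rotations that avoid `w` and `z`. -/
structure IsOuter (P : Subgroup G) (e : MonoidAlgebra (AlgInt ⧸ M) G) (σ τ : G) (M₀ : ℕ)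
    (O : Finset G) : Prop where
  sub : ∀ y ∈ O, y = τ ∨ y = τ * σ
  avoid : ∀ y ∈ O, ¬ Fus 2 P e (wElt σ M₀) y ∧ ¬ Fus 2 P e (σ ^ M₀) y
  inj : ∀ y ∈ O, ∀ y' ∈ O, Fus 2 P e y y' → y = y'
  cover : ∀ y, y = τ ∨ y = τ * σ →
    Fus 2 P e (wElt σ M₀) y ∨ Fus 2 P e (σ ^ M₀) y ∨ ∃ o ∈ O, Fus 2 P e o y

theorem exists_isOuter (P : Subgroup G) (e : MonoidAlgebra (AlgInt ⧸ M) G) (σ τ : G) (M₀ : ℕ) :
    ∃ O, IsOuter P e σ τ M₀ O := by
  let ok : G → Prop := fun y => ¬ Fus 2 P e (wElt σ M₀) y ∧ ¬ Fus 2 P e (σ ^ M₀) y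
  by_cases h : ok τ ∧ Fus 2 P e τ (τ * σ)
  · refine ⟨{τ}, ⟨fun y hy => Or.inl (Finset.mem_singleton.1 hy),
      fun y hy => Finset.mem_singleton.1 hy ▸ h.1,
      fun y hy y' hy' _ => (Finset.mem_singleton.1 hy).trans (Finset.mem_singleton.1 hy').symm,
      fun y hy => Or.inr (Or.inr ⟨τ, Finset.mem_singleton_self τ, ?_⟩)⟩⟩
    rcases hy with rfl | rfl
    exacts [Fus.refl _, h.2]
  refine ⟨({τ, τ * σ} : Finset G).filter ok, ⟨fun y hy => ?_, fun y hy => (Finset.mem_filter.1 hy).2,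
    ?_, fun y hy => ?_⟩⟩
  · simpa using (Finset.mem_filter.1 hy).1
  · intro y hy y' hy' hf
    obtain ⟨h1, h2⟩ := Finset.mem_filter.1 hy
    obtain ⟨h1', h2'⟩ := Finset.mem_filter.1 hy'
    simp only [Finset.mem_insert, Finset.mem_singleton] at h1 h1'
    rcases h1 with rfl | rfl <;> rcases h1' with rfl | rfl
    · rfl
    · exact absurd ⟨h2, hf⟩ h
    · exact absurd ⟨h2', hf.symm⟩ h
    · rfl
  · by_cases hok : ok y
    · exact Or.inr (Or.inr ⟨y, Finset.mem_filter.2 ⟨by simpa using hy, hok⟩, Fus.refl _⟩)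
    · rw [show ok y = (¬ _ ∧ ¬ _) from rfl, not_and_or, not_not, not_not] at hok
      rcases hok with h' | h'
      exacts [Or.inl h', Or.inr (Or.inl h')]

namespace Ctx

variable {B : Set (IrrCharacter G)} {P : Subgroup G} {e : MonoidAlgebra (AlgInt ⧸ M) G} {σ τ : G}
  {M₀ r : ℕ} (c : Ctx M B P e σ τ M₀ r)
include c

theorem pM : ((2 : ℕ) : AlgInt) ∈ M := c.modular.2.2

theorem pair : IsPair 2 (P, e) := c.isMax.1.1

theorem w_mem : wElt σ M₀ ∈ P := c.data.rot_mem _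

theorem w_pow_four : wElt σ M₀ ^ 4 = 1 := by
  have hD := c.data
  rw [wElt, hD.rot_pow, show ((4 : ℕ) : ZMod (2 * M₀)) * (M₀ / 2 : ℕ) = 0 by
    push_cast
    linear_combination (2 : ZMod (2 * M₀)) * hD.half_add + hD.M_double, hD.rot_zero]

theorem not_fus_z_rot {i : ZMod (2 * M₀)} (h0 : i ≠ 0) (hM : i ≠ M₀) :
    ¬ Fus 2 P e (σ ^ M₀) (rot σ i) := fun h => by
  have hD := c.data
  have h2 : rot σ i ^ 2 = 1 :=
    orderOf_dvd_iff_pow_eq_one.1 (by rw [h.orderOf_eq, hD.orderOf_z])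
  rw [hD.rot_pow] at h2
  rcases hD.gen_of_two_mul (i := i) (by linear_combination hD.rot_eq_one h2) with h | h
  exacts [h0 h, hM h]

theorem fus_one {v : G} (h : Fus 2 P e 1 v) : v = 1 := by
  obtain ⟨g, rfl, -⟩ := h
  group

theorem not_fus_one {v : G} (hv : v ≠ 1) : ¬ Fus 2 P e 1 v := fun h => hv (c.fus_one h)

theorem not_fus_one_z : ¬ Fus 2 P e 1 (σ ^ M₀) := c.not_fus_one c.data.z_ne

theorem outer_ne_one (i : ZMod (2 * M₀)) : τ * rot σ i ≠ 1 := fun h =>
  c.data.τ_mul_rot_not i (h ▸ one_mem _)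

theorem sub_outer {y : G} (hy : y = τ ∨ y = τ * σ) :
    ∃ i : ZMod (2 * M₀), y = τ * rot σ i := by
  rcases hy with rfl | rfl
  exacts [⟨0, by rw [c.data.rot_zero, mul_one]⟩, ⟨1, by rw [c.data.rot_one]⟩]

/-- The image of a generic rotation has a small centralizer in `P`. -/
theorem card_centralizer_le {i : ZMod (2 * M₀)} (h0 : i ≠ 0) (hM : i ≠ M₀) {v : G} (hv : v ∈ P)
    (h : Fus 2 P e (rot σ i) v) :
    Nat.card (P ⊓ Subgroup.centralizer ({v} : Set G) : Subgroup G) ≤ 2 * M₀ := by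
  have hD := c.data
  have h2 := hD.two_le
  rcases hD.cover hv with ⟨j, rfl⟩ | ⟨j, rfl⟩
  · have hj0 : j ≠ 0 := fun hj => h0 (hD.rot_eq_one (c.fus_one (by
      rw [← hD.rot_zero, ← hj]; exact h.symm)))
    have hjM : j ≠ M₀ := fun hj => c.not_fus_z_rot h0 hM (by rw [← hD.z_eq, ← hj]; exact h.symm)
    rw [hD.inf_centralizer_rot hj0 hjM, Nat.card_zpowers, hD.order]
  · rw [hD.card_inf_centralizer_outer]
    omega

theorem card_centralizer_rot {i : ZMod (2 * M₀)} (h0 : i ≠ 0) (hM : i ≠ M₀) :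
    Nat.card (P ⊓ Subgroup.centralizer ({rot σ i} : Set G) : Subgroup G) = 2 * M₀ := by
  rw [c.data.inf_centralizer_rot h0 hM, Nat.card_zpowers, c.data.order]

/-- The subsection at a generic rotation, nested in its centralizer. -/
theorem exists_nested_rot {i : ZMod (2 * M₀)} (h0 : i ≠ 0) (hM : i ≠ M₀) :
    IsNilpotentBlock 2 M
        (blkSet M (Subgroup.centralizer ({rot σ i} : Set G)) (eU 2 P e (rot σ i))) ∧
      2 ^ blockDefect 2 (blkSet M (Subgroup.centralizer ({rot σ i} : Set G))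
        (eU 2 P e (rot σ i))) = 2 * M₀ ∧
      ∃ e', Nested 2 P e (Subgroup.centralizer ({rot σ i} : Set G))
        (blkSet M (Subgroup.centralizer ({rot σ i} : Set G)) (eU 2 P e (rot σ i)))
        ((P ⊓ Subgroup.centralizer ({rot σ i} : Set G)).subgroupOf
          (Subgroup.centralizer ({rot σ i} : Set G))) e' := by
  have hD := c.data
  have hu := hD.rot_mem i
  obtain ⟨hdef, e', hN⟩ := nested_of_full c.block c.isMax hu fun v hv h => by
    rw [c.card_centralizer_rot h0 hM]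
    exact c.card_centralizer_le h0 hM hv h
  have hb := hN.block
  refine ⟨?_, ?_, e', hN⟩
  · obtain ⟨a, ha⟩ := hD.two_pow
    refine isNilpotentBlock_of_odd_fix hb hdef fun x hx Q hQ hQx q hq => ?_
    have hQX : Q.map (Subgroup.centralizer ({rot σ i} : Set G)).subtype ≤ Subgroup.zpowers σ := by
      rw [← hD.inf_centralizer_rot h0 hM]
      rintro _ ⟨w, hw, rfl⟩
      exact Subgroup.mem_subgroupOf.1 (hQ hw)
    refine Subtype.ext ?_
    refine fix_of_le_zpowers (a := a) (by rw [hD.order, ha, pow_succ']) (x := (x : G))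
      (by rwa [Subgroup.orderOf_coe]) hQX ?_ (q : G) ⟨q, hq, rfl⟩
    rintro _ ⟨w, hw, rfl⟩
    exact ⟨_, hQx w hw, rfl⟩
  · rw [← card_defectGroup c.pM hb hdef,
      Nat.card_congr (Subgroup.subgroupOfEquivOfLe inf_le_right).toEquiv,
      c.card_centralizer_rot h0 hM]

theorem blockRank_rot {i : ZMod (2 * M₀)} (h0 : i ≠ 0) (hM : i ≠ M₀) :
    blockRank 2 (blkSet M (Subgroup.centralizer ({rot σ i} : Set G)) (eU 2 P e (rot σ i))) = 1 :=
  blockRank_eq_one_of_nilpotent c.modular (c.exists_nested_rot h0 hM).1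

theorem fus_w_inv : Fus 2 P e (wElt σ M₀) (rot σ (-((M₀ / 2 : ℕ) : ZMod (2 * M₀)))) := by
  have hD := c.data
  have h := Fus.of_conj c.pair c.w_mem hD.τ_mem
  rwa [wElt, hD.τ_conj_rot, hD.r_mul_half] at h

/-- An image of order at most four of a generic rotation is conjugate to `w`. -/
theorem fus_w_of_pow_four {i : ZMod (2 * M₀)} (h0 : i ≠ 0) (hM : i ≠ M₀) {v : G}
    (h : Fus 2 P e (rot σ i) v) (hv : v ^ 4 = 1) : Fus 2 P e (wElt σ M₀) v := by
  have h4 : rot σ i ^ 4 = 1 :=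
    orderOf_dvd_iff_pow_eq_one.1 (h.orderOf_eq ▸ orderOf_dvd_of_pow_eq_one hv)
  rcases c.data.pow_four_eq_one h4 h0 hM with rfl | rfl
  exacts [h, c.fus_w_inv.trans h]

/-- The classes of generic rotations. -/
theorem fus_rot {i : ZMod (2 * M₀)} (h0 : i ≠ 0) (hM : i ≠ M₀) {v : G} (hv : v ∈ P)
    (h : Fus 2 P e (rot σ i) v) :
    v = rot σ i ∨ v = rot σ ((r : ZMod (2 * M₀)) * i) ∨
      ((∃ j : ZMod (2 * M₀), v = τ * rot σ j) ∧ Fus 2 P e (wElt σ M₀) v) := by
  have hD := c.data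
  rcases hD.cover hv with ⟨j, rfl⟩ | ⟨j, rfl⟩
  swap
  · exact Or.inr (Or.inr ⟨⟨j, rfl⟩, c.fus_w_of_pow_four h0 hM h (hD.τ_rot_pow_four j)⟩)
  haveI := hD.neZero
  obtain ⟨hn0, hnM⟩ := hD.half_ne
  obtain ⟨k, hk⟩ := hD.exists_mul_eq_half h0 hM
  suffices hfix : ∀ (g : G) (j : ZMod (2 * M₀)), g * rot σ i * g⁻¹ = rot σ j →
      conjEl g (eU 2 P e (rot σ i)) = eU 2 P e (rot σ j) →
      g * wElt σ M₀ * g⁻¹ = wElt σ M₀ → j = i by
    obtain ⟨g, hg, hge⟩ := h
    have hkj : g * wElt σ M₀ * g⁻¹ = rot σ (k * j) := by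
      rw [wElt, ← hk, ← k.natCast_zmod_val, ← hD.rot_pow, ← hD.rot_pow, ← hg, conj_pow]
    have hne : ∀ t : ZMod (2 * M₀), t + t = 0 → k * j ≠ t := by
      intro t ht hkt
      have h2 : rot σ (k * j) ^ 2 = 1 := by
        rw [hD.rot_pow, hkt, Nat.cast_ofNat, two_mul t, ht, hD.rot_zero]
      rw [← hkj, conj_pow, conj_eq_one_iff, wElt, hD.rot_pow, Nat.cast_ofNat,
        two_mul (((M₀ / 2 : ℕ) : ZMod (2 * M₀))), hD.half_add] at h2
      exact hD.M_ne_zero (hD.rot_eq_one h2)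
    have h4 : rot σ (k * j) ^ 4 = 1 := by rw [← hkj, conj_pow, c.w_pow_four]; group
    rcases hD.pow_four_eq_one h4 (hne 0 (add_zero 0)) (hne _ hD.M_double) with h | h
    · left
      rw [hfix g j hg hge (by rw [hkj, h]; rfl)]
    · right; left
      have e1 : τ * g * rot σ i * (τ * g)⁻¹ = rot σ ((r : ZMod (2 * M₀)) * j) := by
        calc _ = τ * (g * rot σ i * g⁻¹) * τ⁻¹ := by group
          _ = _ := by rw [hg, hD.τ_conj_rot]
      have e2 : conjEl (τ * g) (eU 2 P e (rot σ i)) =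
          eU 2 P e (rot σ ((r : ZMod (2 * M₀)) * j)) := by
        rw [BrauerPairs.conjEl_mul, hge, ← eU_conj c.pair (hD.rot_mem j) hD.τ_mem, hD.τ_conj_rot]
      have e3 : τ * g * wElt σ M₀ * (τ * g)⁻¹ = wElt σ M₀ := by
        calc _ = τ * (g * wElt σ M₀ * g⁻¹) * τ⁻¹ := by group
          _ = wElt σ M₀ := by
            rw [hkj, h, hD.τ_conj_rot, mul_neg, hD.r_mul_half, neg_neg]
            rfl
      rw [← hfix _ _ e1 e2 e3, ← mul_assoc, hD.r_sq, one_mul]
  intro g j hg hge hgw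
  obtain ⟨hnil, -, e', hN⟩ := c.exists_nested_rot hn0 hnM
  set H := Subgroup.centralizer ({rot σ ((M₀ / 2 : ℕ) : ZMod (2 * M₀))} : Set G) with hH
  have hgH : g ∈ H := Subgroup.mem_centralizer_singleton_iff.2 (mul_inv_eq_iff_eq_mul.1 hgw)
  have hX : ∀ t : ZMod (2 * M₀), rot σ t ∈ P ⊓ H := fun t =>
    ⟨hD.rot_mem t, Subgroup.mem_centralizer_singleton_iff.2 (hD.rot_comm t _)⟩
  have hF := hN.fus_sub (u := ⟨_, (hX i).2⟩) (v := ⟨_, (hX j).2⟩)
    (Subgroup.mem_subgroupOf.2 (hX i)) (Subgroup.mem_subgroupOf.2 (hX j))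
    (hD.centralizer_le h0 hM) hgH hg hge
  obtain ⟨g', hg', he'⟩ := hF
  obtain ⟨t, ht, htv⟩ := exists_conj_of_eU hN.block hN.isMax
    ((BrauerPairs.isNilpotentBlock_iff hN.block).1 hnil) (Subgroup.mem_subgroupOf.2 (hX i))
    (Subgroup.mem_subgroupOf.2 (hX j)) hg' he'
  refine hD.rot_inj ?_
  have htX : (t : G) ∈ Subgroup.zpowers σ :=
    hD.inf_centralizer_rot hn0 hnM ▸ Subgroup.mem_subgroupOf.1 ht
  obtain ⟨t', ht'⟩ := hD.mem_zpowers_iff.1 htX
  have := congrArg (fun y : H => (y : G)) htv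
  simp only [Subgroup.coe_mul, Subgroup.coe_inv] at this
  rw [this, ← ht', hD.rot_comm t' i, mul_inv_cancel_right]

theorem not_fus_rot_rot {i j : ZMod (2 * M₀)} (h0 : i ≠ 0) (hM : i ≠ M₀) (hji : j ≠ i)
    (hjr : j ≠ (r : ZMod (2 * M₀)) * i) : ¬ Fus 2 P e (rot σ i) (rot σ j) := fun h => by
  have hD := c.data
  rcases c.fus_rot h0 hM (hD.rot_mem j) h with h | h | ⟨⟨t, ht⟩, -⟩
  · exact hji (hD.rot_inj h)
  · exact hjr (hD.rot_inj h)
  · exact hD.τ_mul_rot_not t (ht ▸ hD.rot_mem_zpowers j)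

theorem not_fus_rot_outer {i : ZMod (2 * M₀)} (h0 : i ≠ 0) (hM : i ≠ M₀) {O : Finset G}
    (hO : IsOuter P e σ τ M₀ O) {y : G} (hy : y ∈ O) : ¬ Fus 2 P e (rot σ i) y := fun h => by
  obtain ⟨j, rfl⟩ := c.sub_outer (hO.sub y hy)
  exact (hO.avoid _ hy).1 (c.fus_w_of_pow_four h0 hM h (c.data.τ_rot_pow_four j))

theorem outer_mem {O : Finset G} (hO : IsOuter P e σ τ M₀ O) {y : G} (hy : y ∈ O) : y ∈ P := by
  rcases hO.sub y hy with rfl | rfl
  exacts [c.data.τ_mem, mul_mem c.data.τ_mem c.data.σ_mem]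

/-- The subsection at a representative outside the rotations. -/
theorem outer_data {O : Finset G} (hO : IsOuter P e σ τ M₀ O) {y : G} (hy : y ∈ O) :
    blockRank 2 (blkSet M (Subgroup.centralizer ({y} : Set G)) (eU 2 P e y)) = 1 ∧
      2 ^ blockDefect 2 (blkSet M (Subgroup.centralizer ({y} : Set G)) (eU 2 P e y)) = 4 := by
  have hD := c.data
  obtain ⟨i, rfl⟩ := c.sub_outer (hO.sub y hy)
  obtain ⟨havw, havz⟩ := hO.avoid _ hy
  have hyP := c.outer_mem hO hy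
  have hy4 := hD.card_inf_centralizer_outer i
  obtain ⟨hdef, e', hN⟩ := nested_of_full c.block c.isMax hyP fun v hv h => by
    rw [hy4]
    rcases hD.cover hv with ⟨j, rfl⟩ | ⟨j, rfl⟩
    · exfalso
      rcases eq_or_ne j 0 with rfl | hj0
      · exact c.outer_ne_one i (c.fus_one (hD.rot_zero ▸ h.symm))
      rcases eq_or_ne j (M₀ : ZMod (2 * M₀)) with rfl | hjM
      · exact havz (hD.z_eq ▸ h.symm)
      exact havw (c.fus_w_of_pow_four hj0 hjM h.symm (hD.τ_rot_pow_four i))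
    · rw [hD.card_inf_centralizer_outer]
  refine ⟨blockRank_eq_one_of_nilpotent c.modular
    (isNilpotentBlock_of_odd_fix hN.block hdef fun x hx Q hQ hQx q hq => ?_), ?_⟩
  · refine Subtype.ext ?_
    refine fix_of_le_four hy4 (y := τ * rot σ i)
      ⟨hyP, Subgroup.mem_centralizer_singleton_iff.2 rfl⟩ (c.outer_ne_one i) (x := (x : G))
      (by rwa [Subgroup.orderOf_coe])
      (mul_inv_eq_iff_eq_mul.2 (Subgroup.mem_centralizer_singleton_iff.1 x.2))
      (Q := Q.map (Subgroup.centralizer ({τ * rot σ i} : Set G)).subtype) ?_ ?_ (q : G) ⟨q, hq, rfl⟩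
    · rintro _ ⟨w, hw, rfl⟩
      exact Subgroup.mem_subgroupOf.1 (hQ hw)
    · rintro _ ⟨w, hw, rfl⟩
      exact ⟨_, hQx w hw, rfl⟩
  · rw [← card_defectGroup c.pM hN.block hdef,
      Nat.card_congr (Subgroup.subgroupOfEquivOfLe inf_le_right).toEquiv, hy4]

theorem inf_centralizer_z : P ⊓ Subgroup.centralizer ({σ ^ M₀} : Set G) = P :=
  inf_eq_left.2 fun v hv => Subgroup.mem_centralizer_singleton_iff.2 (c.data.z_comm hv).symm

/-- The subsection at the central involution. -/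
theorem exists_nested_z :
    ∃ e', Nested 2 P e (Subgroup.centralizer ({σ ^ M₀} : Set G))
        (blkSet M (Subgroup.centralizer ({σ ^ M₀} : Set G)) (eU 2 P e (σ ^ M₀)))
        ((P ⊓ Subgroup.centralizer ({σ ^ M₀} : Set G)).subgroupOf
          (Subgroup.centralizer ({σ ^ M₀} : Set G))) e' ∧
      2 ^ blockDefect 2 (blkSet M (Subgroup.centralizer ({σ ^ M₀} : Set G))
        (eU 2 P e (σ ^ M₀))) = Nat.card P := by
  obtain ⟨hdef, e', hN⟩ := nested_of_full c.block c.isMax c.data.z_mem fun v _ _ => by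
    rw [c.inf_centralizer_z]
    exact Subgroup.card_le_of_le inf_le_left
  refine ⟨e', hN, ?_⟩
  rw [← card_defectGroup c.pM hN.block hdef,
    Nat.card_congr (Subgroup.subgroupOfEquivOfLe inf_le_right).toEquiv, c.inf_centralizer_z]

theorem pow_blockDefect : 2 ^ blockDefect 2 B = 4 * M₀ := by
  rw [← card_defectGroup c.pM c.block (BrauerPairs.isDefectGroup_of_isMax c.block c.isMax), c.data.card]

theorem blockDefect_z : blockDefect 2 (blkSet M (Subgroup.centralizer ({σ ^ M₀} : Set G))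
    (eU 2 P e (σ ^ M₀))) = blockDefect 2 B := by
  obtain ⟨-, -, hd⟩ := c.exists_nested_z
  refine Nat.pow_right_injective le_rfl ?_
  show 2 ^ _ = 2 ^ _
  rw [hd, c.pow_blockDefect, c.data.card]

theorem r_gen [NeZero (2 * M₀)] {i : ZMod (2 * M₀)} (hi : i ∈ gens M₀) :
    (r : ZMod (2 * M₀)) * i ∈ gens M₀ ∧ (r : ZMod (2 * M₀)) * i ≠ i := by
  have hD := c.data
  obtain ⟨-, h0, hM⟩ := Finset.mem_filter.1 hi
  have hinv : (r : ZMod (2 * M₀)) * ((r : ZMod (2 * M₀)) * i) = i := by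
    rw [← mul_assoc, hD.r_sq, one_mul]
  refine ⟨Finset.mem_filter.2 ⟨Finset.mem_univ _, fun h => h0 ?_, fun h => hM ?_⟩, fun h => ?_⟩
  · rw [← hinv, h, mul_zero]
  · rw [← hinv, h, hD.r_mul_M]
  · rcases hD.r_sub_one_mul.1 h with h | h
    exacts [h0 h, hM h]

theorem sum_gens [NeZero (2 * M₀)] {A : Type*} [AddCommMonoid A] (F : ZMod (2 * M₀) → A)
    (hF : ∀ i, F ((r : ZMod (2 * M₀)) * i) = F i) :
    ∑ i ∈ gens M₀, F i = ∑ i ∈ (pairReps M₀ r), F i + ∑ i ∈ (pairReps M₀ r), F i := by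
  have hD := c.data
  rw [← Finset.sum_filter_add_sum_filter_not (gens M₀)
    (fun i => i.val < ((r : ZMod (2 * M₀)) * i).val)]
  refine congrArg₂ _ rfl (Finset.sum_bij' (fun i _ => (r : ZMod (2 * M₀)) * i)
    (fun i _ => (r : ZMod (2 * M₀)) * i) (fun i hi => ?_) (fun i hi => ?_) (fun i _ => ?_)
    (fun i _ => ?_) fun i _ => (hF i).symm)
  · obtain ⟨hi, hlt⟩ := Finset.mem_filter.1 hi
    obtain ⟨h1, h2⟩ := c.r_gen hi
    refine Finset.mem_filter.2 ⟨h1, ?_⟩
    rw [← mul_assoc, hD.r_sq, one_mul]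
    exact lt_of_le_of_ne (not_lt.1 hlt) fun h => h2 (ZMod.val_injective _ h)
  · obtain ⟨hi, hlt⟩ := Finset.mem_filter.1 hi
    refine Finset.mem_filter.2 ⟨(c.r_gen hi).1, ?_⟩
    rw [← mul_assoc, hD.r_sq, one_mul]
    exact not_lt.2 hlt.le
  all_goals rw [← mul_assoc, hD.r_sq, one_mul]

theorem card_pairReps [NeZero (2 * M₀)] : (pairReps M₀ r).card = M₀ - 1 := by
  have hD := c.data
  have h := c.sum_gens (fun _ => 1) fun _ => rfl
  simp only [← Finset.card_eq_sum_ones] at h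
  have hg : (gens M₀).card + 2 = 2 * M₀ := by
    rw [show gens M₀ = Finset.univ \ {0, (M₀ : ZMod (2 * M₀))} by ext i; simp [gens],
      Finset.card_sdiff_of_subset (Finset.subset_univ _), Finset.card_univ, ZMod.card,
      Finset.card_pair hD.M_ne_zero.symm]
    have := hD.two_le
    omega
  omega

theorem isTransversal [NeZero (2 * M₀)] {O : Finset G} (hO : IsOuter P e σ τ M₀ O) :
    IsTransversal 2 P e ((repSet σ M₀ r O)) := by
  have hD := c.data
  have hcov' : ∀ {i : ZMod (2 * M₀)}, i ∈ gens M₀ →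
      ∃ u ∈ (repSet σ M₀ r O), Fus 2 P e u (rot σ i) := by
    intro i hi
    by_cases hlt : i.val < ((r : ZMod (2 * M₀)) * i).val
    · exact ⟨rot σ i, Finset.mem_union_right _ (Finset.mem_union_left _ (Finset.mem_image_of_mem _
        (Finset.mem_filter.2 ⟨hi, hlt⟩))), Fus.refl _⟩
    · obtain ⟨h1, h2⟩ := c.r_gen hi
      refine ⟨rot σ ((r : ZMod (2 * M₀)) * i), Finset.mem_union_right _ (Finset.mem_union_left _
        (Finset.mem_image_of_mem _ (Finset.mem_filter.2 ⟨h1, ?_⟩))), ?_⟩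
      · rw [← mul_assoc, hD.r_sq, one_mul]
        exact lt_of_le_of_ne (not_lt.1 hlt) fun h => h2 (ZMod.val_injective _ h)
      · rw [← hD.τ_conj_rot]
        exact (Fus.of_conj c.pair (hD.rot_mem i) hD.τ_mem).symm
  have hw : ((M₀ / 2 : ℕ) : ZMod (2 * M₀)) ∈ gens M₀ := Finset.mem_filter.2 ⟨Finset.mem_univ _, hD.half_ne⟩
  have hcases : ∀ u ∈ (repSet σ M₀ r O), u = 1 ∨ u = σ ^ M₀ ∨
      (∃ i, i ∈ (pairReps M₀ r) ∧ u = rot σ i) ∨ u ∈ O := by
    intro u hu
    simp only [repSet, Finset.mem_union, Finset.mem_insert, Finset.mem_singleton,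
      Finset.mem_image] at hu
    rcases hu with (h | h) | ⟨i, hi, rfl⟩ | h
    exacts [Or.inl h, Or.inr (Or.inl h), Or.inr (Or.inr (Or.inl ⟨i, hi, rfl⟩)),
      Or.inr (Or.inr (Or.inr h))]
  have hgen : ∀ {i}, i ∈ (pairReps M₀ r) → i ≠ 0 ∧ i ≠ (M₀ : ZMod (2 * M₀)) := fun hi =>
    (Finset.mem_filter.1 (Finset.mem_filter.1 hi).1).2
  refine ⟨fun u hu => ?_, fun v hv => ?_, fun u hu v hv huv => ?_⟩
  · rcases hcases u hu with rfl | rfl | ⟨i, -, rfl⟩ | h
    exacts [one_mem _, hD.z_mem, hD.rot_mem i, c.outer_mem hO h]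
  · rcases hD.cover hv with ⟨i, rfl⟩ | ⟨i, rfl⟩
    · rcases eq_or_ne i 0 with rfl | h0
      · exact ⟨1, by simp [repSet], by rw [hD.rot_zero]; exact Fus.refl _⟩
      rcases eq_or_ne i (M₀ : ZMod (2 * M₀)) with rfl | hM
      · exact ⟨σ ^ M₀, by simp [repSet], by rw [hD.z_eq]; exact Fus.refl _⟩
      exact hcov' (Finset.mem_filter.2 ⟨Finset.mem_univ _, h0, hM⟩)
    · obtain ⟨x, hx, hxy⟩ := hD.exists_conj_outer i
      have hF := Fus.of_conj c.pair hv hx
      suffices h : ∃ u ∈ (repSet σ M₀ r O), Fus 2 P e u (x * (τ * rot σ i) * x⁻¹) by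
        obtain ⟨u, hu, hu'⟩ := h
        exact ⟨u, hu, hu'.trans hF.symm⟩
      rcases hO.cover _ hxy with h | h | ⟨o, ho, h⟩
      · obtain ⟨u, hu, hu'⟩ := hcov' hw
        exact ⟨u, hu, hu'.trans h⟩
      · exact ⟨σ ^ M₀, by simp [repSet], h⟩
      · exact ⟨o, Finset.mem_union_right _ (Finset.mem_union_right _ ho), h⟩
  · have hr1 : ∀ {i}, i ∈ (pairReps M₀ r) → ¬ Fus 2 P e 1 (rot σ i) := fun hi =>
      c.not_fus_one fun h => (hgen hi).1 (hD.rot_eq_one h)
    have ho1 : ∀ {y}, y ∈ O → ¬ Fus 2 P e 1 y := fun {y} hy h => by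
      obtain ⟨i, rfl⟩ := c.sub_outer (hO.sub y hy)
      exact c.outer_ne_one i (c.fus_one h)
    rcases hcases u hu with rfl | rfl | ⟨i, hi, rfl⟩ | hy <;>
      rcases hcases v hv with rfl | rfl | ⟨j, hj, rfl⟩ | hy'
    · rfl
    · exact absurd huv c.not_fus_one_z
    · exact absurd huv (hr1 hj)
    · exact absurd huv (ho1 hy')
    · exact absurd huv.symm c.not_fus_one_z
    · rfl
    · exact absurd huv (c.not_fus_z_rot (hgen hj).1 (hgen hj).2)
    · exact absurd huv (hO.avoid _ hy').2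
    · exact absurd huv.symm (hr1 hi)
    · exact absurd huv.symm (c.not_fus_z_rot (hgen hi).1 (hgen hi).2)
    · by_contra hne
      refine c.not_fus_rot_rot (hgen hi).1 (hgen hi).2 (fun h => hne (by rw [h])) (fun h => ?_) huv
      obtain ⟨-, h1⟩ := Finset.mem_filter.1 hi
      obtain ⟨-, h2⟩ := Finset.mem_filter.1 hj
      rw [h, ← mul_assoc, hD.r_sq, one_mul] at h2
      omega
    · exact absurd huv (c.not_fus_rot_outer (hgen hi).1 (hgen hi).2 hO hy')
    · exact absurd huv.symm (ho1 hy)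
    · exact absurd huv.symm (hO.avoid _ hy).2
    · exact absurd huv.symm (c.not_fus_rot_outer (hgen hj).1 (hgen hj).2 hO hy)
    · exact hO.inj u hy v hy' huv

theorem sum_repSet [NeZero (2 * M₀)] {A : Type*} [AddCommMonoid A] {O : Finset G}
    (hO : IsOuter P e σ τ M₀ O) (F : G → A) :
    ∑ u ∈ (repSet σ M₀ r O), F u =
      F 1 + F (σ ^ M₀) + (∑ i ∈ (pairReps M₀ r), F (rot σ i) + ∑ y ∈ O, F y) := by
  have hD := c.data
  have hout : ∀ {y}, y ∈ O → ∀ i : ZMod (2 * M₀), rot σ i ≠ y := fun {y} hy i h => by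
    obtain ⟨j, rfl⟩ := c.sub_outer (hO.sub y hy)
    exact hD.τ_mul_rot_not j (h ▸ hD.rot_mem_zpowers i)
  rw [repSet, Finset.sum_union, Finset.sum_union, Finset.sum_pair hD.z_ne.symm,
    Finset.sum_image fun i _ j _ h => hD.rot_inj h]
  · rw [Finset.disjoint_left]
    intro u hu hu'
    obtain ⟨i, -, rfl⟩ := Finset.mem_image.1 hu
    exact hout hu' i rfl
  · rw [Finset.disjoint_left]
    intro u hu hu'
    simp only [Finset.mem_insert, Finset.mem_singleton] at hu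
    rcases Finset.mem_union.1 hu' with h | h
    · obtain ⟨i, hi, rfl⟩ := Finset.mem_image.1 h
      obtain ⟨h0, hM⟩ := (Finset.mem_filter.1 (Finset.mem_filter.1 hi).1).2
      rcases hu with hu | hu
      exacts [h0 (hD.rot_eq_one hu), hM (hD.rot_inj (hu.trans hD.z_eq.symm))]
    · rcases hu with rfl | rfl
      exacts [hout h 0 hD.rot_zero, hout h _ hD.z_eq]

theorem mU_rot_r (i : ZMod (2 * M₀)) (χ ψ : IrrCharacter G) :
    mU 2 P e (rot σ ((r : ZMod (2 * M₀)) * i)) χ ψ = mU 2 P e (rot σ i) χ ψ := by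
  rw [← c.data.τ_conj_rot]
  exact mU_congr c.pair (c.data.rot_mem i)
    (Fus.of_conj c.pair (c.data.rot_mem i) c.data.τ_mem) χ ψ

/-- The identity of the contributions. -/
theorem identity_split [NeZero (2 * M₀)] {O : Finset G} (hO : IsOuter P e σ τ M₀ O)
    {χ : IrrCharacter G} (hχ : χ ∈ B) (ψ : IrrCharacter G) :
    mU 2 P e 1 χ ψ + mU 2 P e (σ ^ M₀) χ ψ +
        ((1 / 2 : ℂ) * ∑ i ∈ gens M₀, mU 2 P e (rot σ i) χ ψ + ∑ y ∈ O, mU 2 P e y χ ψ) =
      if χ = ψ then 1 else 0 := by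
  rw [← identity c.pM c.block c.isMax (c.isTransversal hO) hχ ψ, c.sum_repSet hO,
    c.sum_gens _ fun i => c.mU_rot_r i χ ψ]
  ring

/-- `k(B) = l(B) + l(b_z) + M₀ - 1 + |O|`. -/
theorem card_block {O : Finset G} (hO : IsOuter P e σ τ M₀ O) :
    Nat.card B + 1 = blockRank 2 (blkSet M (Subgroup.centralizer ({(1 : G)} : Set G)) (eU 2 P e 1)) +
      blockRank 2 (blkSet M (Subgroup.centralizer ({σ ^ M₀} : Set G)) (eU 2 P e (σ ^ M₀))) +
      M₀ + O.card := by
  haveI := c.data.neZero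
  rw [card_eq_sum_rank c.pM c.block c.isMax (c.isTransversal hO), c.sum_repSet hO,
    Finset.sum_congr rfl fun i hi => c.blockRank_rot
      (Finset.mem_filter.1 (Finset.mem_filter.1 hi).1).2.1
      (Finset.mem_filter.1 (Finset.mem_filter.1 hi).1).2.2,
    Finset.sum_congr rfl fun y hy => (c.outer_data hO hy).1, ← Finset.card_eq_sum_ones,
    ← Finset.card_eq_sum_ones, c.card_pairReps]
  have := c.data.two_le
  omega

end Ctx

end Cfsg.Agent.TameBlock
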