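import Cfsg.Agent.Lib.TameBlock.GMain
import Mathlib.GroupTheory.SpecificGroups.Quaternion

/-!
# Quaternion and semidihedral defect groups

`exists_tData_quaternion`, `exists_tData_semidihedral`, `invariants_of_defect`.
-/

set_option autoImplicit false
set_option linter.unusedSectionVars false
set_option linter.style.haveILetI false

namespace Cfsg.Agent.TameBlock

open Cfsg Blocks

universe u

variable {G : Type u} [Group G]

theorem not_mem_zpowers_of_conj {σ τ : G} {N r : ℕ} (h : τ * σ * τ⁻¹ = σ ^ r)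
    (ho : orderOf σ = N) (h1 : 1 < r) (h2 : r < N) : τ ∉ Subgroup.zpowers σ := by
  intro hm
  obtain ⟨k, rfl⟩ := Subgroup.mem_zpowers_iff.1 hm
  have e : σ ^ r = σ ^ 1 := by
    rw [← h, (Commute.zpow_self σ k).eq, mul_inv_cancel_right, pow_one]
  have := pow_injOn_Iio_orderOf (x := σ) (by rw [Set.mem_Iio, ho]; omega)
    (by rw [Set.mem_Iio, ho]; omega) e
  omega

theorem exists_tData_quaternion {D : Subgroup G} {n : ℕ} (hn : 3 ≤ n)
    (hq : Nonempty (D ≃* QuaternionGroup (2 ^ (n - 2)))) :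
    ∃ (σ τ : G) (r : ℕ), TData D σ τ (2 ^ (n - 2)) r ∧ τ * τ = σ ^ (2 ^ (n - 2)) := by
  obtain ⟨φ⟩ := hq
  set N := 2 ^ (n - 2) with hN
  have h2 : 2 ≤ N := by
    rw [hN]
    calc 2 = 2 ^ 1 := rfl
      _ ≤ _ := Nat.pow_le_pow_right (by norm_num) (by omega)
  haveI : NeZero N := ⟨by omega⟩
  set s : D := φ.symm (QuaternionGroup.a 1) with hs
  set t : D := φ.symm (QuaternionGroup.xa 0) with ht
  have hord : orderOf (s : G) = 2 * N := by
    rw [Subgroup.orderOf_coe, hs, MulEquiv.orderOf_eq, QuaternionGroup.orderOf_a_one]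
  have hconj : t * s * t⁻¹ = s ^ (2 * N - 1) := by
    rw [mul_inv_eq_iff_eq_mul]
    apply φ.injective
    simp only [map_mul, map_pow, hs, ht, MulEquiv.apply_symm_apply, QuaternionGroup.a_one_pow,
      QuaternionGroup.xa_mul_a, QuaternionGroup.a_mul_xa]
    congr 1
    rw [Nat.cast_sub (by omega), ZMod.natCast_self]
    simp
  have hsq : t * t = s ^ N := by
    apply φ.injective
    simp [hs, ht, QuaternionGroup.a_one_pow, QuaternionGroup.xa_mul_xa]
  have hconj' : (t : G) * s * (t : G)⁻¹ = (s : G) ^ (2 * N - 1) := by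
    exact_mod_cast congrArg (fun x : D => (x : G)) hconj
  refine ⟨s, t, 2 * N - 1, ⟨h2, ⟨_, hN⟩, s.2, t.2, hord, hconj', ?_, ?_, Or.inl ⟨rfl, ?_⟩⟩, ?_⟩
  · exact not_mem_zpowers_of_conj hconj' hord (by omega) (by omega)
  · rw [Nat.card_congr φ.toEquiv, Nat.card_eq_fintype_card, QuaternionGroup.card]
  all_goals exact_mod_cast congrArg (fun x : D => (x : G)) hsq

theorem exists_tData_semidihedral {D : Subgroup G} {n : ℕ} (hn : 4 ≤ n)
    (hcard : Nat.card D = 2 ^ n) (hsd : IsQuasiDihedral D) :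
    ∃ (σ τ : G) (r : ℕ), TData D σ τ (2 ^ (n - 2)) r ∧ τ * τ = 1 := by
  obtain ⟨m, hm, hc, x, y, hx, hy, hxy⟩ := hsd
  have hmn : n = m + 1 := Nat.pow_right_injective (le_refl 2) (hcard.symm.trans hc)
  subst hmn
  obtain ⟨k, rfl⟩ : ∃ k, m = k + 3 := ⟨m - 3, by omega⟩
  have e1 : k + 3 + 1 - 2 = k + 2 := by omega
  have e2 : k + 3 - 1 = k + 2 := by omega
  rw [e2] at hxy
  rw [e1]
  set N := 2 ^ (k + 2) with hN
  have h4 : 4 ≤ N := by
    rw [hN, pow_add]
    have := Nat.one_le_two_pow (n := k)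
    omega
  have hord : orderOf (x : G) = 2 * N := by
    rw [Subgroup.orderOf_coe, hx, hN, pow_succ']
  have hconj : (y : G) * x * (y : G)⁻¹ = (x : G) ^ (N - 1) := by
    exact_mod_cast congrArg (fun z : D => (z : G)) hxy
  have hsq : (y : G) * y = 1 := by
    rw [← pow_two, ← orderOf_dvd_iff_pow_eq_one, Subgroup.orderOf_coe, hy]
  refine ⟨x, y, N - 1, ⟨by omega, ⟨_, hN⟩, x.2, y.2, hord, hconj, ?_, ?_,
    Or.inr ⟨rfl, hsq, h4⟩⟩, hsq⟩
  · exact not_mem_zpowers_of_conj hconj hord (by omega) (by omega)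
  · rw [hc, hN, pow_succ, pow_succ]
    ring

/-- The invariants of a block from generators of its defect group. -/
theorem invariants_of_defect {G : Type u} [Group G] [Finite G] {M : Ideal AlgInt}
    (hM : IsPModular 2 M) {B : Set (IrrCharacter G)} (hB : IsPBlock M B) {D : Subgroup G}
    (hD : IsDefectGroup 2 M B D) {σ τ : G} {a r : ℕ} (hT : TData D σ τ (2 ^ a) r) :
    ∃ o oH : ℕ, 1 ≤ blockRank 2 B ∧ blockRank 2 B + o = 3 ∧
      o ≤ oH ∧ oH ≤ 2 ∧ oH ≤ o + 1 ∧ (τ * τ = σ ^ (2 ^ a) → oH = o) ∧ (τ * τ = 1 → 1 ≤ oH) ∧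
      Nat.card B + oH = 2 ^ a + 5 ∧
      Nat.card {χ : IrrCharacter G // χ ∈ B ∧ blockHeight 2 B (χ : G → ℂ) = 0} = 4 ∧
      (∀ χ ∈ B, blockHeight 2 B (χ : G → ℂ) = 0 ∨ blockHeight 2 B (χ : G → ℂ) = 1 ∨
        blockHeight 2 B (χ : G → ℂ) = a) ∧
      (2 ≤ a → Nat.card {χ : IrrCharacter G // χ ∈ B ∧ blockHeight 2 B (χ : G → ℂ) = 1} =
        2 ^ a - 1) := by
  haveI := hM.2.1
  haveI : Fintype G := Fintype.ofFinite G
  haveI : Fact (Nat.Prime 2) := ⟨Nat.prime_two⟩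
  haveI := Cfsg.Agent.Blocks.charP_residue (p := 2) (M := M) hM.2.2
  obtain ⟨e₀, -, hmax⟩ := BrauerPairs.exists_isMax_of_isDefectGroup hB hD
  haveI := hT.neZero
  obtain ⟨a', o, oH, ha, h⟩ := (Ctx.mk hM hB hmax hT).invariants
  obtain rfl : a = a' := Nat.pow_right_injective (le_refl 2) ha
  exact ⟨o, oH, h⟩

end Cfsg.Agent.TameBlock
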