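import Cfsg.Agent.Lib.TameBlock.Sign
import Cfsg.Agent.Lib.Blocks.NilpotentRank.Bijection

/-!
# Integrality in a block: coefficients at the identity and outer subsections

`2^d ⟨χ°, ξ⟩` is odd (for `χ` of height zero) exactly when `ξ` has height zero, so the number of
height zero characters is divisible by four; at a class outside the rotations `4 m(χ, ψ)` is an
integral matrix of rank one, equal to `a χ * a ψ` when there are four characters of height zero.
-/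

set_option autoImplicit false
set_option linter.unusedSectionVars false
set_option linter.style.haveILetI false

namespace Cfsg.Agent.TameBlock

open Cfsg Blocks MonoidAlgebra
open Cfsg.Agent.BrauerPairs (blk blkG conjEl IsMax IsPair regDot regDot_comm regDot_eq_zero
  exists_int_regDot intCoeff_of_height_zero)
open Cfsg.Agent.Blocks.NilRank
open scoped Classical ComplexConjugate

universe u

variable {G : Type u} [Group G] [Fintype G] {M : Ideal AlgInt} [M.IsMaximal] [Fact (Nat.Prime 2)]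
  [CharP (AlgInt ⧸ M) 2] {B : Set (IrrCharacter G)}

/-- For `χ` of height zero, `2^d ⟨χ°, ξ⟩` is odd exactly when `ξ` has height zero. -/
theorem intCoeff_odd_iff (hpM : ((2 : ℕ) : AlgInt) ∈ M) (hB : IsPBlock M B) {χ ξ : IrrCharacter G}
    (hχ : χ ∈ B) (hξ : ξ ∈ B) (h0 : blockHeight 2 B χ.1 = 0) {c : ℤ}
    (hc : ((2 ^ blockDefect 2 B : ℕ) : ℂ) * regDot 2 χ.1 ξ.1 = c) :
    Odd c ↔ blockHeight 2 B ξ.1 = 0 := by
  have hd : blockDefect 2 B ≤ (Nat.card G).factorization 2 := Nat.sub_le _ _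
  have hn : Char.regInner 2 ξ.1 χ.1 =
      (((2 : ℤ) ^ ((Nat.card G).factorization 2 - blockDefect 2 B) * c : ℤ) : ℂ) := by
    rw [Char.regInner, Char.classInner_smul_left, ← regDot, regDot_comm Fact.out ξ χ, Int.cast_mul,
      Int.cast_pow, Int.cast_ofNat, ← hc, Nat.cast_pow, Nat.cast_pow, Nat.cast_ofNat, ← mul_assoc,
      ← pow_add, Nat.sub_add_cancel hd]
  rw [Char.blockHeight_eq_zero_iff_regInner hpM Fact.out hB hξ hχ hn]
  have hb := Char.factorization_degree_of_height_zero hχ h0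
  have hba : (Char.degree χ).factorization 2 ≤ (Nat.card G).factorization 2 :=
    (Nat.factorization_le_iff_dvd (Char.degree_pos χ).ne' Nat.card_pos.ne').2
      (Char.degree_dvd_natCard χ) 2
  rw [show (Nat.card G).factorization 2 - blockDefect 2 B = (Char.degree χ).factorization 2 by
    rw [blockDefect, ← hb]; omega]
  rw [Int.odd_iff, show ((2 : ℕ) : ℤ) = 2 from rfl, pow_succ,
    mul_dvd_mul_iff_left (pow_ne_zero _ (two_ne_zero' ℤ)), Int.dvd_iff_emod_eq_zero]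
  omega

/-- The characters of height zero. -/
noncomputable def hzFin (B : Set (IrrCharacter G)) : Finset (IrrCharacter G) :=
  (bFin B).filter fun χ => blockHeight 2 B χ.1 = 0

theorem mem_hzFin {χ : IrrCharacter G} : χ ∈ hzFin B ↔ χ ∈ B ∧ blockHeight 2 B χ.1 = 0 := by
  simp [hzFin, mem_bFin]

theorem card_hzFin : (hzFin B).card = Nat.card {χ : IrrCharacter G // χ ∈ B ∧
    blockHeight 2 B χ.1 = 0} := by
  rw [Nat.card_eq_fintype_card, Fintype.card_subtype]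
  congr 1
  ext χ
  simp [mem_hzFin]

/-- `4` divides the number of characters of height zero. -/
theorem four_dvd_card_hzFin (hpM : ((2 : ℕ) : AlgInt) ∈ M) (hB : IsPBlock M B)
    (hd : 2 ≤ blockDefect 2 B) : 4 ∣ (hzFin B).card ∧ (hzFin B).card ≠ 0 := by
  obtain ⟨χ, hχ, h0⟩ := Blocks.exists_height_zero hpM hB
  refine ⟨?_, Finset.card_ne_zero.2 ⟨χ, mem_hzFin.2 ⟨hχ, h0⟩⟩⟩
  obtain ⟨c, hc⟩ := exists_int_regDot hpM Fact.out hB hχ
  have hsum : ∑ ξ ∈ bFin B, c ξ * c ξ = ((2 ^ blockDefect 2 B : ℕ) : ℤ) * c χ := by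
    have h : ∑ ξ ∈ bFin B, ((c ξ : ℂ) * c ξ) = ((2 ^ blockDefect 2 B : ℕ) : ℂ) * c χ := by
      rw [← hc χ, ← BrauerPairs.sum_regDot_mul hpM Fact.out hB hχ χ.1, Finset.mul_sum,
        Finset.mul_sum, Finset.sum_subtype (bFin B) (p := (· ∈ B)) fun _ => mem_bFin]
      refine Finset.sum_congr rfl fun ξ _ => ?_
      rw [← hc ξ.1, regDot_comm Fact.out χ ξ.1]
      ring
    exact_mod_cast h
  have h4 : (4 : ℤ) ∣ ∑ ξ ∈ bFin B, c ξ * c ξ := by
    rw [hsum]
    refine Dvd.dvd.mul_right ?_ _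
    exact_mod_cast (pow_dvd_pow 2 hd : 2 ^ 2 ∣ 2 ^ blockDefect 2 B)
  have h2 : (4 : ℤ) ∣ ∑ ξ ∈ bFin B,
      (c ξ * c ξ - if blockHeight 2 B ξ.1 = 0 then 1 else 0) := by
    refine Finset.dvd_sum fun ξ hξ => ?_
    have hiff := intCoeff_odd_iff hpM hB hχ (mem_bFin.1 hξ) h0 (hc ξ)
    split_ifs with h
    · obtain ⟨k, hk⟩ := hiff.2 h
      exact ⟨k * k + k, by rw [hk]; ring⟩
    · obtain ⟨k, hk⟩ := Int.not_odd_iff_even.1 fun ho => h (hiff.1 ho)
      exact ⟨k * k, by rw [hk]; ring⟩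
  have := dvd_sub h4 h2
  rw [← Finset.sum_sub_distrib] at this
  simp only [sub_sub_cancel] at this
  refine Int.natCast_dvd_natCast.1 ?_
  rw [hzFin, Finset.card_filter, Nat.cast_sum]
  simp only [Nat.cast_ite, Nat.cast_one, Nat.cast_zero, Nat.cast_ofNat]
  exact this

variable {P : Subgroup G} {e : MonoidAlgebra (AlgInt ⧸ M) G} {σ τ : G} {M₀ r : ℕ}

namespace Ctx

variable (c : Ctx M B P e σ τ M₀ r)
include c

theorem two_le_blockDefect : 2 ≤ blockDefect 2 B := by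
  have h := c.pow_blockDefect
  have := c.data.two_le
  by_contra hlt
  have : 2 ^ blockDefect 2 B ≤ 2 ^ 1 := Nat.pow_le_pow_right (by norm_num) (by omega)
  omega

/-- An element outside the rotations is conjugate to its inverse. -/
theorem fus_outer_inv {y : G} (hy : y = τ ∨ y = τ * σ) : Fus 2 P e y y⁻¹ := by
  have hD := c.data
  obtain ⟨i, rfl⟩ := c.sub_outer hy
  have hyP : τ * rot σ i ∈ P := mul_mem hD.τ_mem (hD.rot_mem i)
  rcases hD.τ_rot_sq i with h | ⟨h, -⟩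
  swap
  · rw [inv_eq_of_mul_eq_one_right h]
    exact Fus.refl _
  have hinv : (τ * rot σ i)⁻¹ = τ * rot σ i * σ ^ M₀ :=
    inv_eq_of_mul_eq_one_right (by rw [← mul_assoc, h, hD.z_sq])
  set hh : ZMod (2 * M₀) := ((M₀ / 2 : ℕ) : ZMod (2 * M₀)) with hhh
  have hconj : rot σ hh * (τ * rot σ i) * (rot σ hh)⁻¹ = (τ * rot σ i)⁻¹ := by
    rw [hinv, ← hD.rot_neg, ← mul_assoc, hD.rot_mul_τ, hhh, hD.r_mul_half, ← hD.z_eq, mul_assoc,
      mul_assoc, mul_assoc, ← hD.rot_add, ← hD.rot_add, ← hD.rot_add]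
    congr 2
    linear_combination -hD.half_add - hD.M_double
  rw [← hconj]
  exact Fus.of_conj c.pair hyP (hD.rot_mem hh)

/-- The contributions at a class outside the rotations. -/
theorem exists_outer_int {O : Finset G} (hO : IsOuter P e σ τ M₀ O) {y : G} (hy : y ∈ O) :
    ∃ n : IrrCharacter G → IrrCharacter G → ℤ,
      (∀ χ ψ, 4 * mU 2 P e y χ ψ = (n χ ψ : ℂ)) ∧ (∀ χ ψ, n χ ψ = n ψ χ) ∧
      (∀ χ ψ ζ, n χ ψ * n ζ ζ = n χ ζ * n ζ ψ) ∧
      (∀ χ, ∑ ψ ∈ bFin B, n χ ψ * n χ ψ = 4 * n χ χ) ∧ ∑ χ ∈ bFin B, n χ χ = 4 ∧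
      ∀ χ ∈ hzFin B, Odd (n χ χ) := by
  have hD := c.data
  have hpM := c.pM
  have hyP := c.outer_mem hO hy
  obtain ⟨hrk, hdef⟩ := c.outer_data hO hy
  have hTT : ∀ χ ψ : IrrCharacter G, TT 2 P e χ.1 ψ.1 y = 4 * mU 2 P e y χ ψ := fun χ ψ => by
    rw [TT, Tof, hdef]
    norm_num
    rfl
  have hy4 : y ^ 4 = 1 := by
    obtain ⟨i, rfl⟩ := c.sub_outer (hO.sub y hy)
    exact hD.τ_rot_pow_four i
  have hex : ∀ χ ψ : IrrCharacter G, ∃ z : ℤ, 4 * mU 2 P e y χ ψ = (z : ℂ) := by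
    intro χ ψ
    have hpg : ∃ k, Nat.card P * 2 = 2 ^ k * 2 := by
      obtain ⟨a, ha⟩ := hD.two_pow
      exact ⟨a + 2, by rw [hD.card, ha, pow_add]; ring⟩
    obtain ⟨k, hk⟩ := hpg
    have htw := isTw_Tof hpM c.pair hyP χ ψ
    rw [hk] at htw
    obtain ⟨z, hz⟩ := htw.exists_int Fact.out fun t ht => by
      rw [← TT_pow c.pair hyP ht, ← TT_pow c.pair hyP (show ¬ 2 ∣ 1 by omega), pow_one]
      have ht2 : y ^ t = y ∨ y ^ t = y⁻¹ := by
        rw [← Nat.mod_add_div t 4, pow_add, pow_mul, hy4, one_pow, mul_one]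
        rcases (show t % 4 = 1 ∨ t % 4 = 3 by omega) with h | h <;> rw [h]
        · exact Or.inl (pow_one y)
        · exact Or.inr (eq_inv_of_mul_eq_one_left (by rw [← pow_succ, hy4]))
      rcases ht2 with h | h <;> rw [h]
      have hf := c.fus_outer_inv (hO.sub y hy)
      have hd2 : TT 2 P e χ.1 ψ.1 y⁻¹ = 4 * mU 2 P e y⁻¹ χ ψ := by
        rw [TT, Tof, mU, eU_congr c.pair hyP (inv_mem hyP) Subgroup.zpowers_inv,
          ← centralizer_zpowers_eq (x := y⁻¹), Subgroup.zpowers_inv,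
          centralizer_zpowers_eq (x := y), hdef]
        norm_num
      rw [hd2, hTT, mU_congr c.pair hyP hf]
    refine ⟨z, ?_⟩
    rw [← hTT, ← hz, ← pow_one y]
    simp only [pow_one]
    rfl
  choose n hn using hex
  have hcast : ∀ {a b : ℤ}, (a : ℂ) = b → a = b := fun h => by exact_mod_cast h
  refine ⟨n, hn, fun χ ψ => hcast ?_, fun χ ψ ζ => hcast ?_, fun χ => hcast ?_, hcast ?_,
    fun χ hχ => ?_⟩
  · have h := conj_mU hpM c.pair hyP χ ψ
    rw [← hn, ← hn, ← h]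
    have hr : conj (4 * mU 2 P e y χ ψ) = 4 * mU 2 P e y χ ψ := by rw [hn, map_intCast]
    rw [map_mul (starRingEnd ℂ), map_ofNat] at hr
    exact hr.symm
  · push_cast
    rw [← hn, ← hn, ← hn, ← hn, mU_eq_contribution, mU_eq_contribution, mU_eq_contribution,
      mU_eq_contribution]
    linear_combination (16 : ℂ) * contribution_rank_one hpM
      (blkSet_spec (isBlockIdem_eU c.pair hyP)).1 hrk χ ψ ζ
  · have h := sum_mU_mul hpM c.block c.isMax hyP χ χ
    have hconj : ∀ ψ, mU 2 P e y ψ χ = mU 2 P e y χ ψ := fun ψ => by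
      have hr : conj (4 * mU 2 P e y χ ψ) = 4 * mU 2 P e y χ ψ := by rw [hn, map_intCast]
      rw [map_mul (starRingEnd ℂ), map_ofNat, conj_mU hpM c.pair hyP] at hr
      exact mul_left_cancel₀ (by norm_num) hr
    push_cast
    rw [← hn χ χ, ← h, Finset.mul_sum, Finset.mul_sum]
    exact Finset.sum_congr rfl fun ψ _ => by rw [← hn, hconj]; ring
  · push_cast
    rw [Finset.sum_congr rfl fun χ _ => (hn χ χ).symm, ← Finset.mul_sum,
      sum_mU_self hpM c.block c.isMax hyP, hrk]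
    norm_num
  · obtain ⟨hχB, h0⟩ := mem_hzFin.1 hχ
    rw [← Int.not_even_iff_odd, even_iff_two_dvd]
    intro hdvd
    obtain ⟨k, hk⟩ := exists_orderOf_mem c.isMax.1.1.1 hyP
    refine not_memLocalIdeal_contribution hpM hk
      (isInducedBlock_eU hpM c.block c.isMax.1 hyP) hχB h0 hχB h0 ?_
    rw [← mU_eq_contribution, hdef, Nat.cast_ofNat, hn]
    exact (memLocalIdeal_intCast_iff hpM _).2 (by exact_mod_cast hdvd)

/-- With four characters of height zero, an outer class is given by a vector. -/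
theorem exists_outer_vec {O : Finset G} (hO : IsOuter P e σ τ M₀ O) {y : G} (hy : y ∈ O)
    (h4 : (hzFin B).card = 4) :
    ∃ a : IrrCharacter G → ℤ, (∀ χ ∈ hzFin B, a χ = 1 ∨ a χ = -1) ∧
      (∀ χ ∈ bFin B, χ ∉ hzFin B → a χ = 0) ∧
      ∀ χ ∈ B, ∀ ψ ∈ B, 4 * mU 2 P e y χ ψ = (a χ : ℂ) * a ψ := by
  obtain ⟨n, hn, hsymm, hrk, hsq, htot, hodd⟩ := c.exists_outer_int hO hy
  have hnn : ∀ χ, 0 ≤ n χ χ := fun χ => by
    have := Finset.sum_nonneg fun ψ (_ : ψ ∈ bFin B) => mul_self_nonneg (n χ ψ)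
    have := hsq χ
    linarith
  have hpos : ∀ χ ∈ hzFin B, 1 ≤ n χ χ := fun χ hχ => by
    obtain ⟨k, hk⟩ := hodd χ hχ
    have := hnn χ
    omega
  have hsub : hzFin B ⊆ bFin B := Finset.filter_subset _ _
  have hsplit := Finset.sum_sdiff hsub (f := fun χ => n χ χ)
  rw [htot] at hsplit
  have hlow : (4 : ℤ) ≤ ∑ χ ∈ hzFin B, n χ χ := by
    have h := Finset.card_nsmul_le_sum (hzFin B) (fun χ => n χ χ) 1 hpos
    rw [h4] at h
    simpa using h
  have hrest : ∀ χ ∈ bFin B \ hzFin B, n χ χ = 0 :=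
    (Finset.sum_eq_zero_iff_of_nonneg fun χ _ => hnn χ).1 (by
      have := Finset.sum_nonneg fun χ (_ : χ ∈ bFin B \ hzFin B) => hnn χ
      linarith)
  have hone : ∀ χ ∈ hzFin B, n χ χ = 1 := fun χ hχ => by
    have h2 : ∑ χ ∈ hzFin B, (n χ χ - 1) = 0 := by
      rw [Finset.sum_sub_distrib, Finset.sum_const, h4]
      have := Finset.sum_nonneg fun χ (_ : χ ∈ bFin B \ hzFin B) => hnn χ
      norm_num
      linarith
    have := (Finset.sum_eq_zero_iff_of_nonneg fun χ hχ => by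
      have := hpos χ hχ; linarith).1 h2 χ hχ
    linarith
  have hzero : ∀ χ ∈ bFin B \ hzFin B, ∀ ψ ∈ bFin B, n χ ψ = 0 := fun χ hχ ψ hψ => by
    have h := hsq χ
    rw [hrest χ hχ, mul_zero] at h
    exact mul_self_eq_zero.1
      ((Finset.sum_eq_zero_iff_of_nonneg fun ψ _ => mul_self_nonneg (n χ ψ)).1 h ψ hψ)
  obtain ⟨ζ, hζ⟩ := Finset.card_pos.1 (by rw [h4]; norm_num : 0 < (hzFin B).card)
  refine ⟨fun χ => n χ ζ, fun χ hχ => ?_, fun χ hχ hn' =>
    hzero χ (Finset.mem_sdiff.2 ⟨hχ, hn'⟩) ζ (hsub hζ), fun χ hχ ψ hψ => ?_⟩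
  · have h := hrk χ χ ζ
    rw [hone χ hχ, hone ζ hζ, hsymm ζ χ] at h
    exact Int.isUnit_iff.1 (IsUnit.of_mul_eq_one _ (h.symm.trans (one_mul 1)))
  · rw [hn]
    have h := hrk χ ψ ζ
    rw [hone ζ hζ, mul_one, hsymm ζ ψ] at h
    rw [h]
    push_cast
    rfl

end Ctx

end Cfsg.Agent.TameBlock
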