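import Cfsg.Agent.Lib.TameBlock.Local
import Cfsg.Agent.Lib.TameBlock.Central
import Cfsg.Agent.Lib.TameBlock.Fourier
import Cfsg.Agent.Lib.Blocks.CyclicDefect.LinearParam
import Cfsg.Agent.Lib.Blocks.CyclicDefect.Transfer
import Cfsg.Agent.Lib.Blocks.CyclicDefect.Theta

/-!
# The rotation parametrisation of a block with central `z`

When `z` is central, there are multiplicities `m χ : ℤ/2M₀ → ℤ`, invariant under `a ↦ r a` and
supported on exponents of the parity of the sign of `χ` at `z`, with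
`2M₀ · m_{σ^i}(χ, ψ) = ev (m χ) i * conj (ev (m ψ) i)` for the generic rotations.
-/

set_option autoImplicit false
set_option linter.unusedSectionVars false
set_option linter.style.haveILetI false

namespace Cfsg.Agent.TameBlock

open Cfsg Blocks MonoidAlgebra
open Cfsg.Agent.BrauerPairs (blk blkG conjEl IsMax IsPair hasBlocks mapBlock conjIso compIrr regDot)
open Cfsg.Agent.Blocks.NilRank
open Cfsg.Agent.DihedralDefect (cenIso)
open Cfsg.Agent.Blocks.CyclicDefect (extFun extFun_coe)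
open ZMod (stdAddChar)
open scoped Classical ComplexConjugate

universe u

variable {G : Type u} [Group G] [Fintype G] {M : Ideal AlgInt} [M.IsMaximal]
  [Fact (Nat.Prime 2)] [CharP (AlgInt ⧸ M) 2]

/-- The rotation data of a block. -/
structure RotParam (B : Set (IrrCharacter G)) (P : Subgroup G) (e : MonoidAlgebra (AlgInt ⧸ M) G)
    (σ : G) (M₀ r : ℕ) [NeZero (2 * M₀)] (m : IrrCharacter G → ZMod (2 * M₀) → ℤ)
    (sg : IrrCharacter G → ℤ) : Prop where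
  nonneg : ∀ χ a, 0 ≤ m χ a
  symm : ∀ χ a, m χ ((r : ZMod (2 * M₀)) * a) = m χ a
  sep : ∀ χ a, m χ a ≠ 0 → sgnA a = sg χ
  sg_sq : ∀ χ, sg χ * sg χ = 1
  z_sect : ∀ χ ∈ B, ∀ ψ, mU 2 P e (σ ^ M₀) χ ψ = (sg χ : ℂ) * sg ψ * mU 2 P e 1 χ ψ
  sect : ∀ i : ZMod (2 * M₀), i ≠ 0 → i ≠ (M₀ : ZMod (2 * M₀)) → ∀ χ ψ,
    ((2 * M₀ : ℕ) : ℂ) * mU 2 P e (rot σ i) χ ψ = ev (m χ) i * conj (ev (m ψ) i)

namespace Ctx

variable {B : Set (IrrCharacter G)} {P : Subgroup G} {e : MonoidAlgebra (AlgInt ⧸ M) G} {σ τ : G}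
  {M₀ r : ℕ} (c : Ctx M B P e σ τ M₀ r)
include c

theorem exists_rotParam [NeZero (2 * M₀)] (hcen : σ ^ M₀ ∈ Subgroup.center G) :
    ∃ (m : IrrCharacter G → ZMod (2 * M₀) → ℤ) (sg : IrrCharacter G → ℤ),
      RotParam B P e σ M₀ r m sg := by
  have hD := c.data
  have hpM := c.pM
  obtain ⟨hh0, hhM⟩ := hD.half_ne
  set L := Subgroup.centralizer ({rot σ ((M₀ / 2 : ℕ) : ZMod (2 * M₀))} : Set G) with hL
  set bw := blkSet M L (eU 2 P e (rot σ ((M₀ / 2 : ℕ) : ZMod (2 * M₀)))) with hbw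
  set Q := (P ⊓ L).subgroupOf L with hQ
  obtain ⟨hnil, e', hN⟩ : IsNilpotentBlock 2 M bw ∧ ∃ e', Nested 2 P e L bw Q e' :=
    ⟨(c.exists_nested_rot hh0 hhM).1, (c.exists_nested_rot hh0 hhM).2.2⟩
  have hPL : P ⊓ L = Subgroup.zpowers σ := hD.inf_centralizer_rot hh0 hhM
  have hrotL : ∀ i : ZMod (2 * M₀), rot σ i ∈ P ⊓ L := fun i => hPL ▸ hD.rot_mem_zpowers i
  have hcomm : ∀ x y : Q, x * y = y * x := fun x y => by
    obtain ⟨i, hi⟩ := hD.mem_zpowers_iff.1 (hPL ▸ Subgroup.mem_subgroupOf.1 x.2)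
    obtain ⟨j, hj⟩ := hD.mem_zpowers_iff.1 (hPL ▸ Subgroup.mem_subgroupOf.1 y.2)
    refine Subtype.ext (Subtype.ext ?_)
    show ((x : L) : G) * ((y : L) : G) = ((y : L) : G) * ((x : L) : G)
    rw [← hi, ← hj, hD.rot_comm]
  have hcardQ : Nat.card Q = 2 * M₀ := by
    rw [Nat.card_congr (Subgroup.subgroupOfEquivOfLe inf_le_right).toEquiv, hPL, Nat.card_zpowers,
      hD.order]
  have hnilp := (BrauerPairs.isNilpotentBlock_iff hN.block).1 hnil
  obtain ⟨lam, -, hlam⟩ := exists_linear_param c.modular hnil hN.isMax hcomm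
  let rQ : ZMod (2 * M₀) → Q := fun i => ⟨⟨rot σ i, (hrotL i).2⟩, Subgroup.mem_subgroupOf.2 (hrotL i)⟩
  have hrQ0 : rQ 0 = 1 := Subtype.ext (Subtype.ext hD.rot_zero)
  have hrQadd : ∀ i j, rQ (i + j) = rQ i * rQ j := fun i j =>
    Subtype.ext (Subtype.ext (hD.rot_add i j))
  have hrQnat : ∀ n : ℕ, rQ (n : ZMod (2 * M₀)) = rQ 1 ^ n := by
    intro n
    induction n with
    | zero => rw [Nat.cast_zero, hrQ0, pow_zero]
    | succ n ih => rw [Nat.cast_succ, hrQadd, ih, pow_succ]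
  have hex : ∀ θ : IrrCharacter L, ∃ a : ZMod (2 * M₀), ∀ i, lam θ (rQ i) = stdAddChar (a * i) := by
    intro θ
    have hN1 : lam θ (rQ 1) ^ (2 * M₀) = 1 := by
      rw [← map_pow, ← hrQnat, ZMod.natCast_self, hrQ0, map_one]
    have hprim : IsPrimitiveRoot (stdAddChar (1 : ZMod (2 * M₀)) : ℂ) (2 * M₀) := by
      have h := ZMod.stdAddChar_coe (N := 2 * M₀) 1
      simp only [Int.cast_one, mul_one] at h
      rw [h]
      exact Complex.isPrimitiveRoot_exp _ (NeZero.ne _)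
    obtain ⟨a, -, ha⟩ := hprim.eq_pow_of_pow_eq_one hN1
    refine ⟨(a : ZMod (2 * M₀)), fun i => ?_⟩
    rw [← i.natCast_zmod_val, hrQnat, map_pow, ← ha, ← pow_mul, ← AddChar.map_nsmul_eq_pow,
      nsmul_eq_mul, mul_one, Nat.cast_mul]
  choose ae hae using hex
  have hTT : ∀ i : ZMod (2 * M₀), ∀ θ ∈ bw, ∀ θ' ∈ bw,
      ((2 * M₀ : ℕ) : ℂ) * mU 2 Q e' (rQ i : L) θ θ' =
        stdAddChar (ae θ * i) * conj (stdAddChar (ae θ' * i) : ℂ) := by
    intro i θ hθ θ' hθ'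
    rw [← hae, ← hae, ← hlam θ hθ θ' hθ' (rQ i), TT, Tof,
      pow_blockDefect_eU hpM hN.block hN.isMax hnilp (rQ i).2,
      inf_eq_left.2 (fun x hx => Subgroup.mem_centralizer_singleton_iff.2
        (congrArg Subtype.val (hcomm ⟨x, hx⟩ (rQ i)))), hcardQ]
    rfl
  -- the central involution
  have hzt : ∀ x : G, x * σ ^ M₀ = σ ^ M₀ * x := fun x => Subgroup.mem_center_iff.1 hcen x
  have hGz : Subgroup.centralizer ({σ ^ M₀} : Set G) = ⊤ :=
    eq_top_iff.2 fun x _ => Subgroup.mem_centralizer_singleton_iff.2 (hzt x)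
  set zL : L := (rQ (M₀ : ZMod (2 * M₀)) : L) with hzL
  have hzLG : ((zL : L) : G) = σ ^ M₀ := hD.z_eq
  have hLz : Subgroup.centralizer ({zL} : Set L) = ⊤ :=
    eq_top_iff.2 fun x _ => Subgroup.mem_centralizer_singleton_iff.2
      (Subtype.ext (by rw [Subgroup.coe_mul, Subgroup.coe_mul, hzLG]; exact hzt x))
  choose sθ hsθ2 hsθ using fun θ : IrrCharacter L =>
    exists_zScal_int hLz (Subtype.ext (by rw [Subgroup.coe_mul, hzLG]; exact hD.z_sq)) θ
  choose sχ hsχ2 hsχ using fun χ : IrrCharacter G => exists_zScal_int hGz hD.z_sq χ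
  have hsgn : ∀ θ ∈ bw, ∀ θ' ∈ bw, sgnA (ae θ) * sgnA (ae θ') = sθ θ * sθ θ' := by
    intro θ hθ θ' hθ'
    have h1 := hTT 0 θ hθ θ' hθ'
    have h2 := hTT (M₀ : ZMod (2 * M₀)) θ hθ θ' hθ'
    rw [stdAddChar_mul_M, stdAddChar_mul_M, mU_central hpM hN.block hN.isMax (rQ _).2 hLz hθ θ',
      hsθ, hsθ, map_intCast, map_intCast] at h2
    rw [mul_zero, mul_zero, AddChar.map_zero_eq_one, map_one, one_mul, hrQ0, OneMemClass.coe_one,
      mU_one hpM hN.block hN.isMax hθ θ'] at h1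
    have h : ((sgnA (ae θ) * sgnA (ae θ') : ℤ) : ℂ) = ((sθ θ * sθ θ' : ℤ) : ℂ) := by
      push_cast
      linear_combination -h2 + ((sθ θ : ℂ) * sθ θ') * h1
    exact_mod_cast h
  let n : IrrCharacter G → IrrCharacter L → ℂ := fun χ θ => classInner (fun x : L => χ.1 x) θ.1
  have hnat : ∀ χ θ, ∃ k : ℕ, n χ θ = k := fun χ θ =>
    Char.IsCharacter.exists_nat_classInner (Char.IsCharacter.restrict (Char.irr_isCharacter χ) L)
      (Char.irr_isCharacter θ)
  choose nn hnn using hnat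
  have hres : ∀ χ θ, nn χ θ ≠ 0 → sθ θ = sχ χ := by
    intro χ θ hne
    have h := classInner_transFun (x := (zL : G)) (H := L) zL.2
      (fun s hs => by rw [hzLG]; exact (hzt s).symm) χ θ
    have h2 : transFun (H := L) (zL : G) χ.1 = (sχ χ : ℂ) • fun x : L => χ.1 x := funext fun x => by
      show χ.1 ((zL : G) * x) = _
      rw [hzLG, apply_zmul hGz, hsχ]
      rfl
    rw [h2, Char.classInner_smul_left] at h
    have h3 : xScal (zL : G) θ = (sθ θ : ℂ) := by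
      rw [← hsθ, xScal, dif_pos zL.2, zScal]
    rw [h3] at h
    have h4 : ((sχ χ : ℤ) : ℂ) = ((sθ θ : ℤ) : ℂ) :=
      mul_right_cancel₀ (show n χ θ ≠ 0 by rw [hnn]; exact Nat.cast_ne_zero.2 hne) h
    exact_mod_cast h4.symm
  -- conjugation by `τ`
  have hwinv : τ⁻¹ * rot σ ((M₀ / 2 : ℕ) : ZMod (2 * M₀)) * τ =
      (rot σ ((M₀ / 2 : ℕ) : ZMod (2 * M₀)))⁻¹ := by
    rw [hD.τ_inv_conj_rot, hD.r_mul_half, hD.rot_neg]
  have hτN : τ⁻¹ ∈ Subgroup.normalizer (L : Set G) := by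
    refine BrauerPairs.mem_normalizer_of_conj_le fun x hx => ?_
    have hx' := Subgroup.mem_centralizer_singleton_iff.1 hx
    refine Subgroup.mem_centralizer_singleton_iff.2 ?_
    set w := rot σ ((M₀ / 2 : ℕ) : ZMod (2 * M₀))
    have hwi : τ * w⁻¹ * τ⁻¹ = w := by rw [← hwinv]; group
    calc τ⁻¹ * x * τ⁻¹⁻¹ * w = τ⁻¹ * (x * (τ * w * τ⁻¹)) * τ := by group
      _ = τ⁻¹ * (x * w⁻¹) * τ := by
          rw [show τ * w * τ⁻¹ = w⁻¹ by
            rw [← inv_inj, inv_inv]; conv_rhs => rw [← hwi]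
            group]
      _ = τ⁻¹ * (w⁻¹ * x) * τ := by
          rw [(Commute.inv_right (show Commute x w from hx')).eq]
      _ = τ⁻¹ * w⁻¹ * τ * (τ⁻¹ * x * τ) := by group
      _ = w * (τ⁻¹ * x * τ⁻¹⁻¹) := by
          rw [show τ⁻¹ * w⁻¹ * τ = (τ⁻¹ * w * τ)⁻¹ by group, hwinv, inv_inv, inv_inv]
  set ι := conjIso τ⁻¹ (BrauerPairs.mem_iff_conj_mem hτN)
  have hι : ∀ x : L, ((ι x : L) : G) = τ * x * τ⁻¹ := fun x => by
    show τ⁻¹⁻¹ * (x : G) * τ⁻¹ = _
    rw [inv_inv]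
  have hbwe : blk M L bw = eU 2 P e (rot σ ((M₀ / 2 : ℕ) : ZMod (2 * M₀))) :=
    (blkSet_spec (isBlockIdem_eU c.pair (hD.rot_mem _))).2
  have hmap : mapBlock ι bw = bw := by
    refine BrauerPairs.blk_injective L (BrauerPairs.isPBlock_mapBlock ι hN.block) hN.block ?_
    rw [BrauerPairs.blk_mapBlock_conjIso, hbwe, ← eU_conj c.pair (hD.rot_mem _) (inv_mem hD.τ_mem),
      inv_inv, hwinv]
    exact eU_congr c.pair (hD.rot_mem _) (inv_mem (hD.rot_mem _)) Subgroup.zpowers_inv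
  set sw := compIrr ι
  have hsw : ∀ θ, sw θ ∈ bw ↔ θ ∈ bw := fun θ => by
    conv_lhs => rw [← hmap]
    exact sw.injective.mem_set_image
  have hnsw : ∀ χ θ, nn χ (sw θ) = nn χ θ := by
    intro χ θ
    have h : n χ (sw θ) = n χ θ := by
      show classInner _ _ = classInner _ _
      simp only [classInner]
      congr 1
      refine Fintype.sum_equiv ι.toEquiv _ _ fun x => ?_
      show χ.1 (x : G) * conj ((sw θ).1 x) = χ.1 ((ι x : L) : G) * conj (θ.1 (ι x))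
      rw [hι, irr_classFun χ]
      rfl
    rw [hnn, hnn] at h
    exact_mod_cast h
  have hgen1 : (1 : ZMod (2 * M₀)) ≠ 0 ∧ (1 : ZMod (2 * M₀)) ≠ M₀ := by
    have h2 := hD.two_le
    constructor <;> intro h <;> have h' := congrArg ZMod.val h
    · rw [ZMod.val_one'' (by omega), ZMod.val_zero] at h'
      omega
    · rw [ZMod.val_one'' (by omega), ZMod.val_natCast, Nat.mod_eq_of_lt (by omega)] at h'
      omega
  have hext : ∀ i : ZMod (2 * M₀), i ≠ 0 → i ≠ (M₀ : ZMod (2 * M₀)) → ∀ θ θ' : IrrCharacter L,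
      sectF 2 (Subgroup.centralizer ({rot σ i} : Set G)) (rot σ i)
          (blkSet M (Subgroup.centralizer ({rot σ i} : Set G)) (eU 2 P e (rot σ i)))
          (extFun L θ.1) (extFun L θ'.1) = mU 2 Q e' (rQ i : L) θ θ' := by
    intro i h0 hM θ θ'
    have hC : Subgroup.centralizer ({((rQ i : L) : G)} : Set G) ≤ L := hD.centralizer_le h0 hM
    show sectF 2 (Subgroup.centralizer ({((rQ i : L) : G)} : Set G)) ((rQ i : L) : G)
      (blkSet M (Subgroup.centralizer ({((rQ i : L) : G)} : Set G)) (eU 2 P e ((rQ i : L) : G)))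
      _ _ = _
    rw [hN.blkSet_eq (rQ i).2 hC, DihedralDefect.sectF_cenIso hC]
    simp only [extFun_coe]
    rfl
  have hrel : ∀ θ ∈ bw, ∀ θ' ∈ bw,
      (r : ZMod (2 * M₀)) * (ae θ - ae θ') = ae (sw θ) - ae (sw θ') := by
    intro θ hθ θ' hθ'
    have hr : (r : ZMod (2 * M₀)) * 1 ≠ 0 ∧ (r : ZMod (2 * M₀)) * 1 ≠ M₀ := by
      constructor <;> intro h
      · refine hgen1.1 ?_
        have h' := congrArg ((r : ZMod (2 * M₀)) * ·) h
        simp only [← mul_assoc, hD.r_sq, one_mul, mul_zero] at h'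
        exact h'
      · refine hgen1.2 ?_
        have h' := congrArg ((r : ZMod (2 * M₀)) * ·) h
        simp only [← mul_assoc, hD.r_sq, one_mul, hD.r_mul_M] at h'
        exact h'
    have hH := mem_centralizer_conj (G := G) τ (rot σ (1 : ZMod (2 * M₀)))
    have h1 := hext _ hr.1 hr.2 θ θ'
    rw [← hD.τ_conj_rot, eU_conj c.pair (hD.rot_mem 1) hD.τ_mem, blkSet_conj c.pair (hD.rot_mem 1) τ hH,
      sectF_conj' τ hH (Subgroup.mem_centralizer_singleton_iff.2 rfl),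
      sectF_congr (Subgroup.mem_centralizer_singleton_iff.2 rfl) _
        (φ' := extFun L (sw θ).1) (ψ' := extFun L (sw θ').1)] at h1
    rotate_left
    · intro g hg
      have hgL : g ∈ L := hD.centralizer_le hgen1.1 hgen1.2 hg
      rw [← hι ⟨g, hgL⟩, extFun_coe, extFun, dif_pos hgL]
      rfl
    · intro g hg
      have hgL : g ∈ L := hD.centralizer_le hgen1.1 hgen1.2 hg
      rw [← hι ⟨g, hgL⟩, extFun_coe, extFun, dif_pos hgL]
      rfl
    rw [hext _ hgen1.1 hgen1.2] at h1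
    have e1 := hTT ((r : ZMod (2 * M₀)) * 1) θ hθ θ' hθ'
    have e2 := hTT 1 _ ((hsw θ).2 hθ) _ ((hsw θ').2 hθ')
    rw [← h1, e2] at e1
    rw [conj_stdAddChar, conj_stdAddChar, ← AddChar.map_add_eq_mul, ← AddChar.map_add_eq_mul] at e1
    linear_combination -(ZMod.injective_stdAddChar e1)
  have hsws : ∀ θ, sθ (sw θ) = sθ θ := by
    intro θ
    have h : (sθ (sw θ) : ℂ) = (sθ θ : ℂ) := by
      rw [← hsθ, ← hsθ]
      show θ.1 (ι zL) / θ.1 (ι 1) = θ.1 zL / θ.1 1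
      rw [map_one, show ι zL = zL from Subtype.ext (by
        rw [hι, hzLG, hzt τ, mul_inv_cancel_right])]
    exact_mod_cast h
  obtain ⟨θ₀, hθ₀⟩ := BrauerPairs.nonempty_of_isPBlock hN.block
  set ν := ae (sw θ₀) - (r : ZMod (2 * M₀)) * ae θ₀ with hν
  have hνev : sgnA ν = 1 := by
    have h := hsgn _ ((hsw θ₀).2 hθ₀) _ hθ₀
    rw [hsws, hsθ2 θ₀] at h
    have e : sgnA ((r : ZMod (2 * M₀)) * ae θ₀) = sgnA (ae θ₀) := by
      have : ((sgnA ((r : ZMod (2 * M₀)) * ae θ₀) : ℤ) : ℂ) = (sgnA (ae θ₀) : ℂ) := by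
        rw [← stdAddChar_mul_M, ← stdAddChar_mul_M, mul_comm (r : ZMod (2 * M₀)), mul_assoc,
          hD.r_mul_M]
      exact_mod_cast this
    have e2 : sgnA (ae (sw θ₀)) = sgnA ν * sgnA (ae θ₀) := by
      rw [← e, ← sgnA_add, hν, sub_add_cancel]
    rw [e2, mul_assoc, sgnA_sq, mul_one] at h
    exact h
  obtain ⟨cc, hcc⟩ : ∃ cc : ZMod (2 * M₀), ν + cc = (r : ZMod (2 * M₀)) * cc := by
    obtain ⟨u, hu⟩ := hD.r_odd
    obtain ⟨k, hk⟩ : Even ν.val := by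
      by_contra h
      rw [sgnA, (Nat.not_even_iff_odd.1 h).neg_one_pow] at hνev
      exact absurd hνev (by norm_num)
    have hunit : IsUnit ((2 * u + 1 : ℕ) : ZMod (2 * M₀)) := by
      rw [ZMod.isUnit_iff_coprime]
      obtain ⟨a, ha⟩ := hD.two_pow
      rw [ha, ← pow_succ']
      exact (Nat.Coprime.pow_right _ (Nat.coprime_two_right.2 ⟨u, rfl⟩))
    obtain ⟨w, hw⟩ := hunit
    refine ⟨(↑w⁻¹ : ZMod (2 * M₀)) * k, ?_⟩
    have hww : ((2 * u + 1 : ℕ) : ZMod (2 * M₀)) * ((↑w⁻¹ : ZMod (2 * M₀)) * k) = k := by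
      rw [← hw, Units.mul_inv_cancel_left]
    rw [← ν.natCast_zmod_val, hk, hu]
    push_cast at hww ⊢
    linear_combination (-2 : ZMod (2 * M₀)) * hww
  have hshift : ∀ θ ∈ bw, ae (sw θ) + cc = (r : ZMod (2 * M₀)) * (ae θ + cc) := fun θ hθ => by
    linear_combination hν + hcc - hrel θ hθ θ₀ hθ₀
  let m : IrrCharacter G → ZMod (2 * M₀) → ℤ := fun χ a =>
    ∑ θ ∈ (bFin bw).filter (fun θ => ae θ + cc = a), (nn χ θ : ℤ)
  set ε := sgnA cc * sgnA (ae θ₀) * sθ θ₀ with hε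
  refine ⟨m, fun χ => ε * sχ χ, fun χ a => Finset.sum_nonneg fun θ _ => Int.natCast_nonneg _,
    fun χ a => ?_, fun χ a ha => ?_, fun χ => ?_, fun χ hχ ψ => ?_, fun i h0 hM χ ψ => ?_⟩
  · refine Finset.sum_equiv sw.symm (fun θ => ?_) fun θ _ => ?_
    · simp only [Finset.mem_filter, mem_bFin]
      have hm := (hsw (sw.symm θ))
      rw [Equiv.apply_symm_apply] at hm
      constructor
      · rintro ⟨hθ, h⟩
        refine ⟨hm.1 hθ, ?_⟩
        have := hshift _ (hm.1 hθ)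
        rw [Equiv.apply_symm_apply, h] at this
        have h' := congrArg ((r : ZMod (2 * M₀)) * ·) this
        simp only [← mul_assoc, hD.r_sq, one_mul] at h'
        exact h'.symm
      · rintro ⟨hθ, h⟩
        refine ⟨hm.2 hθ, ?_⟩
        have := hshift _ hθ
        rw [Equiv.apply_symm_apply, h] at this
        exact this
    · conv_lhs => rw [← sw.apply_symm_apply θ, hnsw]
  · obtain ⟨θ, hθ, hne⟩ := Finset.exists_ne_zero_of_sum_ne_zero ha
    obtain ⟨hθb, rfl⟩ := Finset.mem_filter.1 hθ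
    show _ = ε * sχ χ
    rw [← hres χ θ (by exact_mod_cast hne), hε, sgnA_add]
    have h := hsgn θ (mem_bFin.1 hθb) θ₀ hθ₀
    linear_combination (sgnA cc * sgnA (ae θ₀)) * h -
      (sgnA (ae θ) * sgnA cc) * sgnA_sq (ae θ₀)
  · show ε * sχ χ * (ε * sχ χ) = 1
    rw [hε]
    linear_combination (sgnA (ae θ₀) ^ 2 * sθ θ₀ ^ 2 * sχ χ ^ 2) * sgnA_sq cc +
      (sθ θ₀ ^ 2 * sχ χ ^ 2) * sgnA_sq (ae θ₀) + sχ χ ^ 2 * hsθ2 θ₀ + hsχ2 χ
  · rw [mU_central hpM c.block c.isMax hD.z_mem hGz hχ ψ, mU_one hpM c.block c.isMax hχ ψ, hsχ, hsχ,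
      map_intCast]
    have h : (ε : ℂ) * ε = 1 := by
      have h' : ε * ε = 1 := by
        rw [hε]
        linear_combination (sgnA (ae θ₀) ^ 2 * sθ θ₀ ^ 2) * sgnA_sq cc +
          sθ θ₀ ^ 2 * sgnA_sq (ae θ₀) + hsθ2 θ₀
      exact_mod_cast h'
    push_cast
    linear_combination -((sχ χ : ℂ) * sχ ψ * regDot 2 χ.1 ψ.1) * h
  · have hev : ∀ χ : IrrCharacter G, ev (m χ) i =
        (stdAddChar (N := 2 * M₀) (cc * i)) *
          ∑ θ ∈ bFin bw, n χ θ * stdAddChar (N := 2 * M₀) (ae θ * i) := fun χ => by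
      simp only [ev, m, Int.cast_sum, Int.cast_natCast, Finset.sum_mul]
      rw [Finset.sum_congr rfl fun a _ => Finset.sum_congr rfl fun θ hθ =>
        show (nn χ θ : ℂ) * stdAddChar (N := 2 * M₀) (a * i) =
          (nn χ θ : ℂ) * stdAddChar (N := 2 * M₀) ((ae θ + cc) * i) by
            rw [(Finset.mem_filter.1 hθ).2], Finset.sum_fiberwise, Finset.mul_sum]
      refine Finset.sum_congr rfl fun θ _ => ?_
      rw [add_mul, AddChar.map_add_eq_mul, hnn]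
      ring
    show ((2 * M₀ : ℕ) : ℂ) * mU 2 P e ((rQ i : L) : G) χ ψ = _
    rw [hN.mU_eq hpM (rQ i).2 (hD.centralizer_le h0 hM), hev, hev, map_mul (starRingEnd ℂ),
      map_sum (starRingEnd ℂ),
      mul_mul_mul_comm, stdAddChar_mul_conj, one_mul, Finset.sum_mul_sum, Finset.mul_sum]
    refine Finset.sum_congr rfl fun θ hθ => ?_
    rw [Finset.mul_sum]
    refine Finset.sum_congr rfl fun θ' hθ' => ?_
    rw [mul_left_comm, hTT i θ (mem_bFin.1 hθ) θ' (mem_bFin.1 hθ')]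
    simp only [n, map_mul]
    ring

end Ctx

end Cfsg.Agent.TameBlock
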