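import Cfsg.Agent.Lib.Blocks.NilpotentRank.Bijection

/-!
# The subsections of a block as orthogonal projections

For a maximal pair `(P, e)` of `B` and representatives `T ⊆ P` of the classes of subsections, the
matrices `mU u` (`u ∈ T`) are Hermitian idempotents adding up to the identity on `B`; hence the
products of two different ones vanish.
-/

set_option autoImplicit false
set_option linter.unusedSectionVars false
set_option linter.style.haveILetI false

namespace Cfsg.Agent.TameBlock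

open Cfsg Blocks MonoidAlgebra
open Cfsg.Agent.BrauerPairs (blk blkG conjEl conjPair IsMax PLE IsPair IsPairOf hasBlocks
  isBlockIdem_blkG regDot)
open Cfsg.Agent.Blocks.NilRank
open scoped Classical ComplexConjugate

universe u

/-- Hermitian idempotents adding up to the identity are pairwise orthogonal. -/
theorem proj_mul_eq_zero {ι κ : Type*} (S : Finset ι) (K : Finset κ) (P : κ → ι → ι → ℂ)
    (hherm : ∀ a ∈ K, ∀ x ∈ S, ∀ y ∈ S, conj (P a x y) = P a y x)
    (hidem : ∀ a ∈ K, ∀ x ∈ S, ∀ y ∈ S, ∑ z ∈ S, P a x z * P a z y = P a x y)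
    (hone : ∀ x ∈ S, ∀ y ∈ S, ∑ a ∈ K, P a x y = if x = y then 1 else 0)
    {a b : κ} (ha : a ∈ K) (hb : b ∈ K) (hab : a ≠ b) {x y : ι} (hx : x ∈ S) (hy : y ∈ S) :
    ∑ z ∈ S, P a x z * P b z y = 0 := by
  let Q : κ → ι → ℂ := fun c w => ∑ z ∈ S, P a x z * P c z w
  have hterm : ∀ c ∈ K, ∑ w ∈ S, Q c w * conj (Q c w) = ∑ w ∈ S, Q c w * P a w x := by
    intro c hc
    calc ∑ w ∈ S, Q c w * conj (Q c w)
        = ∑ w ∈ S, ∑ v ∈ S, Q c w * (P c w v * P a v x) := by
          refine Finset.sum_congr rfl fun w hw => ?_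
          simp only [Q, map_sum, map_mul, Finset.mul_sum]
          refine Finset.sum_congr rfl fun v hv => ?_
          rw [hherm a ha x hx v hv, hherm c hc v hv w hw]
          ring
      _ = ∑ v ∈ S, (∑ w ∈ S, Q c w * P c w v) * P a v x := by
          rw [Finset.sum_comm]
          exact Finset.sum_congr rfl fun v _ => by
            rw [Finset.sum_mul]; exact Finset.sum_congr rfl fun w _ => by ring
      _ = ∑ w ∈ S, Q c w * P a w x := by
          refine Finset.sum_congr rfl fun v hv => ?_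
          congr 1
          calc ∑ w ∈ S, Q c w * P c w v
              = ∑ z ∈ S, P a x z * ∑ w ∈ S, P c z w * P c w v := by
                simp only [Q, Finset.sum_mul, Finset.mul_sum]
                rw [Finset.sum_comm]
                exact Finset.sum_congr rfl fun z _ => Finset.sum_congr rfl fun w _ => by ring
            _ = _ := Finset.sum_congr rfl fun z hz => by rw [hidem c hc z hz v hv]
  have htot : ∑ c ∈ K, ∑ w ∈ S, Q c w * conj (Q c w) = P a x x := by
    rw [Finset.sum_congr rfl hterm, Finset.sum_comm]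
    calc ∑ w ∈ S, ∑ c ∈ K, Q c w * P a w x
        = ∑ w ∈ S, P a x w * P a w x := by
          refine Finset.sum_congr rfl fun w hw => ?_
          rw [← Finset.sum_mul]
          congr 1
          simp only [Q]
          rw [Finset.sum_comm, Finset.sum_congr rfl fun z hz => by
            rw [← Finset.mul_sum, hone z hz w hw, mul_ite, mul_one, mul_zero],
            Finset.sum_ite_eq', if_pos hw]
      _ = _ := hidem a ha x hx x hx
  have hself : ∑ w ∈ S, Q a w * conj (Q a w) = P a x x := by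
    rw [hterm a ha]
    calc ∑ w ∈ S, Q a w * P a w x = ∑ w ∈ S, P a x w * P a w x :=
          Finset.sum_congr rfl fun w hw => congrArg (· * P a w x) (hidem a ha x hx w hw)
      _ = _ := hidem a ha x hx x hx
  rw [← Finset.add_sum_erase K _ ha, hself] at htot
  have h0 : ∑ c ∈ K.erase a, ∑ w ∈ S, Complex.normSq (Q c w) = 0 := by
    have h : ∑ c ∈ K.erase a, ∑ w ∈ S, Q c w * conj (Q c w) = 0 := by linear_combination htot
    simp only [Complex.mul_conj] at h
    exact_mod_cast h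
  have h1 := (Finset.sum_eq_zero_iff_of_nonneg fun c _ =>
    Finset.sum_nonneg fun w _ => Complex.normSq_nonneg _).1 h0 b
      (Finset.mem_erase.2 ⟨hab.symm, hb⟩)
  exact Complex.normSq_eq_zero.1
    ((Finset.sum_eq_zero_iff_of_nonneg fun w _ => Complex.normSq_nonneg _).1 h1 y hy)

variable {G : Type u} [Group G] [Fintype G] {M : Ideal AlgInt} [M.IsMaximal] {p : ℕ}
  [hp : Fact p.Prime] [CharP (AlgInt ⧸ M) p] {B : Set (IrrCharacter G)} {P : Subgroup G}
  {e : MonoidAlgebra (AlgInt ⧸ M) G}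

variable (p) in
/-- The contribution of the subsection `(u, b_u)` below `(P, e)`. -/
noncomputable def mU (P : Subgroup G) (e : MonoidAlgebra (AlgInt ⧸ M) G) (u : G)
    (χ ψ : IrrCharacter G) : ℂ :=
  sectF p (Subgroup.centralizer ({u} : Set G)) u
    (blkSet M (Subgroup.centralizer ({u} : Set G)) (eU p P e u)) χ.1 ψ.1

variable (p) in
/-- The subsections at `u`, `v` are conjugate. -/
def Fus (P : Subgroup G) (e : MonoidAlgebra (AlgInt ⧸ M) G) (u v : G) : Prop :=
  ∃ g, g * u * g⁻¹ = v ∧ conjEl g (eU p P e u) = eU p P e v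

/-- The members of `B`. -/
noncomputable def bFin (B : Set (IrrCharacter G)) : Finset (IrrCharacter G) :=
  Finset.univ.filter (· ∈ B)

theorem mem_bFin {B : Set (IrrCharacter G)} {χ : IrrCharacter G} : χ ∈ bFin B ↔ χ ∈ B := by
  simp [bFin]

theorem card_bFin (B : Set (IrrCharacter G)) : (bFin B).card = Nat.card B := by
  rw [Nat.card_eq_fintype_card, Fintype.card_subtype]
  rfl

theorem Fus.refl (u : G) : Fus p P e u u := ⟨1, by simp, BrauerPairs.conjEl_one _⟩

theorem Fus.symm {u v : G} (h : Fus p P e u v) : Fus p P e v u := by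
  obtain ⟨g, rfl, hg⟩ := h
  exact ⟨g⁻¹, by group, by rw [← hg, BrauerPairs.conjEl_inv_conjEl]⟩

theorem Fus.trans {u v w : G} (h : Fus p P e u v) (h' : Fus p P e v w) : Fus p P e u w := by
  obtain ⟨g, rfl, hg⟩ := h
  obtain ⟨g', rfl, hg'⟩ := h'
  exact ⟨g' * g, by group, by rw [BrauerPairs.conjEl_mul, hg, hg']⟩

theorem Fus.of_conj (ha : IsPair p (P, e)) {u c : G} (hu : u ∈ P) (hc : c ∈ P) :
    Fus p P e u (c * u * c⁻¹) := ⟨c, rfl, (eU_conj ha hu hc).symm⟩

theorem Fus.orderOf_eq {u v : G} (h : Fus p P e u v) : orderOf v = orderOf u := by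
  obtain ⟨g, rfl, -⟩ := h
  rw [← MulAut.conj_apply, MulEquiv.orderOf_eq]

theorem mem_centralizer_conj (g u c : G) :
    c ∈ Subgroup.centralizer ({g * u * g⁻¹} : Set G) ↔
      g⁻¹ * c * g ∈ Subgroup.centralizer ({u} : Set G) := by
  simp only [Subgroup.mem_centralizer_singleton_iff]
  constructor
  · intro h
    have := congrArg (fun y => g⁻¹ * y * g) h
    simpa [mul_assoc] using this
  · intro h
    have := congrArg (fun y => g * y * g⁻¹) h
    simpa [mul_assoc] using this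

theorem mU_congr (ha : IsPair p (P, e)) {u v : G} (hu : u ∈ P) (h : Fus p P e u v)
    (χ ψ : IrrCharacter G) : mU p P e v χ ψ = mU p P e u χ ψ := by
  obtain ⟨g, rfl, hg⟩ := h
  rw [mU, ← hg, blkSet_conj ha hu g (mem_centralizer_conj g u),
    sectF_conj g (mem_centralizer_conj g u)]
  rfl

theorem mU_eq_contribution (u : G) (χ ψ : IrrCharacter G) :
    mU p P e u χ ψ = contribution p
      (blkSet M (Subgroup.centralizer ({u} : Set G)) (eU p P e u)) χ.1 ψ.1 :=
  sectF_eq_contribution _ χ ψ.1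

theorem conj_mU (hpM : (p : AlgInt) ∈ M) (ha : IsPair p (P, e)) {u : G} (hu : u ∈ P)
    (χ ψ : IrrCharacter G) : conj (mU p P e u χ ψ) = mU p P e u ψ χ := by
  rw [mU_eq_contribution, mU_eq_contribution,
    conj_contribution hpM (blkSet_spec (isBlockIdem_eU ha hu)).1]

/-- `Σ_ψ m(χ, ψ) m(ψ, φ) = m(χ, φ)`. -/
theorem sum_contribution_mul (hpM : (p : AlgInt) ∈ M) {x : G} {k : ℕ} (hx : orderOf x = p ^ k)
    {b : Set (IrrCharacter (Subgroup.centralizer ({x} : Set G)))}
    (hb : IsInducedBlock M (Subgroup.centralizer ({x} : Set G)) b B) (χ φ : IrrCharacter G) :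
    ∑ ψ ∈ bFin B, contribution p b χ.1 ψ.1 * contribution p b ψ.1 φ.1 =
      contribution p b χ.1 φ.1 := by
  simp only [← conj_contribution hpM hb.1 φ, bFin]
  rw [conj_contribution hpM hb.1 φ χ]
  unfold contribution
  rw [Finset.sum_congr rfl fun ψ _ => Finset.sum_mul _ _ _, Finset.sum_comm]
  refine Finset.sum_congr rfl fun η hη => ?_
  rw [regDot_secFun hpM hb.1 φ (Finset.mem_filter.1 hη).2, map_sum, Finset.mul_sum]
  simp only [map_sum, map_mul, Complex.conj_conj, Finset.mul_sum]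
  rw [Finset.sum_comm]
  refine Finset.sum_congr rfl fun η' hη' => ?_
  rw [conj_regDot_irr,
    ← sum_regDot_secFun hpM hx hb (Finset.mem_filter.1 hη').2 (Finset.mem_filter.1 hη).2,
    Finset.mul_sum, Finset.mul_sum]
  exact Finset.sum_congr rfl fun ψ _ => by ring

theorem sum_mU_mul (hpM : (p : AlgInt) ∈ M) (hB : IsPBlock M B) (ha : IsMax p (blkG M B) (P, e))
    {u : G} (hu : u ∈ P) (χ φ : IrrCharacter G) :
    ∑ ψ ∈ bFin B, mU p P e u χ ψ * mU p P e u ψ φ = mU p P e u χ φ := by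
  obtain ⟨k, hk⟩ := exists_orderOf_mem ha.1.1.1 hu
  simp only [mU_eq_contribution]
  exact sum_contribution_mul hpM hk (isInducedBlock_eU hpM hB ha.1 hu) χ φ

theorem sum_mU_self (hpM : (p : AlgInt) ∈ M) (hB : IsPBlock M B) (ha : IsMax p (blkG M B) (P, e))
    {u : G} (hu : u ∈ P) : ∑ χ ∈ bFin B, mU p P e u χ χ =
      blockRank p (blkSet M (Subgroup.centralizer ({u} : Set G)) (eU p P e u)) := by
  obtain ⟨k, hk⟩ := exists_orderOf_mem ha.1.1.1 hu
  simp only [mU_eq_contribution, bFin]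
  exact sum_contribution_self hpM hk (isInducedBlock_eU hpM hB ha.1 hu)

variable (p) in
/-- Representatives of the classes of subsections in `P`. -/
structure IsTransversal (P : Subgroup G) (e : MonoidAlgebra (AlgInt ⧸ M) G) (T : Finset G) :
    Prop where
  mem : ∀ u ∈ T, u ∈ P
  cover : ∀ v ∈ P, ∃ u ∈ T, Fus p P e u v
  inj : ∀ u ∈ T, ∀ v ∈ T, Fus p P e u v → u = v

/-- A covering set contains representatives. -/
theorem exists_transversal (S : Finset G) (hS : ∀ u ∈ S, u ∈ P)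
    (hcov : ∀ v ∈ P, ∃ u ∈ S, Fus p P e u v) :
    ∃ T, T ⊆ S ∧ IsTransversal p P e T := by
  suffices h : ∀ n (S : Finset G), S.card = n → (∀ u ∈ S, u ∈ P) →
      (∀ v ∈ P, ∃ u ∈ S, Fus p P e u v) → ∃ T, T ⊆ S ∧ IsTransversal p P e T from
    h _ S rfl hS hcov
  intro n
  induction n using Nat.strong_induction_on with
  | _ n ih =>
    intro S hn hS hcov
    by_cases hinj : ∀ u ∈ S, ∀ v ∈ S, Fus p P e u v → u = v
    · exact ⟨S, subset_rfl, hS, hcov, hinj⟩
    push Not at hinj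
    obtain ⟨u, hu, v, hv, huv, hne⟩ := hinj
    obtain ⟨T, hT, hT'⟩ := ih _ (hn ▸ Finset.card_erase_lt_of_mem hv) (S.erase v) rfl
      (fun w hw => hS w (Finset.mem_of_mem_erase hw)) fun x hx => by
        obtain ⟨w, hw, hwx⟩ := hcov x hx
        by_cases hwv : w = v
        · exact ⟨u, Finset.mem_erase.2 ⟨hne, hu⟩, huv.trans (hwv ▸ hwx)⟩
        · exact ⟨w, Finset.mem_erase.2 ⟨hwv, hw⟩, hwx⟩
    exact ⟨T, hT.trans (Finset.erase_subset _ _), hT'⟩

/-- `⟨χ, ψ⟩ = Σ_T m_u(χ, ψ)`. -/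
theorem identity (hpM : (p : AlgInt) ∈ M) (hB : IsPBlock M B) (ha : IsMax p (blkG M B) (P, e))
    {T : Finset G} (hT : IsTransversal p P e T) {χ : IrrCharacter G} (hχ : χ ∈ B)
    (ψ : IrrCharacter G) :
    ∑ u ∈ T, mU p P e u χ ψ = if χ = ψ then 1 else 0 := by
  have hblk : ∀ H : Subgroup G, BrauerPairs.HasBlocks (AlgInt ⧸ M) H := fun H => hasBlocks M H
  have hBi := isBlockIdem_blkG hB
  let F : G × MonoidAlgebra (AlgInt ⧸ M) G → ℂ := fun q =>
    sectF p (Subgroup.centralizer ({q.1} : Set G)) q.1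
      (blkSet M (Subgroup.centralizer ({q.1} : Set G)) q.2) χ.1 ψ.1
  let q : G × G → G × MonoidAlgebra (AlgInt ⧸ M) G := fun gu =>
    (gu.1 * gu.2 * gu.1⁻¹, conjEl gu.1 (eU p P e gu.2))
  let D := (Finset.univ : Finset G) ×ˢ T
  have hmem : ∀ gu ∈ D, q gu ∈ secPairs M p B := fun gu hgu => by
    have hu := hT.mem _ (Finset.mem_product.1 hgu).2
    have hpair := (isPairOf_eU hBi ha.1 hu).conj hBi gu.1
    rw [show conjPair gu.1 (Subgroup.zpowers (gu.2 : G), eU p P e gu.2) =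
      (Subgroup.zpowers (q gu).1, (q gu).2) from Prod.ext (map_conj_zpowers _ _) rfl] at hpair
    refine (mem_secPairs hpM hB _).2 ⟨?_, hpair⟩
    obtain ⟨k, hk⟩ := exists_orderOf_mem ha.1.1.1 hu
    exact ⟨k, by
      show orderOf (MulAut.conj gu.1 gu.2) = _
      rw [MulEquiv.orderOf_eq, hk]⟩
  have hF : ∀ gu ∈ D, F (q gu) = mU p P e gu.2 χ ψ := fun gu hgu => by
    simp only [F, q, blkSet_conj ha.1.1 (hT.mem _ (Finset.mem_product.1 hgu).2) gu.1
      (mem_centralizer_conj gu.1 gu.2)]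
    exact sectF_conj gu.1 (mem_centralizer_conj gu.1 gu.2) _ χ ψ
  have hfib : ∀ y ∈ secPairs M p B, ((D.filter fun gu => q gu = y).card : ℂ) =
      Nat.card (Subgroup.centralizer ({y.1} : Set G)) := by
    intro y hy
    obtain ⟨-, hy2⟩ := (mem_secPairs hpM hB y).1 hy
    obtain ⟨g₁, hg₁⟩ := BrauerPairs.exists_conj_ple hblk hBi ha hy2
    have hu0 : g₁ * y.1 * g₁⁻¹ ∈ P := by
      refine PLE.le hg₁ ?_
      show _ ∈ (Subgroup.zpowers y.1).map (MulAut.conj g₁).toMonoidHom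
      exact ⟨y.1, Subgroup.mem_zpowers _, rfl⟩
    have he0 : eU p P e (g₁ * y.1 * g₁⁻¹) = conjEl g₁ y.2 := by
      refine eU_eq ha.1.1 hu0 ?_
      rwa [show conjPair g₁ (Subgroup.zpowers y.1, y.2) =
        (Subgroup.zpowers (g₁ * y.1 * g₁⁻¹), conjEl g₁ y.2)
        from Prod.ext (map_conj_zpowers _ _) rfl] at hg₁
    obtain ⟨u, hu, h, hhu, hhe⟩ := hT.cover _ hu0
    have hy' : q (g₁⁻¹ * h, u) = y := by
      refine Prod.ext ?_ ?_
      · show g₁⁻¹ * h * u * (g₁⁻¹ * h)⁻¹ = y.1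
        calc _ = g₁⁻¹ * (h * u * h⁻¹) * g₁ := by group
          _ = y.1 := by rw [hhu]; group
      · show conjEl (g₁⁻¹ * h) (eU p P e u) = y.2
        rw [BrauerPairs.conjEl_mul, hhe, he0, BrauerPairs.conjEl_inv_conjEl]
    rw [Nat.cast_inj, Nat.card_eq_fintype_card, ← Finset.card_univ]
    symm
    refine Finset.card_bij (fun c _ => ((c : G) * (g₁⁻¹ * h), u)) (fun c _ => ?_)
      (fun c _ c' _ hcc => Subtype.ext (mul_right_cancel (congrArg Prod.fst hcc))) fun gu hgu => ?_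
    · refine Finset.mem_filter.2 ⟨Finset.mem_product.2 ⟨Finset.mem_univ _, hu⟩, ?_⟩
      have h1 : g₁⁻¹ * h * u * (g₁⁻¹ * h)⁻¹ = y.1 := congrArg Prod.fst hy'
      have h2 : conjEl (g₁⁻¹ * h) (eU p P e u) = y.2 := congrArg Prod.snd hy'
      refine Prod.ext ?_ ?_
      · show (c : G) * (g₁⁻¹ * h) * u * ((c : G) * (g₁⁻¹ * h))⁻¹ = y.1
        calc _ = (c : G) * (g₁⁻¹ * h * u * (g₁⁻¹ * h)⁻¹) * (c : G)⁻¹ := by group
          _ = y.1 := by
            rw [h1, Subgroup.mem_centralizer_singleton_iff.1 c.2, mul_inv_cancel_right]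
      · show conjEl ((c : G) * (g₁⁻¹ * h)) (eU p P e u) = y.2
        rw [BrauerPairs.conjEl_mul, h2]
        have hyb := hy2.1.2
        exact hyb.mem.2 (c : G) (centralizer_zpowers_eq.ge c.2)
    · obtain ⟨g', u'⟩ := gu
      obtain ⟨hgu1, hgu2⟩ := Finset.mem_filter.1 hgu
      have h1 : g' * u' * g'⁻¹ = g₁⁻¹ * h * u * (g₁⁻¹ * h)⁻¹ :=
        congrArg Prod.fst (hgu2.trans hy'.symm)
      have h2 : conjEl g' (eU p P e u') = conjEl (g₁⁻¹ * h) (eU p P e u) :=
        congrArg Prod.snd (hgu2.trans hy'.symm)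
      have huu : u' = u := by
        refine hT.inj _ (Finset.mem_product.1 hgu1).2 _ hu ⟨(g₁⁻¹ * h)⁻¹ * g', ?_, ?_⟩
        · calc (g₁⁻¹ * h)⁻¹ * g' * u' * ((g₁⁻¹ * h)⁻¹ * g')⁻¹
              = (g₁⁻¹ * h)⁻¹ * (g' * u' * g'⁻¹) * (g₁⁻¹ * h) := by group
            _ = u := by rw [h1]; group
        · rw [BrauerPairs.conjEl_mul, h2, BrauerPairs.conjEl_inv_conjEl]
      subst huu
      refine ⟨⟨g' * (g₁⁻¹ * h)⁻¹, Subgroup.mem_centralizer_singleton_iff.2 ?_⟩,
        Finset.mem_univ _, ?_⟩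
      · have hy1 : g₁⁻¹ * h * u' * (g₁⁻¹ * h)⁻¹ = y.1 := congrArg Prod.fst hy'
        calc g' * (g₁⁻¹ * h)⁻¹ * y.1 = (g' * u' * g'⁻¹) * (g' * (g₁⁻¹ * h)⁻¹) := by
              rw [← hy1]; group
          _ = y.1 * (g' * (g₁⁻¹ * h)⁻¹) := by rw [h1, hy1]
      · exact Prod.ext (inv_mul_cancel_right g' _) rfl
  have hmain := classInner_eq_sum_secPairs (p := p) hpM hB hχ ψ
  rw [Finset.sum_congr rfl fun y hy => by rw [← hfib y hy, ← nsmul_eq_mul, ← Finset.sum_const,
      Finset.sum_congr rfl fun gu (hgu : gu ∈ D.filter fun gu => q gu = y) =>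
        show F y = mU p P e gu.2 χ ψ by
          rw [← (Finset.mem_filter.1 hgu).2, hF gu (Finset.mem_filter.1 hgu).1]],
    Finset.sum_fiberwise_of_maps_to hmem, Finset.sum_product] at hmain
  simp only at hmain
  rw [Finset.sum_const,
    Finset.card_univ, ← Nat.card_eq_fintype_card, nsmul_eq_mul, Char.classInner_irr] at hmain
  exact (mul_left_cancel₀ (Nat.cast_ne_zero.2 Nat.card_pos.ne') hmain).symm

/-- Non-conjugate subsections are orthogonal. -/
theorem orth (hpM : (p : AlgInt) ∈ M) (hB : IsPBlock M B) (ha : IsMax p (blkG M B) (P, e))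
    {u v : G} (hu : u ∈ P) (hv : v ∈ P) (huv : ¬ Fus p P e u v) {χ φ : IrrCharacter G}
    (hχ : χ ∈ B) (hφ : φ ∈ B) :
    ∑ ψ ∈ bFin B, mU p P e u χ ψ * mU p P e v ψ φ = 0 := by
  obtain ⟨T, -, hT⟩ := exists_transversal (p := p) (P := P) (e := e)
    (Finset.univ.filter (· ∈ P)) (fun w hw => (Finset.mem_filter.1 hw).2)
    fun w hw => ⟨w, Finset.mem_filter.2 ⟨Finset.mem_univ _, hw⟩, Fus.refl w⟩
  obtain ⟨u', hu', huu⟩ := hT.cover u hu
  obtain ⟨v', hv', hvv⟩ := hT.cover v hv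
  simp only [mU_congr ha.1.1 (hT.mem _ hu') huu, mU_congr ha.1.1 (hT.mem _ hv') hvv]
  refine proj_mul_eq_zero (bFin B) T (fun a => mU p P e a) ?_ ?_ ?_ hu' hv'
    (fun h => huv (huu.symm.trans (h ▸ hvv))) (mem_bFin.2 hχ) (mem_bFin.2 hφ)
  · exact fun a ha' x _ y _ => conj_mU hpM ha.1.1 (hT.mem _ ha') x y
  · exact fun a ha' x _ y _ => sum_mU_mul hpM hB ha (hT.mem _ ha') x y
  · intro x hx y _
    convert identity hpM hB ha hT (mem_bFin.1 hx) y

/-- `k(B) = Σ_T l(b_u)`. -/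
theorem card_eq_sum_rank (hpM : (p : AlgInt) ∈ M) (hB : IsPBlock M B)
    (ha : IsMax p (blkG M B) (P, e)) {T : Finset G} (hT : IsTransversal p P e T) :
    Nat.card B =
      ∑ u ∈ T, blockRank p (blkSet M (Subgroup.centralizer ({u} : Set G)) (eU p P e u)) := by
  have h : (Nat.card B : ℂ) = ∑ u ∈ T,
      (blockRank p (blkSet M (Subgroup.centralizer ({u} : Set G)) (eU p P e u)) : ℂ) := by
    rw [Finset.sum_congr rfl fun u hu => (sum_mU_self hpM hB ha (hT.mem u hu)).symm,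
      Finset.sum_comm, Finset.sum_congr rfl fun χ hχ => by
        rw [identity hpM hB ha hT (mem_bFin.1 hχ) χ, if_pos rfl], Finset.sum_const, nsmul_eq_mul,
      mul_one, card_bFin]
  exact_mod_cast h

end Cfsg.Agent.TameBlock
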