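import Mathlib.Algebra.BigOperators.Group.Finset.Basic
import Mathlib.Algebra.Order.BigOperators.Ring.Finset
import Mathlib.Tactic

/-!
# Integral vectors of small norm orthogonal to a positive vector

Combinatorics of the rotation columns: integral vectors `v j` with
`(v j - v l) · (v j - v m) = 1 + δ` form a star, and the vectors `X j`, `Y j` attached to an even
class have one of two shapes.
-/

set_option autoImplicit false
set_option linter.unusedSectionVars false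

namespace Cfsg.Agent.TameBlock.Star

open scoped Classical

variable {ι κ : Type*}

/-- The indicator of `a`. -/
noncomputable def ind (a x : ι) : ℤ := if x = a then 1 else 0

@[simp] theorem ind_self (a : ι) : ind a a = 1 := if_pos rfl

theorem ind_ne {a x : ι} (h : x ≠ a) : ind a x = 0 := if_neg h

theorem ind_comm (a b : ι) : ind a b = ind b a := by
  unfold ind
  by_cases h : a = b
  · rw [if_pos h, if_pos h.symm]
  · rw [if_neg h, if_neg (Ne.symm h)]

variable {S : Finset ι}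

theorem sum_ind_mul {a : ι} (ha : a ∈ S) (f : ι → ℤ) : ∑ i ∈ S, ind a i * f i = f a := by
  simp [ind, Finset.sum_ite_eq', ha]

theorem sum_mul_ind {a : ι} (ha : a ∈ S) (f : ι → ℤ) : ∑ i ∈ S, f i * ind a i = f a := by
  simp [ind, Finset.sum_ite_eq', ha]

theorem int_sq_le_three {x : ℤ} (h : x * x ≤ 3) : x = 0 ∨ x = 1 ∨ x = -1 := by
  have h1 : x < 2 := by nlinarith
  have h2 : -2 < x := by nlinarith
  omega

theorem entry_small {x : ι → ℤ} (h : ∑ i ∈ S, x i * x i ≤ 3) {i : ι} (hi : i ∈ S) :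
    x i = 0 ∨ x i = 1 ∨ x i = -1 :=
  int_sq_le_three ((Finset.single_le_sum (fun j _ => mul_self_nonneg (x j)) hi).trans h)

theorem card_support {x : ι → ℤ} (h : ∑ i ∈ S, x i * x i ≤ 3) :
    ((S.filter fun i => x i ≠ 0).card : ℤ) = ∑ i ∈ S, x i * x i := by
  rw [Finset.card_filter]
  push_cast
  refine Finset.sum_congr rfl fun i hi => ?_
  rcases entry_small h hi with h | h | h <;> rw [h] <;> norm_num

theorem norm_one {x : ι → ℤ} (h : ∑ i ∈ S, x i * x i = 1) :
    ∃ a ∈ S, ∃ t : ℤ, (t = 1 ∨ t = -1) ∧ ∀ i ∈ S, x i = t * ind a i := by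
  have hc := card_support (le_of_eq_of_le h (by norm_num))
  rw [h] at hc
  obtain ⟨a, ha⟩ := Finset.card_eq_one.1 (by exact_mod_cast hc : (S.filter fun i => x i ≠ 0).card = 1)
  have ha' : a ∈ S ∧ x a ≠ 0 := Finset.mem_filter.1 (ha ▸ Finset.mem_singleton_self a)
  refine ⟨a, ha'.1, x a, (entry_small (le_of_eq_of_le h (by norm_num)) ha'.1).resolve_left ha'.2,
    fun i hi => ?_⟩
  by_cases hia : i = a
  · rw [hia, ind_self, mul_one]
  · rw [ind_ne hia, mul_zero]
    by_contra hne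
    exact hia (Finset.mem_singleton.1 (ha ▸ Finset.mem_filter.2 ⟨hi, hne⟩))

theorem norm_two_signs {x : ι → ℤ} (h : ∑ i ∈ S, x i * x i = 2) :
    ∃ a ∈ S, ∃ b ∈ S, a ≠ b ∧ ∃ s t : ℤ, (s = 1 ∨ s = -1) ∧ (t = 1 ∨ t = -1) ∧
      ∀ i ∈ S, x i = s * ind a i + t * ind b i := by
  have hle : ∑ i ∈ S, x i * x i ≤ 3 := le_of_eq_of_le h (by norm_num)
  have hc := card_support hle
  rw [h] at hc
  obtain ⟨a, b, hab, hT⟩ :=
    Finset.card_eq_two.1 (by exact_mod_cast hc : (S.filter fun i => x i ≠ 0).card = 2)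
  have ha : a ∈ S ∧ x a ≠ 0 :=
    Finset.mem_filter.1 (show a ∈ S.filter fun i => x i ≠ 0 by rw [hT]; simp)
  have hb : b ∈ S ∧ x b ≠ 0 :=
    Finset.mem_filter.1 (show b ∈ S.filter fun i => x i ≠ 0 by rw [hT]; simp)
  refine ⟨a, ha.1, b, hb.1, hab, x a, x b, (entry_small hle ha.1).resolve_left ha.2,
    (entry_small hle hb.1).resolve_left hb.2, fun i hi => ?_⟩
  by_cases hia : i = a
  · subst hia
    rw [ind_self, ind_ne hab]
    ring
  by_cases hib : i = b
  · subst hib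
    rw [ind_self, ind_ne hia]
    ring
  rw [ind_ne hia, ind_ne hib, mul_zero, mul_zero, add_zero]
  by_contra hne
  have : i ∈ S.filter fun i => x i ≠ 0 := Finset.mem_filter.2 ⟨hi, hne⟩
  rw [hT] at this
  simp [hia, hib] at this

theorem inj_four {a b c e : ι} (hab : a ≠ b) (hac : a ≠ c) (hae : a ≠ e) (hbc : b ≠ c) (hbe : b ≠ e)
    (hce : c ≠ e) : Function.Injective ![a, b, c, e] := by
  intro k l h
  fin_cases k <;> fin_cases l <;>
    first
      | rfl
      | exact absurd h hab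
      | exact absurd h hac
      | exact absurd h hae
      | exact absurd h hbc
      | exact absurd h hbe
      | exact absurd h hce
      | exact absurd h hab.symm
      | exact absurd h hac.symm
      | exact absurd h hae.symm
      | exact absurd h hbc.symm
      | exact absurd h hbe.symm
      | exact absurd h hce.symm

variable {d : ι → ℤ} (hd : ∀ i ∈ S, 0 < d i)
include hd

/-- A vector of norm two orthogonal to `d`. -/
theorem norm_two {x : ι → ℤ} (h : ∑ i ∈ S, x i * x i = 2) (hdx : ∑ i ∈ S, d i * x i = 0) :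
    ∃ a ∈ S, ∃ b ∈ S, a ≠ b ∧ ∀ i ∈ S, x i = ind a i - ind b i := by
  obtain ⟨a, ha, b, hb, hab, s, t, hs, ht, hx⟩ := norm_two_signs h
  rw [Finset.sum_congr rfl fun i hi => by
      rw [hx i hi, mul_add, mul_left_comm, mul_left_comm (d i) t],
    Finset.sum_add_distrib, ← Finset.mul_sum, ← Finset.mul_sum, sum_mul_ind ha, sum_mul_ind hb] at hdx
  have := hd a ha
  have := hd b hb
  rcases hs with rfl | rfl <;> rcases ht with rfl | rfl
  · omega
  · exact ⟨a, ha, b, hb, hab, fun i hi => by rw [hx i hi]; ring⟩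
  · exact ⟨b, hb, a, ha, hab.symm, fun i hi => by rw [hx i hi]; ring⟩
  · omega

/-- The vectors of a class form a star. -/
theorem star (R : Finset κ) (v : κ → ι → ℤ) (hR : 1 < R.card)
    (hdeg : ∀ j ∈ R, ∀ l ∈ R, ∑ i ∈ S, d i * (v j i - v l i) = 0)
    (hnorm : ∀ j ∈ R, ∀ l ∈ R, j ≠ l → ∑ i ∈ S, (v j i - v l i) * (v j i - v l i) = 2)
    (hinner : ∀ j ∈ R, ∀ l ∈ R, ∀ m ∈ R, j ≠ l → j ≠ m → l ≠ m →
      ∑ i ∈ S, (v j i - v l i) * (v j i - v m i) = 1) :
    ∃ (ε : ℤ) (p : κ → ι), (ε = 1 ∨ ε = -1) ∧ Set.InjOn p R ∧ (∀ j ∈ R, p j ∈ S) ∧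
      ∀ j ∈ R, ∀ l ∈ R, ∀ i ∈ S, v j i - v l i = ε * (ind (p j) i - ind (p l) i) := by
  obtain ⟨j₀, hj₀, j₁, hj₁, hne⟩ := Finset.one_lt_card.1 hR
  obtain ⟨a₁, ha₁, b₁, -, -, -⟩ :=
    norm_two hd (hnorm j₀ hj₀ j₁ hj₁ hne) (hdeg j₀ hj₀ j₁ hj₁)
  haveI : Nonempty ι := ⟨a₁⟩
  have hex : ∀ j, ∃ ab : ι × ι, j ∈ R → j ≠ j₀ → ab.1 ∈ S ∧ ab.2 ∈ S ∧ ab.1 ≠ ab.2 ∧
      ∀ i ∈ S, v j₀ i - v j i = ind ab.1 i - ind ab.2 i := by
    intro j
    by_cases hj : j ∈ R ∧ j ≠ j₀
    · obtain ⟨a, ha, b, hb, hab, h⟩ :=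
        norm_two hd (hnorm j₀ hj₀ j hj.1 hj.2.symm) (hdeg j₀ hj₀ j hj.1)
      exact ⟨(a, b), fun _ _ => ⟨ha, hb, hab, h⟩⟩
    · exact ⟨(a₁, b₁), fun h1 h2 => absurd ⟨h1, h2⟩ hj⟩
  choose ab hab using hex
  have hxor : ∀ j ∈ R, j ≠ j₀ → ∀ l ∈ R, l ≠ j₀ → j ≠ l →
      ((ab j).1 = (ab l).1 ∧ (ab j).2 ≠ (ab l).2) ∨
        ((ab j).1 ≠ (ab l).1 ∧ (ab j).2 = (ab l).2) := by
    intro j hj hj' l hl hl' hjl
    obtain ⟨haj, hbj, habj, hvj⟩ := hab j hj hj'
    obtain ⟨hal, hbl, habl, hvl⟩ := hab l hl hl'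
    have h := hinner j₀ hj₀ j hj l hl hj'.symm hl'.symm hjl
    rw [Finset.sum_congr rfl fun i hi => by rw [hvj i hi, hvl i hi, sub_mul],
      Finset.sum_sub_distrib, sum_ind_mul haj, sum_ind_mul hbj] at h
    unfold ind at h
    split_ifs at h with h1 h2 h3 h4 <;> first
      | omega
      | exact Or.inl ⟨‹_›, fun h' => by simp_all⟩
      | exact Or.inr ⟨‹_›, by simp_all⟩
      | simp_all
  suffices hs : ∃ (ε : ℤ) (p : κ → ι), (ε = 1 ∨ ε = -1) ∧ (∀ j ∈ R, p j ∈ S) ∧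
      ∀ j ∈ R, ∀ i ∈ S, v j₀ i - v j i = ε * (ind (p j₀) i - ind (p j) i) by
    obtain ⟨ε, p, hε, hp, h⟩ := hs
    have hall : ∀ j ∈ R, ∀ l ∈ R, ∀ i ∈ S, v j i - v l i = ε * (ind (p j) i - ind (p l) i) :=
      fun j hj l hl i hi => by linear_combination h l hl i hi - h j hj i hi
    refine ⟨ε, p, hε, fun j hj l hl hjl => ?_, hp, hall⟩
    by_contra hne'
    have h2 := hnorm j hj l hl hne'
    rw [Finset.sum_congr rfl fun i hi => by rw [hall j hj l hl i hi, hjl, sub_self, mul_zero,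
      mul_zero], Finset.sum_const_zero] at h2
    exact two_ne_zero h2.symm
  by_cases hA : ∀ j ∈ R, j ≠ j₀ → ∀ l ∈ R, l ≠ j₀ → (ab j).1 = (ab l).1
  · refine ⟨1, fun j => if j = j₀ then (ab j₁).1 else (ab j).2, Or.inl rfl, fun j hj => ?_,
      fun j hj i hi => ?_⟩
    · by_cases hj' : j = j₀
      · simp only [if_pos hj']
        exact (hab j₁ hj₁ hne.symm).1
      · simp only [if_neg hj']
        exact (hab j hj hj').2.1
    · by_cases hj' : j = j₀
      · subst hj'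
        ring
      · simp only [if_pos rfl, if_neg hj', if_true, one_mul]
        rw [(hab j hj hj').2.2.2 i hi, hA j hj hj' j₁ hj₁ hne.symm]
  · push Not at hA
    obtain ⟨j, hj, hj', l, hl, hl', hjl⟩ := hA
    have hjl' : j ≠ l := fun h => hjl (by rw [h])
    have hb : (ab j).2 = (ab l).2 := ((hxor j hj hj' l hl hl' hjl').resolve_left fun h => hjl h.1).2
    have hall : ∀ m ∈ R, m ≠ j₀ → (ab m).2 = (ab j).2 := by
      intro m hm hm'
      by_cases hmj : m = j
      · rw [hmj]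
      by_cases hml : m = l
      · rw [hml, hb]
      rcases hxor m hm hm' j hj hj' hmj with h | h
      · rcases hxor m hm hm' l hl hl' hml with h' | h'
        · exact absurd (h.1.symm.trans h'.1) hjl
        · rw [h'.2, hb]
      · exact h.2
    refine ⟨-1, fun m => if m = j₀ then (ab j).2 else (ab m).1, Or.inr rfl, fun m hm => ?_,
      fun m hm i hi => ?_⟩
    · by_cases hm' : m = j₀
      · simp only [if_pos hm']
        exact (hab j hj hj').2.1
      · simp only [if_neg hm']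
        exact (hab m hm hm').1
    · by_cases hm' : m = j₀
      · subst hm'
        ring
      · simp only [if_pos rfl, if_neg hm', if_true]
        rw [(hab m hm hm').2.2.2 i hi, hall m hm hm']
        ring

omit hd

/-- The data of the generic shape of an even class. -/
structure Normal (S : Finset ι) (R : Finset κ) (X Y : κ → ι → ℤ) (εe : ℤ) (e : κ → ι)
    (q : Fin 4 → ι) (s : Fin 4 → ℤ) : Prop where
  εe_sign : εe = 1 ∨ εe = -1
  inj : Set.InjOn e R
  e_mem : ∀ j ∈ R, e j ∈ S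
  q_inj : Function.Injective q
  q_mem : ∀ k, q k ∈ S
  s_sign : ∀ k, s k = 1 ∨ s k = -1
  disj : ∀ j ∈ R, ∀ k, q k ≠ e j
  eqX : ∀ j ∈ R, ∀ i ∈ S, X j i = -εe * ind (e j) i + s 0 * ind (q 0) i + s 1 * ind (q 1) i
  eqY : ∀ j ∈ R, ∀ i ∈ S, Y j i = -εe * ind (e j) i + s 2 * ind (q 2) i + s 3 * ind (q 3) i

/-- The data of the exceptional shape of an even class with three pairs. -/
structure Exotic (S : Finset ι) (R : Finset κ) (X Y : κ → ι → ℤ) (εe : ℤ) (e : κ → ι)
    (r b : ι) : Prop where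
  card : R.card = 3
  εe_sign : εe = 1 ∨ εe = -1
  inj : Set.InjOn e R
  e_mem : ∀ j ∈ R, e j ∈ S
  r_mem : r ∈ S
  b_mem : b ∈ S
  rb : r ≠ b
  disjr : ∀ j ∈ R, r ≠ e j
  disjb : ∀ j ∈ R, b ≠ e j
  eqX : ∀ j ∈ R, ∀ i ∈ S, X j i = εe * (∑ l ∈ R, ind (e l) i - ind (e j) i - ind r i)
  eqY : ∀ j ∈ R, ∀ i ∈ S, Y j i = εe * (ind b i - ind (e j) i - ind r i)

include hd

theorem overlap {a b b' : ι} {s t s' t' : ℤ} (hs : s = 1 ∨ s = -1) (ht : t = 1 ∨ t = -1)
    (hs' : s' = 1 ∨ s' = -1) (ht' : t' = 1 ∨ t' = -1) (hab : a ≠ b) (hab' : a ≠ b')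
    (ha : a ∈ S) (hb : b ∈ S)
    (h0 : s * (s' * ind a a + t' * ind b' a) + t * (s' * ind a b + t' * ind b' b) = 0)
    (hdd : s * d a + t * d b = s' * d a + t' * d b') : False := by
  have := hd a ha
  have := hd b hb
  rw [ind_self, ind_ne hab', ind_ne hab.symm] at h0
  by_cases hbb : b = b'
  · subst hbb
    rw [ind_self] at h0
    rcases hs with rfl | rfl <;> rcases ht with rfl | rfl <;> rcases hs' with rfl | rfl <;>
      rcases ht' with rfl | rfl <;> omega
  · rw [ind_ne hbb] at h0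
    rcases hs with rfl | rfl <;> rcases hs' with rfl | rfl <;> omega

/-- Two orthogonal vectors of norm two with equal degree have disjoint supports. -/
theorem disj_four {a b a' b' : ι} {s t s' t' : ℤ} (hs : s = 1 ∨ s = -1) (ht : t = 1 ∨ t = -1)
    (hs' : s' = 1 ∨ s' = -1) (ht' : t' = 1 ∨ t' = -1) (hab : a ≠ b) (hab' : a' ≠ b')
    (ha : a ∈ S) (hb : b ∈ S)
    (h0 : s * (s' * ind a' a + t' * ind b' a) + t * (s' * ind a' b + t' * ind b' b) = 0)
    (hdd : s * d a + t * d b = s' * d a' + t' * d b') :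
    a ≠ a' ∧ a ≠ b' ∧ b ≠ a' ∧ b ≠ b' := by
  refine ⟨fun h => ?_, fun h => ?_, fun h => ?_, fun h => ?_⟩ <;> subst h
  · exact overlap hd hs ht hs' ht' hab hab' ha hb h0 hdd
  · exact overlap hd hs ht ht' hs' hab hab'.symm ha hb (by linear_combination h0)
      (by linear_combination hdd)
  · exact overlap hd ht hs hs' ht' hab.symm hab' hb ha (by linear_combination h0)
      (by linear_combination hdd)
  · exact overlap hd ht hs ht' hs' hab.symm hab'.symm hb ha (by linear_combination h0)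
      (by linear_combination hdd)

theorem even_one {x y : ι → ℤ} (hxx : ∑ i ∈ S, x i * x i = 3) (hyy : ∑ i ∈ S, y i * y i = 3)
    (hxy : ∑ i ∈ S, x i * y i = 1) (hdx : ∑ i ∈ S, d i * x i = 0) (hdy : ∑ i ∈ S, d i * y i = 0) :
    ∃ (εe : ℤ) (e : ι) (q : Fin 4 → ι) (s : Fin 4 → ℤ),
      (εe = 1 ∨ εe = -1) ∧ e ∈ S ∧ Function.Injective q ∧ (∀ k, q k ∈ S) ∧
      (∀ k, s k = 1 ∨ s k = -1) ∧ (∀ k, q k ≠ e) ∧
      (∀ i ∈ S, x i = -εe * ind e i + s 0 * ind (q 0) i + s 1 * ind (q 1) i) ∧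
      ∀ i ∈ S, y i = -εe * ind e i + s 2 * ind (q 2) i + s 3 * ind (q 3) i := by
  have hex := fun i hi => entry_small (x := x) hxx.le (i := i) hi
  have hey := fun i hi => entry_small (x := y) hyy.le (i := i) hi
  -- a shared entry of equal value
  obtain ⟨e, he, hee⟩ : ∃ e ∈ S, 0 < x e * y e := by
    by_contra h
    push Not at h
    have := Finset.sum_nonpos h
    omega
  have hxe : (x e = 1 ∨ x e = -1) ∧ y e = x e := by
    rcases hex e he with h1 | h1 | h1 <;> rcases hey e he with h2 | h2 | h2 <;>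
      simp [h1, h2] at hee ⊢
  have hsplit : ∀ f : ι → ℤ, ∑ i ∈ S, f i = f e + ∑ i ∈ S.erase e, f i := fun f =>
    (Finset.add_sum_erase S f he).symm
  have hsq : x e * x e = 1 := by rcases hxe.1 with h | h <;> rw [h] <;> norm_num
  rw [hsplit] at hxx hyy hxy hdx hdy
  rw [hxe.2] at hyy hxy hdy
  have h2x : ∑ i ∈ S.erase e, x i * x i = 2 := by omega
  have h2y : ∑ i ∈ S.erase e, y i * y i = 2 := by omega
  have h0 : ∑ i ∈ S.erase e, x i * y i = 0 := by omega
  obtain ⟨a, ha, b, hb, hab, s, t, hs, ht, hx⟩ := norm_two_signs h2x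
  obtain ⟨a', ha', b', hb', hab', s', t', hs', ht', hy⟩ := norm_two_signs h2y
  have hd' : ∀ z w : ι, z ∈ S.erase e → w ∈ S.erase e → ∀ u v : ℤ, ∀ f : ι → ℤ,
      (∀ i ∈ S.erase e, f i = u * ind z i + v * ind w i) →
      ∑ i ∈ S.erase e, d i * f i = u * d z + v * d w := by
    intro z w hz hw u v f hf
    rw [Finset.sum_congr rfl fun i hi => by
        rw [hf i hi, mul_add, mul_left_comm, mul_left_comm (d i) v],
      Finset.sum_add_distrib, ← Finset.mul_sum, ← Finset.mul_sum, sum_mul_ind hz, sum_mul_ind hw]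
  rw [hd' a b ha hb s t x hx] at hdx
  rw [hd' a' b' ha' hb' s' t' y hy] at hdy
  have h0' : s * y a + t * y b = 0 := by
    rw [← h0, Finset.sum_congr rfl fun i hi => by rw [hx i hi, add_mul, mul_assoc, mul_assoc],
      Finset.sum_add_distrib, ← Finset.mul_sum, ← Finset.mul_sum, sum_ind_mul ha, sum_ind_mul hb]
  rw [hy a ha, hy b hb] at h0'
  have hpa := hd a (Finset.mem_of_mem_erase ha)
  have hpb := hd b (Finset.mem_of_mem_erase hb)
  have hdisj : a ≠ a' ∧ a ≠ b' ∧ b ≠ a' ∧ b ≠ b' :=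
    disj_four hd hs ht hs' ht' hab hab' (Finset.mem_of_mem_erase ha) (Finset.mem_of_mem_erase hb) h0'
      (by linarith)
  obtain ⟨hea, haS⟩ := Finset.mem_erase.1 ha
  obtain ⟨heb, hbS⟩ := Finset.mem_erase.1 hb
  obtain ⟨hea', haS'⟩ := Finset.mem_erase.1 ha'
  obtain ⟨heb', hbS'⟩ := Finset.mem_erase.1 hb'
  refine ⟨-x e, e, ![a, b, a', b'], ![s, t, s', t'], ?_, he, ?_, ?_, ?_, ?_, fun i hi => ?_,
    fun i hi => ?_⟩
  · rcases hxe.1 with h | h <;> simp [h]
  · exact inj_four hab hdisj.1 hdisj.2.1 hdisj.2.2.1 hdisj.2.2.2 hab'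
  · intro k
    fin_cases k <;> simpa
  · intro k
    fin_cases k <;> simpa
  · intro k
    fin_cases k <;> simpa
  · by_cases hie : i = e
    · subst hie
      simp [ind, hea.symm, heb.symm]
    · have := hx i (Finset.mem_erase.2 ⟨hie, hi⟩)
      simp [ind_ne hie, this]
  · by_cases hie : i = e
    · subst hie
      simp [ind, hea'.symm, heb'.symm, hxe.2]
    · have := hy i (Finset.mem_erase.2 ⟨hie, hi⟩)
      simp [ind_ne hie, this]

/-- The two shapes of an even class. -/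
theorem even (R : Finset κ) (X Y : κ → ι → ℤ) (hodd : Odd R.card)
    (hXX : ∀ j ∈ R, ∀ l ∈ R, ∑ i ∈ S, X j i * X l i = if j = l then 3 else 2)
    (hYY : ∀ j ∈ R, ∀ l ∈ R, ∑ i ∈ S, Y j i * Y l i = if j = l then 3 else 2)
    (hXY : ∀ j ∈ R, ∀ l ∈ R, ∑ i ∈ S, X j i * Y l i = if j = l then 1 else 0)
    (hdX : ∀ j ∈ R, ∑ i ∈ S, d i * X j i = 0) (hdY : ∀ j ∈ R, ∑ i ∈ S, d i * Y j i = 0)
    (hdiff : ∀ j ∈ R, ∀ l ∈ R, ∀ i ∈ S, X j i - X l i = Y j i - Y l i) :
    (∃ εe e q s, Normal S R X Y εe e q s) ∨ (∃ εe e r b, Exotic S R X Y εe e r b) ∨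
      ∃ εe e r b, Exotic S R Y X εe e r b := by
  obtain ⟨j₀, hj₀⟩ := Finset.card_pos.1 hodd.pos
  rcases Nat.lt_or_ge 1 R.card with hR | hR
  swap
  · left
    obtain ⟨εe, e, q, s, hε, he, hq, hqm, hs, hdj, hx, hy⟩ := even_one hd
      (by rw [hXX j₀ hj₀ j₀ hj₀, if_pos rfl]) (by rw [hYY j₀ hj₀ j₀ hj₀, if_pos rfl])
      (by rw [hXY j₀ hj₀ j₀ hj₀, if_pos rfl]) (hdX j₀ hj₀) (hdY j₀ hj₀)
    have heq : ∀ j ∈ R, j = j₀ := fun j hj => Finset.card_le_one.1 hR j hj j₀ hj₀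
    exact ⟨εe, fun _ => e, q, s, hε, fun j hj l hl _ => (heq j hj).trans (heq l hl).symm,
      fun _ _ => he, hq, hqm, hs, fun _ _ => hdj, fun j hj => heq j hj ▸ hx,
      fun j hj => heq j hj ▸ hy⟩
  have h3 : 3 ≤ R.card := by obtain ⟨k, hk⟩ := hodd; omega
  obtain ⟨εe, e, hε, hinj, hem, hst⟩ := star hd R (fun j i => -X j i) hR
    (fun j hj l hl => by
      simp only [neg_sub_neg, mul_sub, Finset.sum_sub_distrib, hdX j hj, hdX l hl, sub_zero])
    (fun j hj l hl hjl => by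
      simp only [neg_sub_neg, sub_mul, mul_sub, Finset.sum_sub_distrib, hXX l hl l hl, hXX l hl j hj,
        hXX j hj l hl, hXX j hj j hj, if_pos, if_neg hjl, if_neg (Ne.symm hjl)]
      norm_num)
    (fun j hj l hl m hm hjl hjm hlm => by
      simp only [neg_sub_neg, sub_mul, mul_sub, Finset.sum_sub_distrib, hXX l hl m hm, hXX l hl j hj,
        hXX j hj m hm, hXX j hj j hj, if_pos, if_neg hlm, if_neg (Ne.symm hjl), if_neg hjm]
      norm_num)
  have hε2 : εe * εe = 1 := by rcases hε with rfl | rfl <;> norm_num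
  set U : ι → ℤ := fun i => X j₀ i + εe * ind (e j₀) i with hU
  set V : ι → ℤ := fun i => Y j₀ i + εe * ind (e j₀) i with hV
  have hX : ∀ j ∈ R, ∀ i ∈ S, X j i = U i - εe * ind (e j) i := fun j hj i hi => by
    simp only [hU]
    linear_combination hst j₀ hj₀ j hj i hi
  have hY : ∀ j ∈ R, ∀ i ∈ S, Y j i = V i - εe * ind (e j) i := fun j hj i hi => by
    simp only [hV]
    linear_combination hst j₀ hj₀ j hj i hi + hdiff j₀ hj₀ j hj i hi
  have hpair : ∀ (W Z : ι → ℤ) (j : κ), j ∈ R →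
      ∑ i ∈ S, (W i - εe * ind (e j) i) * (Z i - εe * ind (e j) i) =
        ∑ i ∈ S, W i * Z i - εe * W (e j) - εe * Z (e j) + 1 := by
    intro W Z j hj
    have e1 : ∑ i ∈ S, ind (e j) i * ind (e j) i = 1 := by rw [sum_ind_mul (hem j hj), ind_self]
    rw [Finset.sum_congr rfl fun i (_ : i ∈ S) =>
      show (W i - εe * ind (e j) i) * (Z i - εe * ind (e j) i) =
        W i * Z i - εe * (ind (e j) i * W i) - εe * (ind (e j) i * Z i) +
          ind (e j) i * ind (e j) i by linear_combination (ind (e j) i * ind (e j) i) * hε2]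
    rw [Finset.sum_add_distrib, Finset.sum_sub_distrib, Finset.sum_sub_distrib, ← Finset.mul_sum,
      ← Finset.mul_sum, sum_ind_mul (hem j hj), sum_ind_mul (hem j hj), e1]
  set u := εe * U (e j₀) with hu
  set v := εe * V (e j₀) with hv
  have hUj : ∀ j ∈ R, ∑ i ∈ S, U i * U i = 2 + 2 * (εe * U (e j)) := fun j hj => by
    have h := hXX j hj j hj
    rw [if_pos rfl, Finset.sum_congr rfl fun i hi => by rw [hX j hj i hi], hpair U U j hj] at h
    linarith
  have hVj : ∀ j ∈ R, ∑ i ∈ S, V i * V i = 2 + 2 * (εe * V (e j)) := fun j hj => by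
    have h := hYY j hj j hj
    rw [if_pos rfl, Finset.sum_congr rfl fun i hi => by rw [hY j hj i hi], hpair V V j hj] at h
    linarith
  have hue : ∀ j ∈ R, εe * U (e j) = u := fun j hj => by
    have := hUj j hj
    have := hUj j₀ hj₀
    linarith
  have hve : ∀ j ∈ R, εe * V (e j) = v := fun j hj => by
    have := hVj j hj
    have := hVj j₀ hj₀
    linarith
  have hUV : ∑ i ∈ S, U i * V i = u + v := by
    have h := hXY j₀ hj₀ j₀ hj₀
    rw [if_pos rfl, Finset.sum_congr rfl fun i hi => by rw [hX j₀ hj₀ i hi, hY j₀ hj₀ i hi],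
      hpair U V j₀ hj₀] at h
    linarith
  set T := R.image e with hT
  have hTS : T ⊆ S := fun i hi => by
    obtain ⟨j, hj, rfl⟩ := Finset.mem_image.1 hi
    exact hem j hj
  have hcard : (T.card : ℤ) = R.card := by rw [Finset.card_image_of_injOn hinj]
  have small : ∀ (W : ι → ℤ) (w : ℤ), (∀ j ∈ R, εe * W (e j) = w) →
      ∑ i ∈ S, W i * W i = 2 + 2 * w →
      (w = 0 ∧ ∃ a ∈ S, ∃ b ∈ S, a ≠ b ∧ a ∉ T ∧ b ∉ T ∧ ∃ s t : ℤ, (s = 1 ∨ s = -1) ∧
          (t = 1 ∨ t = -1) ∧ ∀ i ∈ S, W i = s * ind a i + t * ind b i) ∨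
        (w = 1 ∧ R.card = 3 ∧ ∃ r ∈ S, r ∉ T ∧ ∃ t : ℤ, (t = 1 ∨ t = -1) ∧
          ∀ i ∈ S, W i = εe * ∑ l ∈ R, ind (e l) i + t * ind r i) := by
    intro W w hw hnorm
    have hWT : ∀ i ∈ T, W i = εe * w := fun i hi => by
      obtain ⟨j, hj, rfl⟩ := Finset.mem_image.1 hi
      rw [← hw j hj, ← mul_assoc, hε2, one_mul]
    have hsplit := Finset.sum_sdiff hTS (f := fun i => W i * W i)
    rw [hnorm, show ∑ i ∈ T, W i * W i = (R.card : ℤ) * (w * w) by
      rw [Finset.sum_congr rfl fun i hi => show W i * W i = w * w by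
        rw [hWT i hi, mul_mul_mul_comm, hε2, one_mul], Finset.sum_const, nsmul_eq_mul, hcard]]
      at hsplit
    have hnn : 0 ≤ ∑ i ∈ S \ T, W i * W i := Finset.sum_nonneg fun i _ => mul_self_nonneg _
    have hk : (3 : ℤ) ≤ R.card := by exact_mod_cast h3
    have hkey : (3 : ℤ) * (w * w) ≤ 2 + 2 * w := by
      nlinarith [mul_le_mul_of_nonneg_right hk (mul_self_nonneg w)]
    have hw01 : w = 0 ∨ w = 1 := by
      have : w < 2 := by nlinarith
      have : -1 < w := by nlinarith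
      omega
    rcases hw01 with rfl | rfl
    · left
      refine ⟨rfl, ?_⟩
      obtain ⟨a, ha, b, hb, hab, s, t, hs, ht, hWi⟩ :=
        norm_two_signs (S := S \ T) (x := W) (by linarith)
      obtain ⟨haS, haT⟩ := Finset.mem_sdiff.1 ha
      obtain ⟨hbS, hbT⟩ := Finset.mem_sdiff.1 hb
      refine ⟨a, haS, b, hbS, hab, haT, hbT, s, t, hs, ht, fun i hi => ?_⟩
      by_cases hiT : i ∈ T
      · rw [hWT i hiT, ind_ne (fun h : i = a => haT (h ▸ hiT)),
          ind_ne (fun h : i = b => hbT (h ▸ hiT))]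
        ring
      · exact hWi i (Finset.mem_sdiff.2 ⟨hi, hiT⟩)
    · right
      have hk4 : R.card ≤ 4 := by exact_mod_cast (show (R.card : ℤ) ≤ 4 by linarith)
      have hR3 : R.card = 3 := by obtain ⟨k, hk'⟩ := hodd; omega
      refine ⟨rfl, hR3, ?_⟩
      rw [hR3] at hsplit
      push_cast at hsplit
      obtain ⟨r, hr, t, ht, hWi⟩ := norm_one (S := S \ T) (x := W) (by linarith)
      obtain ⟨hrS, hrT⟩ := Finset.mem_sdiff.1 hr
      refine ⟨r, hrS, hrT, t, ht, fun i hi => ?_⟩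
      rw [show ∑ l ∈ R, ind (e l) i = if i ∈ T then 1 else 0 by
        rw [← Finset.sum_image (f := fun x => ind x i) hinj]
        simp [ind, hT]]
      by_cases hiT : i ∈ T
      · rw [hWT i hiT, if_pos hiT, ind_ne (fun h : i = r => hrT (h ▸ hiT))]
        ring
      · rw [hWi i (Finset.mem_sdiff.2 ⟨hi, hiT⟩), if_neg hiT]
        ring
  have hout : ∀ {a : ι}, a ∉ T → ∀ l ∈ R, a ≠ e l := fun ha l hl h =>
    ha (Finset.mem_image.2 ⟨l, hl, h.symm⟩)
  have hdsum : ∀ (W Z : κ → ι → ℤ) (j : κ), (∀ i ∈ S, W j i = Z j i) →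
      ∑ i ∈ S, d i * W j i = ∑ i ∈ S, d i * Z j i := fun W Z j h =>
    Finset.sum_congr rfl fun i hi => by rw [h i hi]
  obtain ⟨l₀, hl₀, hl₀j⟩ : ∃ l ∈ R, l ≠ j₀ := Finset.exists_mem_ne hR j₀
  have hlin : ∀ (k : ℤ) {z : ι}, z ∈ S → ∑ i ∈ S, d i * (k * ind z i) = k * d z := fun k z hz => by
    rw [Finset.sum_congr rfl fun i _ => mul_left_comm (d i) k (ind z i), ← Finset.mul_sum,
      sum_mul_ind hz]
  -- the sign of the extra entry
  have tsign : ∀ (X : κ → ι → ℤ) (U : ι → ℤ) (r : ι) (t : ℤ), r ∈ S → (t = 1 ∨ t = -1) →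
      (∀ i ∈ S, X j₀ i = U i - εe * ind (e j₀) i) → (∑ i ∈ S, d i * X j₀ i = 0) →
      (∀ i ∈ S, U i = εe * ∑ l ∈ R, ind (e l) i + t * ind r i) → t = -εe := by
    intro X U r t hr ht hX hdX hUi
    have hpos : 0 < ∑ l ∈ R, d (e l) - d (e j₀) := by
      have h1 : d (e j₀) + d (e l₀) ≤ ∑ l ∈ R, d (e l) := by
        rw [← Finset.sum_pair hl₀j.symm (f := fun l => d (e l))]
        exact Finset.sum_le_sum_of_subset_of_nonneg
          (fun l hl => by
            rcases Finset.mem_insert.1 hl with rfl | hl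
            exacts [hj₀, Finset.mem_singleton.1 hl ▸ hl₀])
          fun l hl _ => (hd _ (hem l hl)).le
      have := hd _ (hem l₀ hl₀)
      linarith
    have hX0 : ∑ i ∈ S, d i * X j₀ i = ∑ i ∈ S, (∑ l ∈ R, d i * (εe * ind (e l) i) +
        d i * (t * ind r i) - d i * (εe * ind (e j₀) i)) :=
      Finset.sum_congr rfl fun i hi => by
        rw [hX i hi, hUi i hi, Finset.mul_sum, mul_sub, mul_add, Finset.mul_sum]
    have hdr : εe * (∑ l ∈ R, d (e l) - d (e j₀)) + t * d r = 0 := by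
      rw [hX0, Finset.sum_sub_distrib, Finset.sum_add_distrib, Finset.sum_comm, hlin t hr,
        hlin εe (hem j₀ hj₀)] at hdX
      rw [Finset.sum_congr (rfl : R = R) fun l hl => hlin εe (hem l hl), ← Finset.mul_sum] at hdX
      linarith
    have := hd r hr
    rcases ht with rfl | rfl <;> rcases hε with rfl | rfl <;> omega
  -- mixed case: `(1, 0)`
  have mixed : ∀ (X Y : κ → ι → ℤ) (U V : ι → ℤ),
      (∀ j ∈ R, ∀ i ∈ S, X j i = U i - εe * ind (e j) i) →
      (∀ j ∈ R, ∀ i ∈ S, Y j i = V i - εe * ind (e j) i) →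
      (∑ i ∈ S, d i * X j₀ i = 0) → (∑ i ∈ S, d i * Y j₀ i = 0) →
      ∑ i ∈ S, U i * V i = 1 →
      (R.card = 3 ∧ ∃ r ∈ S, r ∉ T ∧ ∃ t : ℤ, (t = 1 ∨ t = -1) ∧
          ∀ i ∈ S, U i = εe * ∑ l ∈ R, ind (e l) i + t * ind r i) →
      (∃ a ∈ S, ∃ b ∈ S, a ≠ b ∧ a ∉ T ∧ b ∉ T ∧ ∃ s t : ℤ, (s = 1 ∨ s = -1) ∧
          (t = 1 ∨ t = -1) ∧ ∀ i ∈ S, V i = s * ind a i + t * ind b i) →
      ∃ εe e r b, Exotic S R X Y εe e r b := by
    rintro X Y U V hX hY hdX hdY hUV ⟨hR3, r, hr, hrT, t, ht, hUi⟩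
      ⟨a, ha, b, hb, hab, haT, hbT, s, s', hs, hs', hVi⟩
    have htε : t = -εe := tsign X U r t hr ht (fun i hi => hX j₀ hj₀ i hi) hdX hUi
    subst htε
    have hUV' : s * U a + s' * U b = 1 := by
      rw [← hUV, Finset.sum_congr rfl fun i hi => by
        rw [hVi i hi, mul_add, mul_left_comm, mul_left_comm (U i) s'],
        Finset.sum_add_distrib, ← Finset.mul_sum, ← Finset.mul_sum, sum_mul_ind ha, sum_mul_ind hb]
    have hzero : ∀ {z : ι}, z ∈ S → z ∉ T → U z = -εe * ind r z := fun hz hzT => by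
      rw [hUi _ hz, Finset.sum_eq_zero fun l hl => ind_ne (hout hzT l hl), mul_zero, zero_add]
    rw [hzero ha haT, hzero hb hbT] at hUV'
    obtain ⟨b', hb', hb'T, hrb', u, hu, hVi'⟩ : ∃ b' ∈ S, b' ∉ T ∧ r ≠ b' ∧ ∃ u : ℤ,
        (u = 1 ∨ u = -1) ∧ ∀ i ∈ S, V i = -εe * ind r i + u * ind b' i := by
      by_cases har : a = r
      · subst har
        rw [ind_self, ind_ne hab.symm] at hUV'
        have hsv : s = -εe := by rcases hs with rfl | rfl <;> rcases hε with rfl | rfl <;> omega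
        exact ⟨b, hb, hbT, hab, s', hs', fun i hi => by rw [hVi i hi, hsv]⟩
      · by_cases hbr : b = r
        · subst hbr
          rw [ind_self, ind_ne hab] at hUV'
          have hsv : s' = -εe := by rcases hs' with rfl | rfl <;> rcases hε with rfl | rfl <;> omega
          exact ⟨a, ha, haT, hab.symm, s, hs, fun i hi => by rw [hVi i hi, hsv]; ring⟩
        · rw [ind_ne har, ind_ne hbr] at hUV'
          omega
    have hdb : u * d b' = εe * (d (e j₀) + d r) := by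
      have h : ∑ i ∈ S, d i * Y j₀ i = -εe * d r + u * d b' - εe * d (e j₀) := by
        rw [Finset.sum_congr rfl fun i hi => by rw [hY j₀ hj₀ i hi, hVi' i hi, mul_sub, mul_add],
          Finset.sum_sub_distrib, Finset.sum_add_distrib,
          Finset.sum_congr rfl fun i _ => mul_left_comm (d i) (-εe) _, ← Finset.mul_sum,
          sum_mul_ind hr, Finset.sum_congr rfl fun i _ => mul_left_comm (d i) u _, ← Finset.mul_sum,
          sum_mul_ind hb', Finset.sum_congr rfl fun i _ => mul_left_comm (d i) εe _, ← Finset.mul_sum,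
          sum_mul_ind (hem j₀ hj₀)]
      rw [hdY] at h
      linarith
    have huε : u = εe := by
      have := hd b' hb'
      have := hd r hr
      have := hd _ (hem j₀ hj₀)
      rcases hu with rfl | rfl <;> rcases hε with rfl | rfl <;> omega
    exact ⟨εe, e, r, b', hR3, hε, hinj, hem, hr, hb', hrb', hout hrT, hout hb'T,
      fun j hj i hi => by rw [hX j hj i hi, hUi i hi]; ring,
      fun j hj i hi => by rw [hY j hj i hi, hVi' i hi, huε]; ring⟩
  rcases small U u hue (hu ▸ hUj j₀ hj₀) with ⟨hu0, hU0⟩ | ⟨hu1, hU1⟩ <;>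
    rcases small V v hve (hv ▸ hVj j₀ hj₀) with ⟨hv0, hV0⟩ | ⟨hv1, hV1⟩
  · left
    obtain ⟨a, ha, b, hb, hab, haT, hbT, s, t, hs, ht, hUi⟩ := hU0
    obtain ⟨a', ha', b', hb', hab', ha'T, hb'T, s', t', hs', ht', hVi⟩ := hV0
    have h0 : s * V a + t * V b = 0 := by
      rw [show (0 : ℤ) = u + v by omega, ← hUV, Finset.sum_congr rfl fun i hi => by
        rw [hUi i hi, add_mul, mul_assoc, mul_assoc],
        Finset.sum_add_distrib, ← Finset.mul_sum, ← Finset.mul_sum, sum_ind_mul ha, sum_ind_mul hb]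
    rw [hVi a ha, hVi b hb] at h0
    have hdd : s * d a + t * d b = s' * d a' + t' * d b' := by
      have e1 := hdX j₀ hj₀
      have e2 := hdY j₀ hj₀
      rw [Finset.sum_congr rfl fun i hi => by rw [hX j₀ hj₀ i hi, hUi i hi, mul_sub, mul_add,
          mul_left_comm (d i) s, mul_left_comm (d i) t],
        Finset.sum_sub_distrib, Finset.sum_add_distrib, ← Finset.mul_sum, ← Finset.mul_sum,
        sum_mul_ind ha, sum_mul_ind hb] at e1
      rw [Finset.sum_congr rfl fun i hi => by rw [hY j₀ hj₀ i hi, hVi i hi, mul_sub, mul_add,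
          mul_left_comm (d i) s', mul_left_comm (d i) t'],
        Finset.sum_sub_distrib, Finset.sum_add_distrib, ← Finset.mul_sum, ← Finset.mul_sum,
        sum_mul_ind ha', sum_mul_ind hb'] at e2
      linarith
    have hpa := hd a ha
    have hpb := hd b hb
    have hdisj : a ≠ a' ∧ a ≠ b' ∧ b ≠ a' ∧ b ≠ b' := disj_four hd hs ht hs' ht' hab hab' ha hb h0 hdd
    refine ⟨εe, e, ![a, b, a', b'], ![s, t, s', t'], hε, hinj, hem, ?_, ?_, ?_, ?_,
      fun j hj i hi => ?_, fun j hj i hi => ?_⟩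
    · exact inj_four hab hdisj.1 hdisj.2.1 hdisj.2.2.1 hdisj.2.2.2 hab'
    · intro k
      fin_cases k <;> simpa
    · intro k
      fin_cases k <;> simpa
    · intro j hj k
      fin_cases k
      exacts [hout haT j hj, hout hbT j hj, hout ha'T j hj, hout hb'T j hj]
    · show X j i = -εe * ind (e j) i + s * ind a i + t * ind b i
      rw [hX j hj i hi, hUi i hi]
      ring
    · show Y j i = -εe * ind (e j) i + s' * ind a' i + t' * ind b' i
      rw [hY j hj i hi, hVi i hi]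
      ring
  · right; right
    refine mixed Y X V U hY hX (hdY j₀ hj₀) (hdX j₀ hj₀) ?_ hV1 hU0
    rw [Finset.sum_congr rfl fun i _ => mul_comm (V i) (U i), hUV]
    omega
  · right; left
    exact mixed X Y U V hX hY (hdX j₀ hj₀) (hdY j₀ hj₀) (by rw [hUV]; omega) hU1 hV0
  · exfalso
    obtain ⟨hR3, r, hr, hrT, t, ht, hUi⟩ := hU1
    obtain ⟨-, r', hr', hr'T, t', ht', hVi⟩ := hV1
    have hrz : ∀ {z : ι}, z ∈ S → z ∉ T → ∀ w : ι, ∀ k : ℤ,
        εe * ∑ l ∈ R, ind (e l) z + k * ind w z = k * ind w z := fun hz hzT w k => by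
      rw [Finset.sum_eq_zero fun l hl => ind_ne (hout hzT l hl), mul_zero, zero_add]
    have h : ∑ i ∈ S, U i * V i = εe * ∑ l ∈ R, V (e l) + t * V r := by
      rw [Finset.sum_congr rfl fun i hi => by
          rw [hUi i hi, add_mul, mul_assoc, Finset.sum_mul, mul_assoc],
        Finset.sum_add_distrib, ← Finset.mul_sum, ← Finset.mul_sum, Finset.sum_comm,
        Finset.sum_congr rfl fun l hl => sum_ind_mul (hem l hl) V, sum_ind_mul hr]
    rw [hVi r hr, hrz hr hrT, Finset.mul_sum, Finset.sum_congr rfl fun l hl => hve l hl,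
      Finset.sum_const, hR3, hUV, hu1, hv1] at h
    rw [tsign X U r t hr ht (fun i hi => hX j₀ hj₀ i hi) (hdX j₀ hj₀) hUi,
      tsign Y V r' t' hr' ht' (fun i hi => hY j₀ hj₀ i hi) (hdY j₀ hj₀) hVi] at h
    unfold ind at h
    rcases hε with rfl | rfl <;> split_ifs at h <;> simp at h

end Cfsg.Agent.TameBlock.Star
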