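import Cfsg.Agent.Lib.TameBlock.Cols
import Cfsg.Agent.Lib.TameBlock.Star

/-!
# The shape of the rotation multiplicities

On the rows `S` the differences of the multiplicities inside one parity class are given either by
`Pat` (generic shape) or by `Star.Exotic`.
-/

set_option autoImplicit false
set_option linter.unusedSectionVars false
set_option linter.style.haveILetI false

namespace Cfsg.Agent.TameBlock

open Cfsg Blocks MonoidAlgebra
open Star (ind)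
open scoped Classical ComplexConjugate

universe u

/-- Representatives of the pairs of generic exponents of the given parity. -/
noncomputable def clR (M₀ r : ℕ) [NeZero (2 * M₀)] (s : ℤ) : Finset (ZMod (2 * M₀)) :=
  (pairReps M₀ r).filter fun a => sgnA a = s

theorem mem_clR {M₀ r : ℕ} [NeZero (2 * M₀)] {s : ℤ} {a : ZMod (2 * M₀)} :
    a ∈ clR M₀ r s ↔ a ∈ pairReps M₀ r ∧ sgnA a = s := Finset.mem_filter

theorem sum_pairReps {M₀ r : ℕ} [NeZero (2 * M₀)] {A : Type*} [AddCommMonoid A]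
    (F : ZMod (2 * M₀) → A) :
    ∑ a ∈ pairReps M₀ r, F a = ∑ a ∈ clR M₀ r 1, F a + ∑ a ∈ clR M₀ r (-1), F a := by
  rw [← Finset.sum_filter_add_sum_filter_not (pairReps M₀ r) (fun a => sgnA a = 1)]
  refine congrArg₂ (· + ·) rfl (Finset.sum_congr ?_ fun _ _ => rfl)
  ext a
  rw [Finset.mem_filter, mem_clR]
  refine and_congr_right fun _ => ⟨fun h => (sgnA_eq a).resolve_left h, fun h h' => ?_⟩
  rw [h] at h'
  norm_num at h'

namespace TData

variable {G : Type u} [Group G] {P : Subgroup G} {σ τ : G} {M₀ r : ℕ} (hD : TData P σ τ M₀ r)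
include hD

theorem sgnA_M [NeZero (2 * M₀)] : sgnA (M₀ : ZMod (2 * M₀)) = 1 := by
  have := hD.two_le
  rw [sgnA, ZMod.val_natCast, Nat.mod_eq_of_lt (by omega)]
  exact (even_iff_two_dvd.2 hD.even_M₀).neg_one_pow

theorem sgnA_r_mul [NeZero (2 * M₀)] (a : ZMod (2 * M₀)) :
    sgnA ((r : ZMod (2 * M₀)) * a) = sgnA a := by
  have : ((sgnA ((r : ZMod (2 * M₀)) * a) : ℤ) : ℂ) = (sgnA a : ℂ) := by
    rw [← stdAddChar_mul_M, ← stdAddChar_mul_M, mul_comm (r : ZMod (2 * M₀)), mul_assoc, hD.r_mul_M]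
  exact_mod_cast this

theorem r_mem_gens [NeZero (2 * M₀)] {a : ZMod (2 * M₀)} (ha : a ∈ gens M₀) :
    (r : ZMod (2 * M₀)) * a ∈ gens M₀ ∧ (r : ZMod (2 * M₀)) * a ≠ a := by
  obtain ⟨h0, hM⟩ := mem_gens.1 ha
  refine ⟨mem_gens.2 ⟨fun h => h0 ?_, fun h => hM ?_⟩, fun h => ?_⟩
  · have h' := congrArg ((r : ZMod (2 * M₀)) * ·) h
    simpa only [← mul_assoc, hD.r_sq, one_mul, mul_zero] using h'
  · have h' := congrArg ((r : ZMod (2 * M₀)) * ·) h
    simpa only [← mul_assoc, hD.r_sq, one_mul, hD.r_mul_M] using h'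
  · rcases hD.r_sub_one_mul.1 h with h | h
    exacts [h0 h, hM h]

/-- The pairing `[a = a'] + [r a = a']`. -/
theorem pair_rep [NeZero (2 * M₀)] {a a' : ZMod (2 * M₀)} (ha : a ∈ pairReps M₀ r)
    (ha' : a' ∈ pairReps M₀ r) :
    ind a a' + ind ((r : ZMod (2 * M₀)) * a) a' = if a = a' then 1 else 0 := by
  obtain ⟨hg, hlt⟩ := Finset.mem_filter.1 ha
  obtain ⟨-, hlt'⟩ := Finset.mem_filter.1 ha'
  rw [Star.ind_ne (a := (r : ZMod (2 * M₀)) * a) (x := a') (fun h => by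
    rw [h, ← mul_assoc, hD.r_sq, one_mul] at hlt'
    omega), add_zero, ind]
  simp [eq_comm]

theorem pair_fix [NeZero (2 * M₀)] {a a' : ZMod (2 * M₀)}
    (ha : (r : ZMod (2 * M₀)) * a = a) :
    ind a a' + ind ((r : ZMod (2 * M₀)) * a) a' = if a = a' then 2 else 0 := by
  rw [ha, ind]
  by_cases h : a = a'
  · rw [if_pos h.symm, if_pos h]; rfl
  · rw [if_neg (Ne.symm h), if_neg h]; rfl

theorem not_rep [NeZero (2 * M₀)] {a : ZMod (2 * M₀)} (ha : a ∈ pairReps M₀ r) :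
    a ≠ 0 ∧ a ≠ (M₀ : ZMod (2 * M₀)) := mem_gens.1 (Finset.mem_filter.1 ha).1

theorem pair_zero_rep [NeZero (2 * M₀)] {a : ZMod (2 * M₀)} (ha : a ∈ pairReps M₀ r) :
    ind a 0 + ind ((r : ZMod (2 * M₀)) * a) 0 = 0 ∧
      ind a (M₀ : ZMod (2 * M₀)) + ind ((r : ZMod (2 * M₀)) * a) (M₀ : ZMod (2 * M₀)) = 0 := by
  obtain ⟨h1, h2⟩ := mem_gens.1 (Finset.mem_filter.1 ha).1
  obtain ⟨h3, h4⟩ := mem_gens.1 (hD.r_mem_gens (Finset.mem_filter.1 ha).1).1
  simp [Star.ind_ne, Ne.symm h1, Ne.symm h2, Ne.symm h3, Ne.symm h4]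

/-- A symmetric function summed over the exponents. -/
theorem sum_symm {G' : Type u} [Group G'] [Fintype G'] {M : Ideal AlgInt} [M.IsMaximal]
    [Fact (Nat.Prime 2)] [CharP (AlgInt ⧸ M) 2] {B : Set (IrrCharacter G')} {P' : Subgroup G'}
    {e : MonoidAlgebra (AlgInt ⧸ M) G'} {σ' τ' : G'} (c : Ctx M B P' e σ' τ' M₀ r)
    [NeZero (2 * M₀)] {A : Type*} [AddCommMonoid A] (F : ZMod (2 * M₀) → A)
    (hF : ∀ a, F ((r : ZMod (2 * M₀)) * a) = F a) :
    ∑ a, F a = F 0 + F (M₀ : ZMod (2 * M₀)) +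
      (∑ a ∈ pairReps M₀ r, F a + ∑ a ∈ pairReps M₀ r, F a) := by
  rw [← c.sum_gens F hF, ← Finset.sum_pair hD.M_ne_zero.symm,
    ← Finset.sum_union (by rw [Finset.disjoint_left]; intro a ha hg; simp at ha; simp [gens] at hg; tauto)]
  refine Finset.sum_congr ?_ fun _ _ => rfl
  ext a
  simp [gens]
  tauto

end TData

namespace Ctx

variable {G : Type u} [Group G] [Fintype G] {M : Ideal AlgInt} [M.IsMaximal] [Fact (Nat.Prime 2)]
  [CharP (AlgInt ⧸ M) 2] {B : Set (IrrCharacter G)} {P : Subgroup G}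
  {e : MonoidAlgebra (AlgInt ⧸ M) G} {σ τ : G} {M₀ r : ℕ} (c : Ctx M B P e σ τ M₀ r)
include c

theorem card_clR [NeZero (2 * M₀)] :
    2 * (clR M₀ r (-1)).card = M₀ ∧ 2 * (clR M₀ r 1).card + 2 = M₀ := by
  have hD := c.data
  have h0 : ∑ a : ZMod (2 * M₀), sgnA a = 0 := by
    have h : ∑ a : ZMod (2 * M₀), ((sgnA a : ℤ) : ℂ) = 0 := by
      simp only [← stdAddChar_mul_M]
      rw [Finset.sum_congr rfl fun a _ => by rw [mul_comm a (M₀ : ZMod (2 * M₀))],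
        sum_stdAddChar_mul, if_neg hD.M_ne_zero]
    exact_mod_cast h
  rw [hD.sum_symm c _ (fun a => hD.sgnA_r_mul a), hD.sgnA_M, sum_pairReps,
    Finset.sum_congr rfl fun a ha => (mem_clR.1 ha).2,
    Finset.sum_congr rfl fun a (ha : a ∈ clR M₀ r (-1)) => (mem_clR.1 ha).2] at h0
  simp [sgnA] at h0
  have h1 : (clR M₀ r 1).card + (clR M₀ r (-1)).card = M₀ - 1 := by
    rw [← c.card_pairReps, Finset.card_eq_sum_ones (pairReps M₀ r), sum_pairReps,
      Finset.card_eq_sum_ones, Finset.card_eq_sum_ones]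
  have := hD.two_le
  omega

theorem odd_card_clR [NeZero (2 * M₀)] (h4 : 4 ≤ M₀) : Odd (clR M₀ r 1).card := by
  obtain ⟨a, ha⟩ := c.data.two_pow
  obtain ⟨-, h⟩ := c.card_clR
  match a with
  | 0 => omega
  | 1 => omega
  | a + 2 =>
    refine Nat.not_even_iff_odd.1 fun ⟨k, hk⟩ => ?_
    rw [pow_succ, pow_succ] at ha
    omega

end Ctx

variable {G : Type u} [Group G] [Fintype G]

theorem dotc_sub {M₀ : ℕ} [NeZero (2 * M₀)] (a b : ZMod (2 * M₀)) (m : ZMod (2 * M₀) → ℤ) :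
    dotc (fun x => ind a x - ind b x) m = m a - m b := by
  simp only [dotc, sub_mul, Finset.sum_sub_distrib, Star.sum_ind_mul (Finset.mem_univ _)]

theorem adm_sub {M₀ : ℕ} [NeZero (2 * M₀)] {a b : ZMod (2 * M₀)} (h : sgnA a = sgnA b) :
    Adm (fun x => ind a x - ind b x) := by
  constructor
  · have e : ∀ z : ZMod (2 * M₀), ∑ x, ind z x = 1 := fun z => by
      simpa only [one_mul] using Star.sum_mul_ind (Finset.mem_univ z) (fun _ => (1 : ℤ))
    rw [Finset.sum_sub_distrib, e, e, sub_self]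
  · simp only [mul_sub, Finset.sum_sub_distrib, Star.sum_mul_ind (Finset.mem_univ _), h, sub_self]

namespace Cols

variable {B : Set (IrrCharacter G)} {M₀ r : ℕ} [NeZero (2 * M₀)]
  {m : IrrCharacter G → ZMod (2 * M₀) → ℤ} (hm : Cols B M₀ r m) {P : Subgroup G} {σ τ : G}
  (hD : TData P σ τ M₀ r)
include hm hD

theorem gram_sub {a b a' b' : ZMod (2 * M₀)} (h : sgnA a = sgnA b) (h' : sgnA a' = sgnA b')
    (S : Finset (IrrCharacter G)) (hS : S ⊆ bFin B)
    (hout : ∀ χ ∈ bFin B, χ ∉ S → m χ a = m χ b) :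
    ∑ χ ∈ S, (m χ a - m χ b) * (m χ a' - m χ b') =
      (ind a a' + ind ((r : ZMod (2 * M₀)) * a) a') - (ind a b' + ind ((r : ZMod (2 * M₀)) * a) b') -
      (ind b a' + ind ((r : ZMod (2 * M₀)) * b) a') +
        (ind b b' + ind ((r : ZMod (2 * M₀)) * b) b') := by
  rw [Finset.sum_subset hS fun χ hχ hn => by rw [hout χ hχ hn, sub_self, zero_mul],
    Finset.sum_congr rfl fun χ _ => by rw [← dotc_sub a b (m χ), ← dotc_sub a' b' (m χ)],
    hm.gram hD.r_sq (fun i hi => hD.r_mem_gens hi) (adm_sub h) (adm_sub h')]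
  simp only [sub_mul, Finset.sum_sub_distrib, Star.sum_ind_mul (Finset.mem_univ _)]
  rw [Star.ind_comm a a', Star.ind_comm a b', Star.ind_comm b a', Star.ind_comm b b',
    Star.ind_comm ((r : ZMod (2 * M₀)) * a) a', Star.ind_comm ((r : ZMod (2 * M₀)) * a) b',
    Star.ind_comm ((r : ZMod (2 * M₀)) * b) a', Star.ind_comm ((r : ZMod (2 * M₀)) * b) b']
  ring

omit hD in
theorem deg_sub {a b : ZMod (2 * M₀)} (h : sgnA a = sgnA b)
    (S : Finset (IrrCharacter G)) (hS : S ⊆ bFin B)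
    (hout : ∀ χ ∈ bFin B, χ ∉ S → m χ a = m χ b) :
    ∑ χ ∈ S, (Char.degree χ : ℤ) * (m χ a - m χ b) = 0 := by
  rw [Finset.sum_subset hS fun χ hχ hn => by rw [hout χ hχ hn, sub_self, mul_zero],
    Finset.sum_congr rfl fun χ _ => by rw [← dotc_sub a b (m χ)]]
  exact hm.deg_dotc (adm_sub h)

end Cols

section Pattern

variable {ι : Type*} {M₀ r : ℕ} [NeZero (2 * M₀)]

/-- The generic shape of the even class on the rows `S`. -/
structure Pat (S : Finset ι) (M₀ r : ℕ) [NeZero (2 * M₀)] (m : ι → ZMod (2 * M₀) → ℤ) (εe : ℤ)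
    (e : ZMod (2 * M₀) → ι) (q : Fin 4 → ι) (s : Fin 4 → ℤ) : Prop where
  εe_sign : εe = 1 ∨ εe = -1
  inj : Set.InjOn e (clR M₀ r 1)
  e_mem : ∀ a ∈ clR M₀ r 1, e a ∈ S
  q_inj : Function.Injective q
  q_mem : ∀ k, q k ∈ S
  s_sign : ∀ k, s k = 1 ∨ s k = -1
  disj : ∀ a ∈ clR M₀ r 1, ∀ k, q k ≠ e a
  zero_M : ∀ x ∈ S, m x 0 - m x (M₀ : ZMod (2 * M₀)) =
    s 0 * ind (q 0) x + s 1 * ind (q 1) x - s 2 * ind (q 2) x - s 3 * ind (q 3) x
  zero_rep : ∀ a ∈ clR M₀ r 1, ∀ x ∈ S,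
    m x 0 - m x a = -εe * ind (e a) x + s 0 * ind (q 0) x + s 1 * ind (q 1) x

/-- The exceptional shape of the even class (`sw` tells whether the roles of `0`, `M₀` are swapped). -/
def ExoticPat (S : Finset ι) (M₀ r : ℕ) [NeZero (2 * M₀)] (m : ι → ZMod (2 * M₀) → ℤ) (εe : ℤ)
    (e : ZMod (2 * M₀) → ι) (q₁ q₂ : ι) : Prop :=
  Star.Exotic S (clR M₀ r 1) (fun a x => m x 0 - m x a)
      (fun a x => m x (M₀ : ZMod (2 * M₀)) - m x a) εe e q₁ q₂ ∨
    Star.Exotic S (clR M₀ r 1) (fun a x => m x (M₀ : ZMod (2 * M₀)) - m x a)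
      (fun a x => m x 0 - m x a) εe e q₁ q₂

/-- A shape of the odd class. -/
structure OddPat (S : Finset ι) (M₀ r : ℕ) [NeZero (2 * M₀)] (m : ι → ZMod (2 * M₀) → ℤ) (εo : ℤ)
    (p : ZMod (2 * M₀) → ι) : Prop where
  εo_sign : εo = 1 ∨ εo = -1
  inj : Set.InjOn p (clR M₀ r (-1))
  p_mem : ∀ a ∈ clR M₀ r (-1), p a ∈ S
  diff : ∀ a ∈ clR M₀ r (-1), ∀ b ∈ clR M₀ r (-1), ∀ x ∈ S,
    m x a - m x b = εo * (ind (p a) x - ind (p b) x)

end Pattern

theorem four_signs {ι : Type*} {S : Finset ι} {x d : ι → ℤ} (hd : ∀ i ∈ S, 0 < d i)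
    (h : ∑ i ∈ S, x i * x i = 4) (hdx : ∑ i ∈ S, d i * x i = 0) :
    ∃ (q : Fin 4 → ι) (s : Fin 4 → ℤ), Function.Injective q ∧ (∀ k, q k ∈ S) ∧
      (∀ k, s k = 1 ∨ s k = -1) ∧ ∀ i ∈ S,
        x i = s 0 * ind (q 0) i + s 1 * ind (q 1) i - s 2 * ind (q 2) i - s 3 * ind (q 3) i := by
  have hone : ∀ i ∈ S, x i ≠ 0 → x i = 1 ∨ x i = -1 := by
    intro i hi hne
    by_contra hc
    push Not at hc
    have hsp := Finset.add_sum_erase S (fun j => x j * x j) hi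
    rw [h] at hsp
    have hrest : 0 ≤ ∑ j ∈ S.erase i, x j * x j := Finset.sum_nonneg fun j _ => mul_self_nonneg _
    have h2 : 2 ≤ x i ∨ x i ≤ -2 := by omega
    have h4 : 4 ≤ x i * x i := by rcases h2 with h | h <;> nlinarith
    have hz : ∀ j ∈ S.erase i, x j = 0 := fun j hj =>
      mul_self_eq_zero.1 ((Finset.sum_eq_zero_iff_of_nonneg fun j _ => mul_self_nonneg (x j)).1
        (by linarith) j hj)
    rw [← Finset.add_sum_erase S _ hi, Finset.sum_eq_zero fun j hj => by rw [hz j hj, mul_zero],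
      add_zero] at hdx
    rcases mul_eq_zero.1 hdx with h | h
    exacts [(hd i hi).ne' h, hne h]
  have hc : (S.filter fun i => x i ≠ 0).card = 4 := by
    have hcast : ((S.filter fun i => x i ≠ 0).card : ℤ) = 4 := by
      rw [← h, Finset.card_filter]
      push_cast
      refine Finset.sum_congr rfl fun i hi => ?_
      by_cases hx : x i = 0
      · simp [hx]
      · rcases hone i hi hx with h | h <;> simp [h]
    exact_mod_cast hcast
  set T := S.filter fun i => x i ≠ 0 with hT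
  set q : Fin 4 → ι := fun k => (T.equivFinOfCardEq hc).symm k with hq
  have hqT : ∀ k, q k ∈ T := fun k => ((T.equivFinOfCardEq hc).symm k).2
  have hqi : Function.Injective q := fun k l hkl =>
    (T.equivFinOfCardEq hc).symm.injective (Subtype.ext hkl)
  refine ⟨q, ![x (q 0), x (q 1), -x (q 2), -x (q 3)], hqi, fun k => (Finset.mem_filter.1 (hqT k)).1,
    fun k => ?_, fun i hi => ?_⟩
  · obtain ⟨hk, hk'⟩ := Finset.mem_filter.1 (hqT k)
    have := hone _ hk hk'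
    fin_cases k <;> simp at this ⊢ <;> omega
  · show x i = x (q 0) * ind (q 0) i + x (q 1) * ind (q 1) i - -x (q 2) * ind (q 2) i -
      -x (q 3) * ind (q 3) i
    by_cases hiT : i ∈ T
    · obtain ⟨k, hk⟩ := (T.equivFinOfCardEq hc).symm.surjective ⟨i, hiT⟩
      have hk' : q k = i := congrArg Subtype.val hk
      subst hk'
      fin_cases k <;> simp [ind, hqi.eq_iff]
    · have hx : x i = 0 := by
        by_contra hne
        exact hiT (Finset.mem_filter.2 ⟨hi, hne⟩)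
      have e : ∀ k, ind (q k) i = 0 := fun k => Star.ind_ne fun h' => hiT (h' ▸ hqT k)
      simp [hx, e]

namespace Cols

variable {B : Set (IrrCharacter G)} {M₀ r : ℕ} [NeZero (2 * M₀)]
  {m : IrrCharacter G → ZMod (2 * M₀) → ℤ} (hm : Cols B M₀ r m)
  {M : Ideal AlgInt} [M.IsMaximal] [Fact (Nat.Prime 2)] [CharP (AlgInt ⧸ M) 2]
  {B' : Set (IrrCharacter G)} {P : Subgroup G} {e' : MonoidAlgebra (AlgInt ⧸ M) G} {σ τ : G}
  (c : Ctx M B' P e' σ τ M₀ r) {S : Finset (IrrCharacter G)} (hS : S ⊆ bFin B)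
include hm c hS

theorem oddPat (h4 : 4 ≤ M₀)
    (hout : ∀ χ ∈ bFin B, χ ∉ S → ∀ a, sgnA a = -1 → m χ a = 0) :
    ∃ εo p, OddPat S M₀ r m εo p := by
  have hD := c.data
  have hk : 1 < (clR M₀ r (-1)).card := by have := c.card_clR; omega
  have ho : ∀ a ∈ clR M₀ r (-1), ∀ b ∈ clR M₀ r (-1), ∀ χ ∈ bFin B, χ ∉ S → m χ a = m χ b :=
    fun a ha b hb χ hχ hn => by
      rw [hout χ hχ hn a (mem_clR.1 ha).2, hout χ hχ hn b (mem_clR.1 hb).2]
  have hs : ∀ a ∈ clR M₀ r (-1), ∀ b ∈ clR M₀ r (-1), sgnA a = sgnA b :=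
    fun a ha b hb => (mem_clR.1 ha).2.trans (mem_clR.1 hb).2.symm
  have hp : ∀ a ∈ clR M₀ r (-1), ∀ b ∈ clR M₀ r (-1),
      ind a b + ind ((r : ZMod (2 * M₀)) * a) b = if a = b then 1 else 0 :=
    fun a ha b hb => hD.pair_rep (mem_clR.1 ha).1 (mem_clR.1 hb).1
  obtain ⟨ε, p, h1, h2, h3, h4⟩ := Star.star (S := S) (d := fun χ => (Char.degree χ : ℤ))
    (fun χ _ => by exact_mod_cast Char.degree_pos χ) (clR M₀ r (-1)) (fun a χ => m χ a) hk
    (fun a ha b hb => hm.deg_sub (hs a ha b hb) S hS (ho a ha b hb))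
    (fun a ha b hb hab => by
      rw [hm.gram_sub hD (hs a ha b hb) (hs a ha b hb) S hS (ho a ha b hb), hp a ha a ha,
        hp a ha b hb, hp b hb a ha, hp b hb b hb]
      simp [hab, Ne.symm hab])
    (fun a ha b hb b' hb' hab hab' hbb' => by
      rw [hm.gram_sub hD (hs a ha b hb) (hs a ha b' hb') S hS (ho a ha b hb), hp a ha a ha,
        hp a ha b' hb', hp b hb a ha, hp b hb b' hb']
      simp [Ne.symm hab, hab', hbb'])
  exact ⟨ε, p, h1, h2, h3, h4⟩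

theorem evenPat (hout : ∀ χ ∈ bFin B, χ ∉ S → ∀ a, sgnA a = 1 → m χ a = 0) :
    (∃ εe e q s, Pat S M₀ r m εe e q s) ∨ ∃ εe e q₁ q₂, ExoticPat S M₀ r m εe e q₁ q₂ := by
  have hD := c.data
  set d : IrrCharacter G → ℤ := fun χ => (Char.degree χ : ℤ) with hdd
  have hd : ∀ χ ∈ S, 0 < d χ := fun χ _ => by simp only [hdd]; exact_mod_cast Char.degree_pos χ
  have ho : ∀ {a b : ZMod (2 * M₀)}, sgnA a = 1 → sgnA b = 1 → ∀ χ ∈ bFin B, χ ∉ S →
      m χ a = m χ b := fun ha hb χ hχ hn => by rw [hout χ hχ hn _ ha, hout χ hχ hn _ hb]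
  have h0 : sgnA (0 : ZMod (2 * M₀)) = 1 := by simp [sgnA]
  have hM := hD.sgnA_M
  have hr0 : (r : ZMod (2 * M₀)) * 0 = 0 := mul_zero _
  have hM0 := hD.M_ne_zero
  by_cases h4 : 4 ≤ M₀
  · have hodd := c.odd_card_clR h4
    have he : ∀ a ∈ clR M₀ r 1, sgnA a = 1 := fun a ha => (mem_clR.1 ha).2
    have hp : ∀ a ∈ clR M₀ r 1, ∀ b ∈ clR M₀ r 1,
        ind a b + ind ((r : ZMod (2 * M₀)) * a) b = if a = b then 1 else 0 :=
      fun a ha b hb => hD.pair_rep (mem_clR.1 ha).1 (mem_clR.1 hb).1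
    have hfix : ∀ a ∈ clR M₀ r 1,
        ind (0 : ZMod (2 * M₀)) a + ind ((r : ZMod (2 * M₀)) * 0) a = 0 ∧
          ind (M₀ : ZMod (2 * M₀)) a + ind ((r : ZMod (2 * M₀)) * M₀) a = 0 := fun a ha => by
      obtain ⟨h1, h2⟩ := hD.not_rep (mem_clR.1 ha).1
      simp [hD.r_mul_M, Star.ind_ne h1, Star.ind_ne h2]
    have hz := fun a (ha : a ∈ clR M₀ r 1) => hD.pair_zero_rep (mem_clR.1 ha).1
    rcases Star.even (S := S) hd (clR M₀ r 1) (fun a χ => m χ 0 - m χ a)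
        (fun a χ => m χ (M₀ : ZMod (2 * M₀)) - m χ a) hodd
        (fun a ha b hb => by
          rw [hm.gram_sub hD (h0.trans (he a ha).symm) (h0.trans (he b hb).symm) S hS
            (ho h0 (he a ha)), (hfix b hb).1, (hz a ha).1, hp a ha b hb, hD.pair_fix hr0, if_pos rfl]
          split_ifs <;> rfl)
        (fun a ha b hb => by
          rw [hm.gram_sub hD (hM.trans (he a ha).symm) (hM.trans (he b hb).symm) S hS
            (ho hM (he a ha)), (hfix b hb).2, (hz a ha).2, hp a ha b hb, hD.pair_fix hD.r_mul_M,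
            if_pos rfl]
          split_ifs <;> rfl)
        (fun a ha b hb => by
          rw [hm.gram_sub hD (h0.trans (he a ha).symm) (hM.trans (he b hb).symm) S hS
            (ho h0 (he a ha)), (hfix b hb).1, (hz a ha).2, hp a ha b hb, hD.pair_fix hr0,
            if_neg hM0.symm]
          split_ifs <;> rfl)
        (fun a ha => hm.deg_sub (h0.trans (he a ha).symm) S hS (ho h0 (he a ha)))
        (fun a ha => hm.deg_sub (hM.trans (he a ha).symm) S hS (ho hM (he a ha)))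
        (fun a _ b _ x _ => by ring) with
      ⟨εe, e, q, s, hN⟩ | ⟨εe, e, q₁, q₂, hE⟩ | ⟨εe, e, q₁, q₂, hE⟩
    · obtain ⟨a₀, ha₀⟩ := Finset.card_pos.1 hodd.pos
      refine Or.inl ⟨εe, e, q, s, hN.εe_sign, hN.inj, hN.e_mem, hN.q_inj, hN.q_mem, hN.s_sign,
        hN.disj, fun x hx => ?_, hN.eqX⟩
      linear_combination hN.eqX a₀ ha₀ x hx - hN.eqY a₀ ha₀ x hx
    · exact Or.inr ⟨εe, e, q₁, q₂, Or.inl hE⟩
    · exact Or.inr ⟨εe, e, q₁, q₂, Or.inr hE⟩
  · left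
    have hR : clR M₀ r 1 = ∅ := Finset.card_eq_zero.1 (by
      have := c.card_clR
      obtain ⟨a, ha⟩ := hD.two_pow
      omega)
    have hn : ∑ χ ∈ S, (m χ 0 - m χ (M₀ : ZMod (2 * M₀))) * (m χ 0 - m χ (M₀ : ZMod (2 * M₀))) =
        4 := by
      rw [hm.gram_sub hD (h0.trans hM.symm) (h0.trans hM.symm) S hS (ho h0 hM), hD.pair_fix hr0,
        hD.pair_fix hr0, hD.pair_fix hD.r_mul_M, hD.pair_fix hD.r_mul_M]
      simp [hM0, hM0.symm]
    obtain ⟨q, s, hqi, hqm, hss, hx⟩ :=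
      four_signs hd hn (hm.deg_sub (h0.trans hM.symm) S hS (ho h0 hM))
    refine ⟨1, fun _ => q 0, q, s, Or.inl rfl, ?_, ?_, hqi, hqm, hss, ?_, hx, ?_⟩ <;>
      simp [hR, Set.InjOn]

end Cols

end Cfsg.Agent.TameBlock
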