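import Cfsg.Agent.Lib.TameBlock.Shape
import Cfsg.Agent.Lib.Blocks.ContributionCongr

/-!
# The sign of the central involution

When `z` is central it acts trivially in the characters of height zero, and a row has sign
`sg χ` at `z`.
-/

set_option autoImplicit false
set_option linter.unusedSectionVars false
set_option linter.style.haveILetI false

namespace Cfsg.Agent.TameBlock

open Cfsg Blocks MonoidAlgebra
open Cfsg.Agent.BrauerPairs (blk blkG conjEl IsMax IsPair mapBlock conjIso compIrr regDot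
  regDot_comm regDot_eq_zero)
open Cfsg.Agent.Blocks.NilRank
open ZMod (stdAddChar)
open scoped Classical ComplexConjugate

universe u

variable {G : Type u} [Group G] [Fintype G] {M : Ideal AlgInt} [M.IsMaximal] [Fact (Nat.Prime 2)]
  [CharP (AlgInt ⧸ M) 2] {B : Set (IrrCharacter G)} {P : Subgroup G}
  {e : MonoidAlgebra (AlgInt ⧸ M) G} {σ τ : G} {M₀ r : ℕ}

theorem ev_half_odd [NeZero (2 * M₀)] (hD : TData P σ τ M₀ r) {c : ZMod (2 * M₀) → ℤ}
    (hc : ∀ a, c ((r : ZMod (2 * M₀)) * a) = c a) (hsupp : ∀ a, c a ≠ 0 → sgnA a = -1) :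
    ev c ((M₀ / 2 : ℕ) : ZMod (2 * M₀)) = 0 := by
  set h : ZMod (2 * M₀) := ((M₀ / 2 : ℕ) : ZMod (2 * M₀)) with hh
  have e1 : ev c (-h) = ev c h := by
    rw [← hD.r_mul_half, ev_mul hD.r_sq]
    simp only [hc]
    rfl
  have e2 : ev c h + ev c (-h) = 0 := by
    rw [ev, ev, ← Finset.sum_add_distrib]
    refine Finset.sum_eq_zero fun a _ => ?_
    by_cases ha : c a = 0
    · simp [ha]
    have hM : a * h = a * (M₀ : ZMod (2 * M₀)) + a * -h := by
      linear_combination a * hD.half_add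
    rw [← mul_add, hM, AddChar.map_add_eq_mul, stdAddChar_mul_M, hsupp a ha]
    push_cast
    ring
  rw [e1] at e2
  linear_combination e2 / 2

namespace Ctx

variable (c : Ctx M B P e σ τ M₀ r)
include c

/-- The subsection at `w` misses the characters in which `z` acts by `-1`. -/
theorem mU_w_eq_zero [NeZero (2 * M₀)] (hcen : σ ^ M₀ ∈ Subgroup.center G) {χ : IrrCharacter G}
    (hχ : zScal χ.1 (σ ^ M₀) = -1) (ψ : IrrCharacter G) :
    mU 2 P e (rot σ ((M₀ / 2 : ℕ) : ZMod (2 * M₀))) ψ χ = 0 := by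
  have hD := c.data
  have hpM := c.pM
  obtain ⟨hh0, hhM⟩ := hD.half_ne
  set hh : ZMod (2 * M₀) := ((M₀ / 2 : ℕ) : ZMod (2 * M₀)) with hhh
  set w := rot σ hh with hw
  set L := Subgroup.centralizer ({w} : Set G) with hL
  set b := blkSet M L (eU 2 P e w) with hbdef
  obtain ⟨hnil, -, e', hN⟩ := c.exists_nested_rot hh0 hhM
  obtain ⟨χ₀, -, hd⟩ := exists_decomposition_one c.modular hnil
  have hzt : ∀ x : G, x * σ ^ M₀ = σ ^ M₀ * x := fun x => Subgroup.mem_center_iff.1 hcen x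
  have hwL : w ∈ L := Subgroup.mem_centralizer_singleton_iff.2 rfl
  have hwc : ∀ s ∈ L, Commute w s := fun s hs => (Subgroup.mem_centralizer_singleton_iff.1 hs).symm
  have hzL : σ ^ M₀ ∈ L := Subgroup.mem_centralizer_singleton_iff.2 (hzt w).symm
  have hzc : ∀ s ∈ L, Commute (σ ^ M₀) s := fun s _ => (hzt s).symm
  have hwinv : τ⁻¹ * w * τ = w⁻¹ := by rw [hw, hD.τ_inv_conj_rot, hhh, hD.r_mul_half, hD.rot_neg]
  have hwconj : τ * w * τ⁻¹ = σ ^ M₀ * w := by
    rw [hw, hD.τ_conj_rot, hhh, hD.r_mul_half, ← hD.z_eq, ← hD.rot_add]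
    congr 1
    linear_combination -hD.half_add - hD.M_double
  have hτN : τ⁻¹ ∈ Subgroup.normalizer (L : Set G) := by
    refine BrauerPairs.mem_normalizer_of_conj_le fun x hx => ?_
    have hx' := Subgroup.mem_centralizer_singleton_iff.1 hx
    refine Subgroup.mem_centralizer_singleton_iff.2 ?_
    have hwi : τ * w⁻¹ * τ⁻¹ = w := by rw [← hwinv]; group
    calc τ⁻¹ * x * τ⁻¹⁻¹ * w = τ⁻¹ * (x * (τ * w * τ⁻¹)) * τ := by group
      _ = τ⁻¹ * (x * w⁻¹) * τ := by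
          rw [show τ * w * τ⁻¹ = w⁻¹ by
            rw [← inv_inj, inv_inv]; conv_rhs => rw [← hwi]
            group]
      _ = τ⁻¹ * (w⁻¹ * x) * τ := by rw [(Commute.inv_right (show Commute x w from hx')).eq]
      _ = τ⁻¹ * w⁻¹ * τ * (τ⁻¹ * x * τ) := by group
      _ = w * (τ⁻¹ * x * τ⁻¹⁻¹) := by
          rw [show τ⁻¹ * w⁻¹ * τ = (τ⁻¹ * w * τ)⁻¹ by group, hwinv, inv_inv, inv_inv]
  set ι := conjIso τ⁻¹ (BrauerPairs.mem_iff_conj_mem hτN)
  have hι : ∀ x : L, ((ι x : L) : G) = τ * x * τ⁻¹ := fun x => by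
    show τ⁻¹⁻¹ * (x : G) * τ⁻¹ = _
    rw [inv_inv]
  have hbwe : blk M L b = eU 2 P e w := (blkSet_spec (isBlockIdem_eU c.pair (hD.rot_mem _))).2
  have hmap : mapBlock ι b = b := by
    refine BrauerPairs.blk_injective L (BrauerPairs.isPBlock_mapBlock ι hN.block) hN.block ?_
    rw [BrauerPairs.blk_mapBlock_conjIso, hbwe, ← eU_conj c.pair (hD.rot_mem _) (inv_mem hD.τ_mem),
      inv_inv, hwinv]
    exact eU_congr c.pair (hD.rot_mem _) (inv_mem (hD.rot_mem _)) Subgroup.zpowers_inv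
  set sw := compIrr ι
  have hsw : ∀ θ, sw θ ∈ b ↔ θ ∈ b := fun θ => by
    conv_lhs => rw [← hmap]
    exact sw.injective.mem_set_image
  let n : IrrCharacter L → ℂ := fun θ => classInner (fun x : L => χ.1 x) θ.1
  have hnsw : ∀ θ, n (sw θ) = n θ := by
    intro θ
    show classInner _ _ = classInner _ _
    simp only [classInner]
    congr 1
    refine Fintype.sum_equiv ι.toEquiv _ _ fun x => ?_
    show χ.1 (x : G) * conj ((sw θ).1 x) = χ.1 ((ι x : L) : G) * conj (θ.1 (ι x))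
    rw [hι, irr_classFun χ]
    rfl
  have hzn : ∀ θ, xScal (σ ^ M₀) θ * n θ = -n θ := by
    intro θ
    have hGz : Subgroup.centralizer ({σ ^ M₀} : Set G) = ⊤ :=
      eq_top_iff.2 fun x _ => Subgroup.mem_centralizer_singleton_iff.2 (hzt x)
    rw [← classInner_transFun hzL hzc χ θ,
      show transFun (H := L) (σ ^ M₀) χ.1 = (-1 : ℂ) • fun x : L => χ.1 x from funext fun x => by
        show χ.1 (σ ^ M₀ * x) = _
        rw [apply_zmul hGz, hχ]
        rfl, Char.classInner_smul_left]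
    simp [n]
  have hswap : ∀ θ, (sw θ).1 ⟨w, hwL⟩ = xScal (σ ^ M₀) θ * θ.1 ⟨w, hwL⟩ ∧ (sw θ).1 1 = θ.1 1 := by
    intro θ
    refine ⟨?_, congrArg θ.1 (map_one ι)⟩
    show θ.1 (ι ⟨w, hwL⟩) = _
    rw [← apply_xmul hzL hzc θ ⟨w, hwL⟩]
    exact congrArg θ.1 (Subtype.ext (by rw [hι]; exact hwconj))
  have hzero : ∑ θ ∈ bFin b, xScal w θ * n θ * θ.1 1 = 0 := by
    have h : ∑ θ ∈ bFin b, xScal w θ * n θ * θ.1 1 = -∑ θ ∈ bFin b, xScal w θ * n θ * θ.1 1 := by
      rw [← Finset.sum_neg_distrib]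
      refine Finset.sum_equiv sw.symm (fun θ => ?_) fun θ _ => ?_
      · rw [mem_bFin, mem_bFin, ← hsw (sw.symm θ), Equiv.apply_symm_apply]
      · conv_lhs => rw [← sw.apply_symm_apply θ]
        have hx : ∀ θ, xScal w θ = θ.1 ⟨w, hwL⟩ / θ.1 1 := fun θ => by rw [xScal, dif_pos hwL]
        simp only [hx, hnsw, (hswap _).1, (hswap _).2]
        linear_combination ((sw.symm θ).1 ⟨w, hwL⟩ / (sw.symm θ).1 1 * (sw.symm θ).1 1) *
          hzn (sw.symm θ)
    linear_combination h / 2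
  rw [mU, sectF_eq hwL hwc]
  refine Finset.sum_eq_zero fun η hη => ?_
  have hηb := (Finset.mem_filter.1 hη).2
  suffices h : regDot 2 (transFun (H := L) w χ.1) η.1 = 0 by
    rw [h, map_zero, mul_zero]
  rw [regDot, Char.eq_sum_classInner_smul (isClassFunction_transFun hwc (irr_classFun χ)),
    BrauerPairs.regFun_sum, Char.classInner_sum_left]
  simp only [Char.classInner_smul_left]
  show ∑ θ : IrrCharacter L, classInner (transFun w χ.1) θ.1 * regDot 2 θ.1 η.1 = 0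
  rw [← Finset.sum_subset (Finset.subset_univ (bFin b)) fun θ _ hθ => by
    rw [regDot_comm Fact.out θ η, regDot_eq_zero hpM Fact.out hN.block hηb (mt mem_bFin.2 hθ),
      mul_zero]]
  have h1 : χ₀.1 1 ≠ 0 := irr_one_ne_zero χ₀
  refine (mul_eq_zero.1 (?_ : χ₀.1 1 * ∑ θ ∈ bFin b,
    classInner (transFun w χ.1) θ.1 * regDot 2 θ.1 η.1 = 0)).resolve_left h1
  rw [Finset.mul_sum, Finset.sum_congr rfl fun θ hθ => show χ₀.1 1 *
      (classInner (transFun w χ.1) θ.1 * regDot 2 θ.1 η.1) =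
      (xScal w θ * n θ * θ.1 1) * regDot 2 χ₀.1 η.1 by
    obtain ⟨d, hdθ⟩ := hd θ (mem_bFin.1 hθ)
    have hreg : Char.regFun 2 θ.1 = (d : ℂ) • Char.regFun 2 χ₀.1 := funext fun s => by
      simp only [Char.regFun, Pi.smul_apply, smul_eq_mul]
      split_ifs with hs
      · rw [mul_zero]
      · exact hdθ s hs
    rw [classInner_transFun hwL hwc, regDot, hreg, Char.classInner_smul_left, ← regDot,
      hdθ 1 (by simp [IsPRegular])]
    show _ * (xScal w θ * n θ * _) = _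
    ring]
  rw [← Finset.sum_mul, hzero, zero_mul]

theorem mU_w_self_ne_zero [NeZero (2 * M₀)] {χ : IrrCharacter G} (hχ : χ ∈ B)
    (h0 : blockHeight 2 B χ.1 = 0) :
    mU 2 P e (rot σ ((M₀ / 2 : ℕ) : ZMod (2 * M₀))) χ χ ≠ 0 := by
  have hu := c.data.rot_mem ((M₀ / 2 : ℕ) : ZMod (2 * M₀))
  obtain ⟨k, hk⟩ := exists_orderOf_mem c.isMax.1.1.1 hu
  intro h
  refine not_memLocalIdeal_contribution c.pM hk
    (isInducedBlock_eU c.pM c.block c.isMax.1 hu) hχ h0 hχ h0 ?_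
  rw [← mU_eq_contribution, h, mul_zero]
  exact memLocalIdeal_zero

theorem regDot_ne_zero {χ χ₀ : IrrCharacter G} (hχ : χ ∈ B) (hχ₀ : χ₀ ∈ B)
    (h0 : blockHeight 2 B χ₀.1 = 0) : regDot 2 χ₀.1 χ.1 ≠ 0 := fun h => by
  obtain ⟨cc, hcc⟩ := BrauerPairs.exists_int_regDot c.pM Fact.out c.block hχ₀
  refine (BrauerPairs.intCoeff_of_height_zero c.pM Fact.out c.block hχ₀ hχ h0 (hcc χ)).1 ?_
  have := hcc χ
  rw [h, mul_zero] at this
  exact_mod_cast this.symm

/-- Characters of height zero have sign one. -/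
theorem sg_of_height_zero [NeZero (2 * M₀)] {m : IrrCharacter G → ZMod (2 * M₀) → ℤ}
    {sg : IrrCharacter G → ℤ} (hR : RotParam B P e σ M₀ r m sg) {χ : IrrCharacter G} (hχ : χ ∈ B)
    (h0 : blockHeight 2 B χ.1 = 0) : sg χ = 1 := by
  have hD := c.data
  obtain ⟨hh0, hhM⟩ := hD.half_ne
  by_contra h
  have hs : sg χ = -1 := (Int.isUnit_iff.1 (IsUnit.of_mul_eq_one _ (hR.sg_sq χ))).resolve_left h
  refine c.mU_w_self_ne_zero hχ h0 ?_
  have := hR.sect _ hh0 hhM χ χ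
  rw [ev_half_odd hD (hR.symm χ) (fun a ha => (hR.sep χ a ha).trans hs), zero_mul] at this
  exact (mul_eq_zero.1 this).resolve_left (Nat.cast_ne_zero.2 (NeZero.ne _))

/-- `z` acts in `χ` by `sg χ`. -/
theorem zScal_eq_sg [NeZero (2 * M₀)] (hcen : σ ^ M₀ ∈ Subgroup.center G)
    {m : IrrCharacter G → ZMod (2 * M₀) → ℤ} {sg : IrrCharacter G → ℤ}
    (hR : RotParam B P e σ M₀ r m sg) {χ : IrrCharacter G} (hχ : χ ∈ B) :
    zScal χ.1 (σ ^ M₀) = (sg χ : ℂ) := by
  have hGz : Subgroup.centralizer ({σ ^ M₀} : Set G) = ⊤ := eq_top_iff.2 fun x _ =>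
    Subgroup.mem_centralizer_singleton_iff.2 (Subgroup.mem_center_iff.1 hcen x)
  obtain ⟨χ₀, hχ₀, h0⟩ := Blocks.exists_height_zero c.pM c.block
  obtain ⟨s₀, hs₀, hz₀⟩ := exists_zScal_int hGz c.data.z_sq χ₀
  have h1 : s₀ = 1 := by
    refine (Int.isUnit_iff.1 (IsUnit.of_mul_eq_one _ hs₀)).resolve_right fun h => ?_
    exact c.mU_w_self_ne_zero hχ₀ h0 (c.mU_w_eq_zero hcen (by rw [hz₀, h]; norm_num) χ₀)
  obtain ⟨s, -, hz⟩ := exists_zScal_int hGz c.data.z_sq χ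
  have h := hR.z_sect χ₀ hχ₀ χ
  rw [mU_central c.pM c.block c.isMax c.data.z_mem hGz hχ₀ χ, mU_one c.pM c.block c.isMax hχ₀ χ,
    hz₀, hz, map_intCast, h1, c.sg_of_height_zero hR hχ₀ h0] at h
  rw [hz]
  have := mul_right_cancel₀ (c.regDot_ne_zero hχ hχ₀ h0) h
  simpa using this

end Ctx

end Cfsg.Agent.TameBlock
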